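import Cfsg.Agent.ResidualThree.Psl.Assembly

/-!
The congruences for the ambient field when the core has quotient of order 360.
-/

set_option autoImplicit false

namespace Cfsg.Agent.ResidualThree.Psl

open Matrix Cfsg Cfsg.Geo Cfsg.Agent.PrimeDim
open scoped MatrixGroups

universe u

theorem pow_mod_thirty {a : ℕ} (h : a % 30 = 1 ∨ a % 30 = 19) (n : ℕ) :
    a ^ n % 30 = 1 ∨ a ^ n % 30 = 19 := by
  induction n with
  | zero => exact Or.inl rfl
  | succ n ih =>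
    rw [pow_succ, Nat.mul_mod]
    rcases ih with e | e <;> rcases h with e' | e' <;> rw [e, e'] <;> simp

variable {K : Type u} [Field K] [Fintype K] {p α : ℕ} [Fact p.Prime] [CharP K p]
  {X P : Subgroup (GL (Fin 3) K)}

/-- The ambient field when the core has quotient of order 360. -/
theorem mod_thirty (hp : p ≠ 2) (D : Data p α X P)
    (hc : (Nat.card K = p ∧ (p % 15 = 1 ∨ p % 15 = 4)) ∨
       (Nat.card K = p ^ 2 ∧ p ≠ 3 ∧
        (((p % 5 = 2 ∨ p % 5 = 3) ∧ ∃ g ∈ P, (mat g⁻¹).trace ≠ (mat g).trace ^ p) ∨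
         ((p % 15 = 11 ∨ p % 15 = 14 ∨ p = 5) ∧ ∀ g ∈ P, (mat g⁻¹).trace = (mat g).trace ^ p)))) :
    (p = 5 ∧ Even α ∧ Nat.card K = 25) ∨ (p ≠ 5 ∧ (p ^ α % 30 = 1 ∨ p ^ α % 30 = 19)) := by
  obtain ⟨b, hb, hbα⟩ := exists_exponent D
  rw [← Nat.card_eq_fintype_card] at hb
  have hpr : p.Prime := Fact.out
  have hinj := Nat.pow_right_injective hpr.two_le
  have hodd : p % 2 = 1 := hpr.mod_two_eq_one_iff_ne_two.2 hp
  rcases hc with ⟨-, hm⟩ | ⟨hK, hp3, -⟩
  · exact Or.inr ⟨by omega, pow_mod_thirty (by omega) α⟩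
  · obtain rfl : b = 2 := hinj (hb.symm.trans hK)
    obtain ⟨c, rfl⟩ := hbα
    by_cases h5 : p = 5
    · subst h5
      exact Or.inl ⟨rfl, even_two_mul c, by rw [hK]; norm_num⟩
    refine Or.inr ⟨h5, ?_⟩
    rw [pow_mul]
    refine pow_mod_thirty ?_ c
    have h3 : p % 3 ≠ 0 := fun e => hp3
      ((Nat.prime_dvd_prime_iff_eq Nat.prime_three hpr).1 (Nat.dvd_of_mod_eq_zero e)).symm
    have h5' : p % 5 ≠ 0 := fun e => h5
      ((Nat.prime_dvd_prime_iff_eq (by norm_num) hpr).1 (Nat.dvd_of_mod_eq_zero e)).symm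
    have hlt : p % 30 < 30 := Nat.mod_lt _ (by norm_num)
    rw [Nat.pow_mod]
    interval_cases hr : p % 30 <;> first | omega | simp

end Cfsg.Agent.ResidualThree.Psl
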