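import Cfsg.Agent.ResidualThree.Psl.Defs
import Cfsg.Agent.PrimeDim.Gram
import Mathlib.FieldTheory.Finite.Basic
import Mathlib.LinearAlgebra.CrossProduct
import Mathlib.LinearAlgebra.Matrix.GeneralLinearGroup.Projective

/-!
The case where the core fixes a symmetric form: the group embeds in the projective linear group of degree two.
-/

set_option autoImplicit false

open scoped MatrixGroups
open Matrix Cfsg

namespace Cfsg.Agent.ResidualThree.Psl

universe u

variable {K : Type u} [Field K]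

local notation "M3" => Matrix (Fin 3) (Fin 3) K
local notation "M2" => Matrix (Fin 2) (Fin 2) K

/-- The form `y² + x z`. -/
def jmat : M3 := !![0, 0, 1; 0, 2, 0; 1, 0, 0]

/-- Conjugation on trace zero matrices, multiplied by the determinant. -/
def adRaw (h : M2) : M3 :=
  !![h 0 0 ^ 2, -2 * h 0 0 * h 0 1, -(h 0 1 ^ 2);
     -(h 0 0 * h 1 0), h 0 0 * h 1 1 + h 0 1 * h 1 0, h 0 1 * h 1 1;
     -(h 1 0 ^ 2), 2 * h 1 0 * h 1 1, h 1 1 ^ 2]

theorem adRaw_mul (g h : M2) : adRaw (g * h) = adRaw g * adRaw h := by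
  ext i j
  fin_cases i <;> fin_cases j <;>
    simp [adRaw, Matrix.mul_apply, Fin.sum_univ_three, Fin.sum_univ_two] <;> ring

theorem adRaw_one : adRaw (1 : M2) = 1 := by
  ext i j
  fin_cases i <;> fin_cases j <;> simp [adRaw]

theorem det_adRaw (h : M2) : (adRaw h).det = h.det ^ 3 := by
  simp [adRaw, Matrix.det_fin_three, Matrix.det_fin_two]; ring

theorem adRaw_jmat (h : M2) : (adRaw h)ᵀ * jmat * adRaw h = h.det ^ 2 • jmat := by
  ext i j
  fin_cases i <;> fin_cases j <;>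
    simp [adRaw, jmat, Matrix.mul_apply, Fin.sum_univ_three, Matrix.det_fin_two] <;> ring

/-- Conjugation on trace zero matrices, as a unit. -/
def adU : GL (Fin 2) K →* GL (Fin 3) K :=
  Units.map
    { toFun := adRaw, map_one' := adRaw_one, map_mul' := adRaw_mul : M2 →* M3 }

theorem adU_val (h : GL (Fin 2) K) : (adU h : M3) = adRaw (h : M2) := rfl

/-- The normalised conjugation. -/
def ad : GL (Fin 2) K →* GL (Fin 3) K where
  toFun h := Units.map (Matrix.scalar (Fin 3) : K →+* M3).toMonoidHom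
    (Matrix.GeneralLinearGroup.det h)⁻¹ * adU h
  map_one' := by simp
  map_mul' g h := Units.ext (by
    simp only [Units.val_mul, Units.coe_map, adU_val, map_mul, mul_inv, adRaw_mul,
      Matrix.scalar_apply, ← Matrix.smul_one_eq_diagonal, RingHom.toMonoidHom_eq_coe,
      MonoidHom.coe_coe, Matrix.smul_mul, Matrix.mul_smul, one_mul, smul_smul])

theorem ad_val (h : GL (Fin 2) K) :
    (ad h : M3) = ((h : M2).det)⁻¹ • adRaw (h : M2) := by
  show (Matrix.scalar (Fin 3) ((((Matrix.GeneralLinearGroup.det h)⁻¹ : Kˣ)) : K) : M3) * adRaw (h : M2) = _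
  rw [Units.val_inv_eq_inv_val, Matrix.scalar_apply, ← Matrix.smul_one_eq_diagonal, Matrix.smul_mul,
    one_mul]
  rfl

/-- The kernel consists of scalars. -/
theorem ad_eq_one {h : GL (Fin 2) K} (hh : ad h = 1) :
    h ∈ Subgroup.center (GL (Fin 2) K) := by
  have hd : (h : M2).det ≠ 0 := ((Matrix.isUnit_iff_isUnit_det _).1 h.isUnit).ne_zero
  have e := congrArg (fun x : GL (Fin 3) K => (x : M3)) hh
  simp only [ad_val, Units.val_one] at e
  have e1 : adRaw (h : M2) = (h : M2).det • (1 : M3) := by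
    rw [← e, smul_smul, mul_inv_cancel₀ hd, one_smul]
  have h00 : adRaw (h : M2) 0 0 = ((h : M2).det • (1 : M3)) 0 0 := by rw [e1]
  have h02 : adRaw (h : M2) 0 2 = ((h : M2).det • (1 : M3)) 0 2 := by rw [e1]
  have h20 : adRaw (h : M2) 2 0 = ((h : M2).det • (1 : M3)) 2 0 := by rw [e1]
  simp [adRaw] at h00 h02 h20
  rw [Matrix.det_fin_two, h02, h20] at h00 hd
  simp only [mul_zero, sub_zero] at h00 hd
  have had : (h : M2) 0 0 = (h : M2) 1 1 :=
    mul_left_cancel₀ (a := (h : M2) 0 0) (fun h0 => hd (by rw [h0, zero_mul])) (by rw [← h00, _root_.sq])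
  rw [Subgroup.mem_center_iff]
  intro g
  refine Units.ext ?_
  have hscal : (h : M2) = (h : M2) 0 0 • (1 : M2) := by
    ext i j
    fin_cases i <;> fin_cases j <;> simp [h02, h20, had]
  rw [Units.val_mul, Units.val_mul, hscal, Matrix.mul_smul, Matrix.smul_mul, mul_one, one_mul]

theorem scalar_ad : (ad (K := K)).comp (Matrix.GeneralLinearGroup.scalar (Fin 2)) = 1 := by
  refine MonoidHom.ext fun c => Units.ext ?_
  rw [MonoidHom.comp_apply, MonoidHom.one_apply]
  rw [ad_val, Units.val_one]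
  have hc : (c : K) ≠ 0 := c.ne_zero
  ext i j
  fin_cases i <;> fin_cases j <;> simp [adRaw, Matrix.det_fin_two] <;> field_simp

/-- The projective group acts. -/
def psi : Matrix.ProjGenLinGroup (Fin 2) K →* GL (Fin 3) K :=
  Matrix.ProjGenLinGroup.lift ad scalar_ad

theorem psi_mk (h : GL (Fin 2) K) : psi (Matrix.ProjGenLinGroup.mk h) = ad h := rfl

theorem psi_injective : Function.Injective (psi (K := K)) := by
  rw [injective_iff_map_eq_one]
  intro x hx
  induction x using Matrix.ProjGenLinGroup.induction_on with | mk g => ?_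
  rw [psi_mk] at hx
  rw [Matrix.ProjGenLinGroup.mk_eq_one]
  exact ad_eq_one hx

/-- Every rotation is a conjugation. -/
theorem exists_ad (h2 : (2 : K) ≠ 0) {T : GL (Fin 3) K} (hT : (T : M3)ᵀ * jmat * (T : M3) = jmat)
    (hdet : (T : M3).det = 1) : T ∈ (psi (K := K)).range := by
  have hcol : ∃ h : GL (Fin 2) K, ∀ i, (ad h : M3) i 0 = (T : M3) i 0 := by
    have hq := congrFun (congrFun hT 0) 0
    simp [jmat, Matrix.mul_apply, Fin.sum_univ_three] at hq
    by_cases hx : (T : M3) 0 0 = 0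
    · have hy : (T : M3) 1 0 = 0 := by
        rw [hx] at hq
        have : (2 : K) * ((T : M3) 1 0 * (T : M3) 1 0) = 0 := by linear_combination hq
        exact mul_self_eq_zero.1 ((mul_eq_zero.1 this).resolve_left h2)
      have hz : (T : M3) 2 0 ≠ 0 := by
        intro hz
        rw [Matrix.det_fin_three, hx, hy, hz] at hdet
        simp at hdet
      refine ⟨Matrix.GeneralLinearGroup.mkOfDetNeZero !![0, 1 / (T : M3) 2 0; 1, 0]
        (by simp [Matrix.det_fin_two, hz]), fun i => ?_⟩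
      rw [ad_val]
      fin_cases i <;> simp [adRaw, Matrix.det_fin_two, hx, hy]
    · have hy2 : (T : M3) 2 0 * (T : M3) 0 0 = -((T : M3) 1 0 * (T : M3) 1 0) := by
        have : (2 : K) * ((T : M3) 2 0 * (T : M3) 0 0 + (T : M3) 1 0 * (T : M3) 1 0) = 0 := by
          linear_combination hq
        linear_combination (mul_eq_zero.1 this).resolve_left h2
      refine ⟨Matrix.GeneralLinearGroup.mkOfDetNeZero
        !![1, 0; -(T : M3) 1 0 / (T : M3) 0 0, 1 / (T : M3) 0 0]
        (by simp [Matrix.det_fin_two, hx]), fun i => ?_⟩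
      rw [ad_val]
      fin_cases i <;> simp [adRaw, Matrix.det_fin_two] <;> field_simp
      linear_combination -hy2
  obtain ⟨h, hh⟩ := hcol
  set T1 : GL (Fin 3) K := (ad h)⁻¹ * T with hT1
  have hadJ : ∀ k : GL (Fin 2) K, (ad k : M3)ᵀ * jmat * (ad k : M3) = jmat := by
    intro k
    have hd : (k : M2).det ≠ 0 := ((Matrix.isUnit_iff_isUnit_det _).1 k.isUnit).ne_zero
    rw [ad_val, Matrix.transpose_smul, Matrix.smul_mul, Matrix.smul_mul, Matrix.mul_smul, adRaw_jmat,
      smul_smul, smul_smul, show ((k : M2).det)⁻¹ * ((k : M2).det)⁻¹ * (k : M2).det ^ 2 = 1 by field_simp,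
      one_smul]
  have hJ1 : (T1 : M3)ᵀ * jmat * (T1 : M3) = jmat := by
    rw [hT1, ← map_inv, Units.val_mul, Matrix.transpose_mul,
      show (T : M3)ᵀ * (ad h⁻¹ : M3)ᵀ * jmat * ((ad h⁻¹ : M3) * (T : M3)) =
        (T : M3)ᵀ * ((ad h⁻¹ : M3)ᵀ * jmat * (ad h⁻¹ : M3)) * (T : M3) by simp only [mul_assoc],
      hadJ, hT]
  have hd1 : (T1 : M3).det = 1 := by
    have hd : ∀ k : GL (Fin 2) K, (ad k : M3).det = 1 := fun k => by
      have hd : (k : M2).det ≠ 0 := ((Matrix.isUnit_iff_isUnit_det _).1 k.isUnit).ne_zero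
      rw [ad_val, Matrix.det_smul, det_adRaw, Fintype.card_fin, ← mul_pow, inv_mul_cancel₀ hd, one_pow]
    rw [hT1, ← map_inv, Units.val_mul, Matrix.det_mul, hd, hdet, one_mul]
  have hc1 : ∀ i, (T1 : M3) i 0 = (1 : M3) i 0 := by
    intro i
    rw [hT1, Units.val_mul, ← Units.inv_mul (ad h), Matrix.mul_apply, Matrix.mul_apply]
    simp only [hh]
  obtain ⟨p, hp⟩ : ∃ p, (T1 : M3) 0 1 = p := ⟨_, rfl⟩
  obtain ⟨r, hr⟩ : ∃ r, (T1 : M3) 0 2 = r := ⟨_, rfl⟩
  obtain ⟨s, hs⟩ : ∃ s, (T1 : M3) 1 1 = s := ⟨_, rfl⟩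
  obtain ⟨t, ht⟩ : ∃ t, (T1 : M3) 1 2 = t := ⟨_, rfl⟩
  obtain ⟨v, hv⟩ : ∃ v, (T1 : M3) 2 1 = v := ⟨_, rfl⟩
  obtain ⟨w, hw⟩ : ∃ w, (T1 : M3) 2 2 = w := ⟨_, rfl⟩
  have e01 := congrFun (congrFun hJ1 0) 1
  have e02 := congrFun (congrFun hJ1 0) 2
  have e11 := congrFun (congrFun hJ1 1) 1
  have e12 := congrFun (congrFun hJ1 1) 2
  have e22 := congrFun (congrFun hJ1 2) 2
  have c0 : (T1 : M3) 0 0 = 1 := by rw [hc1]; simp
  have c1 : (T1 : M3) 1 0 = 0 := by rw [hc1]; simp
  have c2 : (T1 : M3) 2 0 = 0 := by rw [hc1]; simp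
  simp [jmat, Matrix.mul_apply, Fin.sum_univ_three, c0, c1, c2, hp, hr, hs, ht, hv, hw] at e01 e02 e11 e12 e22
  simp [Matrix.det_fin_three, c0, c1, c2, hs, ht, hv, hw] at hd1
  subst e01 e02
  have hs1 : s = 1 := by linear_combination hd1
  subst hs1
  have hp' : p = -2 * t := by linear_combination e12
  have hr' : r = -(t * t) := by
    have : (2 : K) * (r + t * t) = 0 := by linear_combination e22
    linear_combination (mul_eq_zero.1 this).resolve_left h2
  let k : GL (Fin 2) K := Matrix.GeneralLinearGroup.mkOfDetNeZero !![1, t; 0, 1]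
    (by simp [Matrix.det_fin_two])
  have hk : ad k = T1 := by
    refine Units.ext ?_
    rw [ad_val]
    ext i j
    fin_cases i <;> fin_cases j <;>
      simp [k, adRaw, Matrix.det_fin_two, c0, c1, c2, hp, hr, hs, ht, hv, hw, hp', hr', _root_.sq]
  refine ⟨Matrix.ProjGenLinGroup.mk (h * k), ?_⟩
  rw [psi_mk, map_mul, hk, hT1, mul_inv_cancel_left]

/-- An isotropic vector. -/
theorem exists_isotropic [Fintype K] (h2 : (2 : K) ≠ 0) {G : M3} (hG : G.det ≠ 0) (hs : Gᵀ = G) :
    ∃ e : Fin 3 → K, e ≠ 0 ∧ e ⬝ᵥ (G *ᵥ e) = 0 := by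
  have s10 : G 1 0 = G 0 1 := congrFun (congrFun hs 0) 1
  have s20 : G 2 0 = G 0 2 := congrFun (congrFun hs 0) 2
  have s21 : G 2 1 = G 1 2 := congrFun (congrFun hs 1) 2
  by_cases ha : G 0 0 = 0
  · refine ⟨![1, 0, 0], fun h => one_ne_zero (congrFun h 0), ?_⟩
    simp [dotProduct, Matrix.mulVec, Fin.sum_univ_three, ha]
  by_cases hb : G 0 0 * G 1 1 - G 0 1 * G 0 1 = 0
  · refine ⟨![-G 0 1, G 0 0, 0], fun h => ha (congrFun h 1), ?_⟩
    simp [dotProduct, Matrix.mulVec, Fin.sum_univ_three, s10]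
    linear_combination G 0 0 * hb
  set m := G 0 0 * G 1 1 - G 0 1 * G 0 1 with hm
  have hodd : Fintype.card K % 2 = 1 := by
    refine FiniteField.odd_card_of_char_ne_two fun h => h2 ?_
    haveI : CharP K 2 := h ▸ ringChar.charP K
    exact CharTwo.two_eq_zero
  open Polynomial in
  obtain ⟨x, y, hxy⟩ := FiniteField.exists_root_sum_quadratic
    (f := C (G 0 0) * X ^ 2 + C (G.det * m)) (g := C (G 0 0 * m) * X ^ 2)
    (by rw [degree_add_eq_left_of_degree_lt] <;>
      first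
      | exact degree_C_mul_X_pow 2 ha
      | (rw [degree_C_mul_X_pow 2 ha]; exact lt_of_le_of_lt degree_C_le (by norm_num)))
    (degree_C_mul_X_pow 2 (mul_ne_zero ha hb)) hodd
  simp at hxy
  refine ⟨![x - G 0 1 * y + (G 0 1 * G 1 2 - G 0 2 * G 1 1),
      G 0 0 * y + (G 0 2 * G 0 1 - G 0 0 * G 1 2), m],
    fun h => hb (congrFun h 2), ?_⟩
  rw [Matrix.det_fin_three, hm, s10, s20, s21] at hxy
  simp [dotProduct, Matrix.mulVec, Fin.sum_univ_three, hm, s10, s20, s21]
  linear_combination hxy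

/-- A non-degenerate symmetric form is similar to `y² + x z`. -/
theorem exists_congr_jmat [Fintype K] (h2 : (2 : K) ≠ 0) {G : M3} (hG : G.det ≠ 0) (hs : Gᵀ = G) :
    ∃ (B : GL (Fin 3) K) (c : K), c ≠ 0 ∧ (B : M3)ᵀ * G * (B : M3) = c • jmat := by
  obtain ⟨e, he, hee⟩ := exists_isotropic h2 hG hs
  have hsym : ∀ u v : Fin 3 → K, u ⬝ᵥ (G *ᵥ v) = v ⬝ᵥ (G *ᵥ u) := fun u v => by
    rw [Matrix.dotProduct_mulVec, ← Matrix.mulVec_transpose, hs, dotProduct_comm]
  have hGe : G *ᵥ e ≠ 0 := fun h => he (Matrix.eq_zero_of_mulVec_eq_zero hG h)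
  obtain ⟨k, hk⟩ := Function.ne_iff.1 hGe
  obtain ⟨f0, hf0⟩ : ∃ f0 : Fin 3 → K, f0 ⬝ᵥ (G *ᵥ e) = 1 :=
    ⟨Pi.single k ((G *ᵥ e) k)⁻¹, by rw [single_dotProduct, inv_mul_cancel₀ hk]⟩
  obtain ⟨f, hfe, hff⟩ : ∃ f : Fin 3 → K, f ⬝ᵥ (G *ᵥ e) = 1 ∧ f ⬝ᵥ (G *ᵥ f) = 0 := by
    refine ⟨f0 - (f0 ⬝ᵥ (G *ᵥ f0) / 2) • e, ?_, ?_⟩
    · rw [sub_dotProduct, smul_dotProduct, hf0, hee, smul_zero, sub_zero]
    · simp only [Matrix.mulVec_sub, Matrix.mulVec_smul, sub_dotProduct, dotProduct_sub, smul_dotProduct,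
        dotProduct_smul, smul_eq_mul, hee, hf0, hsym e f0]
      field_simp
      ring
  set m : Fin 3 → K := (G *ᵥ e) ⨯₃ (G *ᵥ f) with hmdef
  have hme : m ⬝ᵥ (G *ᵥ e) = 0 := by rw [dotProduct_comm]; exact dot_self_cross _ _
  have hmf : m ⬝ᵥ (G *ᵥ f) = 0 := by rw [dotProduct_comm]; exact dot_cross_self _ _
  have hm0 : m ≠ 0 := by
    rw [hmdef, crossProduct_ne_zero_iff_linearIndependent, LinearIndependent.pair_iff]
    intro s t hst
    have h1 := congrArg (fun v => e ⬝ᵥ v) hst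
    have h3 := congrArg (fun v => f ⬝ᵥ v) hst
    simp only [dotProduct_add, dotProduct_smul, smul_eq_mul, dotProduct_zero, hee, hfe, hff,
      hsym e f] at h1 h3
    simp at h1 h3
    exact ⟨h3, h1⟩
  set d := m ⬝ᵥ (G *ᵥ m) with hd
  have hinj : ∀ α β γ : K, α • e + β • m + γ • f = 0 → α = 0 ∧ β = 0 ∧ γ = 0 := by
    intro α β γ h
    have h1 := congrArg (fun v => v ⬝ᵥ (G *ᵥ f)) h
    have h3 := congrArg (fun v => v ⬝ᵥ (G *ᵥ e)) h
    simp only [add_dotProduct, smul_dotProduct, smul_eq_mul, zero_dotProduct, hee, hfe, hff, hme, hmf,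
      hsym e f] at h1 h3
    simp at h1 h3
    subst h1 h3
    simp at h
    exact ⟨rfl, h.resolve_right hm0, rfl⟩
  have hcong : ∀ t : K, (Matrix.of ![t • e, m, f])ᵀᵀ * G * (Matrix.of ![t • e, m, f])ᵀ =
      !![0, 0, t; 0, d, 0; t, 0, 0] := by
    intro t
    have key : ∀ i j, ((Matrix.of ![t • e, m, f])ᵀᵀ * G * (Matrix.of ![t • e, m, f])ᵀ) i j =
        (![t • e, m, f] i) ⬝ᵥ (G *ᵥ (![t • e, m, f] j)) := by
      intro i j
      rw [Matrix.mul_assoc, Matrix.mul_apply]
      simp only [dotProduct, Matrix.mulVec, Matrix.mul_apply, Matrix.transpose_apply, Matrix.of_apply]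
    ext i j
    rw [key]
    fin_cases i <;> fin_cases j <;>
      simp [smul_dotProduct, dotProduct_smul, Matrix.mulVec_smul, hee, hfe, hff, hme, hmf, hsym e f, hsym e m,
        hsym f m, ← hd]
  have hdetM : ∀ t : K, t ≠ 0 → ((Matrix.of ![t • e, m, f])ᵀ).det ≠ 0 := by
    intro t ht h0
    rw [Matrix.det_transpose, ← Matrix.exists_vecMul_eq_zero_iff] at h0
    obtain ⟨v, hv0, hv⟩ := h0
    refine hv0 ?_
    have h : (v 0 * t) • e + v 1 • m + v 2 • f = 0 := by
      rw [← hv]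
      funext i
      simp [Matrix.vecMul, dotProduct, Fin.sum_univ_three, mul_assoc]
    obtain ⟨h1, h3, h4⟩ := hinj _ _ _ h
    funext i
    fin_cases i
    · exact (mul_eq_zero.1 h1).resolve_right ht
    · exact h3
    · exact h4
  have hd0 : d ≠ 0 := by
    intro h0
    have h1 := congrArg Matrix.det (hcong 1)
    rw [Matrix.det_mul, Matrix.det_mul, Matrix.det_transpose] at h1
    rw [Matrix.det_fin_three (!![0, 0, 1; 0, d, 0; 1, 0, 0] : M3)] at h1
    simp [h0, hG] at h1
    exact hdetM 1 one_ne_zero (by rw [Matrix.det_transpose, one_smul]; exact h1)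
  have hc : d / 2 ≠ 0 := div_ne_zero hd0 h2
  refine ⟨Matrix.GeneralLinearGroup.mkOfDetNeZero _ (hdetM _ hc), d / 2, hc, ?_⟩
  refine (hcong (d / 2)).trans ?_
  ext i j
  fin_cases i <;> fin_cases j <;> simp [jmat]
  field_simp

/-- The group embeds in the projective linear group of degree two. -/
theorem orth_embed [Fintype K] {p α : ℕ} [Fact p.Prime] [CharP K p] (hp : p ≠ 2)
    {X P : Subgroup (GL (Fin 3) K)} (D : Data p α X P) {G : M3} (hG : G.det ≠ 0) (hs : Gᵀ = G)
    (hfix : PrimeDim.Fixes (RingEquiv.refl K) P G) :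
    ∃ φ : PQ X →* Matrix.ProjGenLinGroup (Fin 2) K, Function.Injective φ := by
  classical
  have h2 : (2 : K) ≠ 0 := by
    intro h
    have h' : ((2 : ℕ) : K) = 0 := by exact_mod_cast h
    rw [CharP.cast_eq_zero_iff K p] at h'
    exact hp ((Nat.prime_dvd_prime_iff_eq (Fact.out : p.Prime) Nat.prime_two).1 h')
  obtain ⟨B, c, hc, hB⟩ := exists_congr_jmat h2 hG hs
  have hsim := PrimeDim.similar D.core.abs D.norm hG hfix
  choose lam hlam using hsim
  have hlam' : ∀ (x : GL (Fin 3) K) (hx : x ∈ X),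
      (x : M3)ᵀ * G * (x : M3) = (lam x hx : K) • G := by
    intro x hx
    have h := hlam x hx
    simpa [PrimeDim.act, PrimeDim.mat] using h
  have lam_mul : ∀ (x y : GL (Fin 3) K) (hx : x ∈ X) (hy : y ∈ X),
      lam (x * y) (mul_mem hx hy) = lam x hx * lam y hy := by
    intro x y hx hy
    refine Units.ext ?_
    have h1 := hlam' _ (mul_mem hx hy)
    have h3 : ((x * y : GL (Fin 3) K) : M3)ᵀ * G * ((x * y : GL (Fin 3) K) : M3) =
        ((lam x hx : K) * (lam y hy : K)) • G := by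
      rw [Units.val_mul, Matrix.transpose_mul,
        show (y : M3)ᵀ * (x : M3)ᵀ * G * ((x : M3) * (y : M3)) =
          (y : M3)ᵀ * ((x : M3)ᵀ * G * (x : M3)) * (y : M3) by simp only [mul_assoc],
        hlam', Matrix.mul_smul, Matrix.smul_mul, hlam', smul_smul]
    rw [h1] at h3
    obtain ⟨i, j, hij⟩ : ∃ i j, G i j ≠ 0 := by
      by_contra hcon
      push Not at hcon
      exact hG (Matrix.det_eq_zero_of_row_eq_zero 0 fun j => hcon 0 j)
    have h4 := congrFun (congrFun h3 i) j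
    simp only [Matrix.smul_apply, smul_eq_mul] at h4
    rw [Units.val_mul]
    exact mul_right_cancel₀ hij h4
  let lamHom : X →* Kˣ := MonoidHom.mk' (fun x => lam x x.2) fun x y => lam_mul x y x.2 y.2
  let mu : X →* Kˣ := (Matrix.GeneralLinearGroup.det.comp X.subtype) / lamHom
  have mu_val : ∀ x : X, (mu x : K) = ((x : GL (Fin 3) K) : M3).det / (lam x x.2 : K) := by
    intro x
    show ((Matrix.GeneralLinearGroup.det (x : GL (Fin 3) K) / lam x x.2 : Kˣ) : K) = _
    rw [Units.val_div_eq_div_val]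
    rfl
  have hsq : ∀ x : X, (((x : GL (Fin 3) K) : M3).det) ^ 2 = (lam x x.2 : K) ^ 3 := by
    intro x
    have h1 := congrArg Matrix.det (hlam' x x.2)
    rw [Matrix.det_mul, Matrix.det_mul, Matrix.det_transpose, Matrix.det_smul, Fintype.card_fin] at h1
    exact mul_right_cancel₀ hG (by linear_combination h1)
  have mu_sq : ∀ x : X, (mu x : K) ^ 2 = lam x x.2 := by
    intro x
    rw [mu_val, div_pow, hsq]
    field_simp
  let sc : Kˣ →* GL (Fin 3) K := Units.map (Matrix.scalar (Fin 3) : K →+* M3).toMonoidHom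
  have sc_val : ∀ u : Kˣ, (sc u : M3) = (u : K) • (1 : M3) := fun u => by
    show (Matrix.scalar (Fin 3) (u : K) : M3) = _
    rw [Matrix.scalar_apply, ← Matrix.smul_one_eq_diagonal]
  let nu : X →* GL (Fin 3) K :=
    { toFun := fun x => sc (mu x)⁻¹ * (B⁻¹ * (x : GL (Fin 3) K) * B)
      map_one' := by simp
      map_mul' := fun x y => by
        rw [map_mul, mul_inv, map_mul, Subgroup.coe_mul]
        have hcomm : ∀ g : GL (Fin 3) K, sc (mu y)⁻¹ * g = g * sc (mu y)⁻¹ := fun g => Units.ext (by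
          rw [Units.val_mul, Units.val_mul, sc_val, Matrix.smul_mul, Matrix.mul_smul, one_mul, mul_one])
        calc sc (mu x)⁻¹ * sc (mu y)⁻¹ * (B⁻¹ * ((x : GL (Fin 3) K) * y) * B)
            = sc (mu x)⁻¹ * (sc (mu y)⁻¹ * (B⁻¹ * x * B)) * (B⁻¹ * y * B) := by group
          _ = sc (mu x)⁻¹ * ((B⁻¹ * x * B) * sc (mu y)⁻¹) * (B⁻¹ * y * B) := by rw [hcomm]
          _ = _ := by group }
  have nu_val : ∀ x : X, (nu x : M3) =
      (mu x : K)⁻¹ • ((B⁻¹ * (x : GL (Fin 3) K) * B : GL (Fin 3) K) : M3) := by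
    intro x
    show ((sc (mu x)⁻¹ * _ : GL (Fin 3) K) : M3) = _
    rw [Units.val_mul, sc_val, Matrix.smul_mul, one_mul, Units.val_inv_eq_inv_val]
  have hmem : ∀ x, nu x ∈ (psi (K := K)).range := by
    intro x
    refine exists_ad h2 ?_ ?_
    · have hB' : ((B⁻¹ * (x : GL (Fin 3) K) * B : GL (Fin 3) K) : M3)ᵀ * (c • jmat) *
          ((B⁻¹ * (x : GL (Fin 3) K) * B : GL (Fin 3) K) : M3) = (lam x x.2 : K) • (c • jmat) := by
        set Y := (B⁻¹ * (x : GL (Fin 3) K) * B : GL (Fin 3) K)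
        rw [← hB, show (Y : M3)ᵀ * ((B : M3)ᵀ * G * (B : M3)) * (Y : M3) =
          ((B : M3) * (Y : M3))ᵀ * G * ((B : M3) * (Y : M3)) by
            rw [Matrix.transpose_mul]; simp only [mul_assoc],
          ← Units.val_mul, show B * Y = (x : GL (Fin 3) K) * B by simp [Y, mul_assoc],
          Units.val_mul, Matrix.transpose_mul,
          show (B : M3)ᵀ * ((x : GL (Fin 3) K) : M3)ᵀ * G * (((x : GL (Fin 3) K) : M3) * (B : M3)) =
            (B : M3)ᵀ * (((x : GL (Fin 3) K) : M3)ᵀ * G * ((x : GL (Fin 3) K) : M3)) * (B : M3) by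
            simp only [mul_assoc],
          hlam', Matrix.mul_smul, Matrix.smul_mul]
      rw [Matrix.mul_smul, Matrix.smul_mul, smul_comm] at hB'
      have h5 := smul_right_injective M3 hc hB'
      rw [nu_val, Matrix.transpose_smul, Matrix.smul_mul, Matrix.smul_mul, Matrix.mul_smul, h5, smul_smul,
        smul_smul, ← mu_sq]
      rw [show (mu x : K)⁻¹ * (mu x : K)⁻¹ * (mu x : K) ^ 2 = 1 by field_simp, one_smul]
    · have hxd : ((B⁻¹ * (x : GL (Fin 3) K) * B : GL (Fin 3) K) : M3).det =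
          ((x : GL (Fin 3) K) : M3).det := by
        have := congrArg Units.val (show Matrix.GeneralLinearGroup.det (B⁻¹ * (x : GL (Fin 3) K) * B) =
          Matrix.GeneralLinearGroup.det (x : GL (Fin 3) K) by
            rw [map_mul, map_mul, map_inv, mul_comm, mul_inv_cancel_left])
        exact this
      rw [nu_val, Matrix.det_smul, Fintype.card_fin, hxd, inv_pow,
        show (mu x : K) ^ 3 = (mu x : K) ^ 2 * (mu x : K) by ring, mu_sq, mu_val]
      have hdne : ((x : GL (Fin 3) K) : M3).det ≠ 0 :=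
        ((Matrix.isUnit_iff_isUnit_det _).1 (x : GL (Fin 3) K).isUnit).ne_zero
      field_simp
  let nu' : X →* Matrix.ProjGenLinGroup (Fin 2) K :=
    (MonoidHom.ofInjective (psi_injective (K := K))).symm.toMonoidHom.comp (nu.codRestrict _ hmem)
  set S := (Cfsg.Geo.scalars (Fin 3) K).subgroupOf X with hS
  have hker : ∀ x : X, nu' x = 1 ↔ x ∈ S := by
    intro x
    have h1 : nu' x = 1 ↔ nu x = 1 := by
      simp only [nu', MonoidHom.comp_apply, MulEquiv.coe_toMonoidHom, MulEquiv.map_eq_one_iff]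
      exact ⟨fun h => congrArg Subtype.val h, fun h => Subtype.ext h⟩
    rw [h1, Subgroup.mem_subgroupOf, Cfsg.Geo.mem_scalars_iff]
    constructor
    · intro h
      refine ⟨mu x, ?_⟩
      have h3 : (x : GL (Fin 3) K) = sc (mu x) := by
        have h4 : sc (mu x)⁻¹ * (B⁻¹ * (x : GL (Fin 3) K) * B) = 1 := h
        rw [map_inv, inv_mul_eq_one] at h4
        have hcomm : B * sc (mu x) = sc (mu x) * B := Units.ext (by
          rw [Units.val_mul, Units.val_mul, sc_val, Matrix.smul_mul, Matrix.mul_smul, one_mul, mul_one])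
        calc (x : GL (Fin 3) K) = B * (B⁻¹ * x * B) * B⁻¹ := by group
          _ = B * sc (mu x) * B⁻¹ := by rw [← h4]
          _ = sc (mu x) := by rw [hcomm, mul_inv_cancel_right]
      rw [h3, sc_val]
    · rintro ⟨u, hu⟩
      have hx : (x : GL (Fin 3) K) = sc u := Units.ext (by rw [sc_val]; exact hu)
      have hl : (lam x x.2 : K) = (u : K) ^ 2 := by
        have h3 := hlam' x x.2
        rw [hu, Matrix.transpose_smul, Matrix.transpose_one, Matrix.smul_mul, Matrix.mul_smul, one_mul,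
          mul_one, smul_smul] at h3
        obtain ⟨i, j, hij⟩ : ∃ i j, G i j ≠ 0 := by
          by_contra hcon
          push Not at hcon
          exact hG (Matrix.det_eq_zero_of_row_eq_zero 0 fun j => hcon 0 j)
        have h4 := congrFun (congrFun h3 i) j
        simp only [Matrix.smul_apply, smul_eq_mul] at h4
        rw [_root_.sq]
        exact (mul_right_cancel₀ hij h4).symm
      have hm : mu x = u := by
        refine Units.ext ?_
        rw [mu_val, hl, hu, Matrix.det_smul, Matrix.det_one, Fintype.card_fin, mul_one]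
        field_simp
      refine Units.ext ?_
      rw [nu_val, hm, Units.val_mul, Units.val_mul, hu, Matrix.mul_smul, mul_one, Matrix.smul_mul,
        smul_smul, inv_mul_cancel₀ u.ne_zero, one_smul, ← Units.val_mul, inv_mul_cancel]
  refine ⟨QuotientGroup.lift S nu' fun x hx => (hker x).2 hx, ?_⟩
  rw [injective_iff_map_eq_one]
  intro y hy
  obtain ⟨x, rfl⟩ := QuotientGroup.mk_surjective y
  exact (QuotientGroup.eq_one_iff x).2 ((hker x).1 hy)

end Cfsg.Agent.ResidualThree.Psl
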