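import Cfsg.Agent.ResidualThree.Psl.Defs
import Cfsg.Agent.Classical.Dickson2.Exceptional
import Cfsg.Agent.S0061

/-!
Groups without elementary abelian normal subgroups inside the two-dimensional projective linear group.
-/

set_option autoImplicit false

open scoped MatrixGroups
open Cfsg Cfsg.Agent.Classical

namespace Cfsg.Agent.ResidualThree.Psl

universe u

variable {H : Type u} [Group H] [Finite H]

theorem NoAb.comm_bot (hN : NoAb H) {N : Subgroup H} (hn : N.Normal)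
    (hc : ∀ a ∈ N, ∀ b ∈ N, a * b = b * a) : N = ⊥ := by
  by_contra hne
  obtain ⟨x, hx, hx1⟩ := (Subgroup.ne_bot_iff_exists_ne_one.1 hne : ∃ x : N, x ≠ 1) |>
    fun ⟨x, h⟩ => (⟨x.1, x.2, fun e => h (Subtype.ext e)⟩ : ∃ x, x ∈ N ∧ x ≠ 1)
  obtain ⟨r, hr, hrd⟩ := Nat.exists_prime_and_dvd (mt orderOf_eq_one_iff.1 hx1)
  let R : Subgroup H :=
    { carrier := {y | y ∈ N ∧ y ^ r = 1}
      one_mem' := ⟨one_mem _, one_pow _⟩
      mul_mem' := fun {a b} ha hb => ⟨mul_mem ha.1 hb.1, by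
        rw [(show Commute a b from hc a ha.1 b hb.1).mul_pow, ha.2, hb.2, one_mul]⟩
      inv_mem' := fun {a} ha => ⟨inv_mem ha.1, by rw [inv_pow, ha.2, inv_one]⟩ }
  have hRn : R.Normal := ⟨fun a ha g => ⟨hn.conj_mem a ha.1 g, by rw [conj_pow, ha.2]; group⟩⟩
  have hR := hN R hRn ⟨⟨fun a b => Subtype.ext (hc _ a.2.1 _ b.2.1)⟩⟩ ⟨r, hr, fun a ha => ha.2⟩
  have hy : x ^ (orderOf x / r) ∈ R := ⟨pow_mem hx _, by
    rw [← pow_mul, Nat.div_mul_cancel hrd, pow_orderOf_eq_one]⟩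
  rw [hR, Subgroup.mem_bot] at hy
  have := orderOf_dvd_of_pow_eq_one hy
  have h1 := Nat.le_of_dvd (Nat.div_pos (Nat.le_of_dvd (orderOf_pos x) hrd) hr.pos) this
  exact absurd (Nat.div_lt_self (orderOf_pos x) hr.one_lt) (not_lt.2 h1)

theorem NoAb.not_solvable (hN : NoAb H) [Nontrivial H] : ¬ Group.IsSolvable H := by
  rintro ⟨⟨n, hn⟩⟩
  induction n with
  | zero => exact top_ne_bot (α := Subgroup H) (by simpa using hn)
  | succ n ih =>
    refine ih (hN.comm_bot (derivedSeries_normal _ n) fun a ha b hb => ?_)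
    rw [derivedSeries_succ] at hn
    exact commutatorElement_eq_one_iff_mul_comm.1
      ((Subgroup.mem_bot).1 (hn ▸ Subgroup.commutator_mem_commutator ha hb))

/-- Subgroups of the projective general linear group of degree two. -/
theorem out_of_pgl_two {K : Type*} [Field K] [Fintype K] {p α b : ℕ} [Fact p.Prime] [CharP K p] (hp : p ≠ 2)
    (hK : Fintype.card K = p ^ b) (hb : b ∣ α) [Nontrivial H] (hN : NoAb H)
    (φ : H →* Matrix.ProjGenLinGroup (Fin 2) K) (hφ : Function.Injective φ) : Out p α H := by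
  have hpp : p.Prime := Fact.out
  have h3 : 3 ≤ p := by have := hpp.two_le; omega
  have hb0 : b ≠ 0 := fun e => by
    have := Fintype.one_lt_card (α := K)
    rw [hK, e, pow_zero] at this
    omega
  haveI : Fintype (GaloisField p (2 * b)) := Fintype.ofFinite _
  have hL : Fintype.card (GaloisField p (2 * b)) = p ^ (2 * b) := by
    rw [← Nat.card_eq_fintype_card, GaloisField.card p (2 * b) (by omega)]
  obtain ⟨ι⟩ := SubfieldPSL.exists_ringHom (F := GaloisField p (2 * b)) (K := K) (m := 2)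
    (by rw [hK, hL, ← pow_mul, mul_comm])
  have h2 : ringChar (GaloisField p (2 * b)) ≠ 2 := by rw [ringChar.eq (GaloisField p (2 * b)) p]; exact hp
  obtain ⟨S, ⟨e⟩⟩ := SubfieldPSL.exists_pgl ι h2 even_two (by rw [hK, hL, ← pow_mul, mul_comm])
  let ψ : H →* Matrix.ProjectiveSpecialLinearGroup (Fin 2) (GaloisField p (2 * b)) :=
    S.subtype.comp (e.symm.toMonoidHom.comp φ)
  have hψ : Function.Injective ψ := S.subtype_injective.comp (e.symm.injective.comp hφ)
  let eH : H ≃* ψ.range := MonoidHom.ofInjective hψ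
  have hns : ¬ Group.IsSolvable ψ.range := fun h =>
    hN.not_solvable (solvable_of_solvable_injective (f := eH.toMonoidHom) eH.injective)
  have hdvd : Nat.card H ∣ p ^ b * ((p ^ b) ^ 2 - 1) := by
    rw [← hK, ← Dickson2.card_pgl_two]; exact Subgroup.card_dvd_of_injective φ hφ
  rcases Dickson2.classify p ψ.range with ⟨x, hx, h⟩ | ⟨x, hx1, hx, h⟩ | ⟨⟨f⟩⟩ | ⟨⟨f⟩⟩ | ⟨⟨f⟩⟩ |
    ⟨K', i1, i2, m, hm, -, -, -, hiso⟩
  · exact absurd (Dickson2.solvable_toral p hx h) hns
  · exact absurd (Dickson2.solvable_borel p hx1 hx h) hns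
  · refine absurd (S0061.result (G := ψ.range) 2 3 2 Nat.prime_two Nat.prime_three ?_) hns
    rw [Nat.card_congr f.toEquiv, Dickson2.card_a4]; rfl
  · refine absurd (S0061.result (G := ψ.range) 2 3 3 Nat.prime_two Nat.prime_three ?_) hns
    rw [Nat.card_congr f.toEquiv, Dickson2.card_s4]; rfl
  · haveI : Fact (Nat.Prime 5) := ⟨Nat.prime_five⟩
    have h5 : Fintype.card (ZMod 5) = 5 := ZMod.card 5
    obtain ⟨g⟩ := Small.psl_two_sixty (F := ZMod 5) (Or.inr h5)
    let iso := eH.trans (f.trans g.symm)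
    rw [Nat.card_congr (eH.trans f).toEquiv, Dickson2.card_a5] at hdvd
    by_cases hp5 : p = 5
    · refine Or.inr (Or.inr (Or.inr (Or.inr (Or.inl ⟨ZMod 5, inferInstance, inferInstance, 1, ?_, one_dvd _, ?_,
        Or.inl ⟨iso⟩⟩))))
      · rw [h5, hp5, pow_one]
      · rw [hp5]; norm_num
    refine Or.inr (Or.inr (Or.inr (Or.inr (Or.inr (Or.inl ⟨?_, ZMod 5, inferInstance, inferInstance, h5, ⟨iso⟩⟩)))))
    have hcop : Nat.Coprime 5 (p ^ b) :=
      Nat.Coprime.pow_right _ ((Nat.coprime_primes Nat.prime_five hpp).2 fun h => hp5 h.symm)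
    have hd5 : 5 ∣ (p ^ b) ^ 2 - 1 := hcop.dvd_of_dvd_mul_left ((by norm_num : 5 ∣ 60).trans hdvd)
    have hodd : (p ^ b) % 2 = 1 := by
      rw [Nat.pow_mod, (hpp.eq_two_or_odd.resolve_left hp : p % 2 = 1)]; simp
    have hq : (p ^ b) % 10 = 1 ∨ (p ^ b) % 10 = 9 := by
      have hlt : (p ^ b) % 10 < 10 := Nat.mod_lt _ (by norm_num)
      have hsq : ((p ^ b) % 10) ^ 2 % 5 = 1 := by
        rw [show ((p ^ b) % 10) ^ 2 % 5 = ((p ^ b) ^ 2) % 5 by
          rw [Nat.pow_mod, Nat.mod_mod_of_dvd _ (by norm_num : 5 ∣ 10), ← Nat.pow_mod]]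
        have : 1 ≤ (p ^ b) ^ 2 := Nat.one_le_pow _ _ (pow_pos hpp.pos _)
        omega
      have h10 : (p ^ b) % 10 % 2 = 1 := by omega
      generalize (p ^ b) % 10 = r at *
      interval_cases r <;> simp_all
    obtain ⟨t, rfl⟩ := hb
    rw [pow_mul, Nat.pow_mod]
    rcases hq with e1 | e1 <;> rw [e1]
    · simp
    · rcases Nat.even_or_odd t with ⟨k, hk⟩ | ⟨k, hk⟩ <;> subst hk
      · left; rw [← two_mul, pow_mul]; norm_num [Nat.pow_mod]
      · right; rw [pow_succ, pow_mul, Nat.mul_mod, Nat.pow_mod]; norm_num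
  · rw [hL] at hm
    have hm0 : m ≠ 0 := fun e => by
      rw [e, pow_zero] at hm
      exact absurd hm.symm (Nat.one_lt_pow (by omega) hpp.one_lt).ne'
    obtain ⟨γ, -, hγ⟩ := (Nat.dvd_prime_pow hpp).1 (hm ▸ dvd_pow_self (Fintype.card K') hm0)
    rw [hγ, ← pow_mul] at hm
    have hγm := Nat.pow_right_injective hpp.two_le hm
    have hiso' : Nonempty (H ≃* Matrix.ProjectiveSpecialLinearGroup (Fin 2) K') ∨
        Nonempty (H ≃* Matrix.ProjGenLinGroup (Fin 2) K') := hiso.imp (fun ⟨f⟩ => ⟨eH.trans f⟩) (fun ⟨⟨f⟩, _⟩ => ⟨eH.trans f⟩)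
    have hsdvd : p ^ γ * ((p ^ γ) ^ 2 - 1) ∣ 2 * Nat.card H := by
      have hc := Dickson2.card_pg (F := K')
      rcases Dickson2.d_cases (F := K') with ⟨hd, -⟩ | ⟨hd, -⟩ <;> rw [hd, hγ] at hc <;>
        rcases hiso' with ⟨⟨f⟩⟩ | ⟨⟨f⟩⟩ <;> rw [Nat.card_congr f.toEquiv]
      · rw [← hc, one_mul]; exact dvd_mul_left _ _
      · rw [Dickson2.card_pgl_two, hγ]; exact dvd_mul_left _ _
      · rw [← hc]
      · rw [Dickson2.card_pgl_two, hγ]; exact dvd_mul_left _ _
    have hγb : γ ∣ b := by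
      by_contra hne
      rcases Nat.even_or_odd m with ⟨k, hk⟩ | hmo
      · exact hne ⟨k, by subst hk; rw [mul_add] at hγm; omega⟩
      have hγe : Even γ := (Nat.even_mul.1 (hγm ▸ even_two_mul b)).resolve_right (Nat.not_even_iff_odd.2 hmo)
      obtain ⟨δ, rfl⟩ := hγe
      have hbδ : b = δ * m := by rw [add_mul] at hγm; omega
      have hd : (p ^ δ) ^ 2 + 1 ∣ 2 * (p ^ b * ((p ^ b) ^ 2 - 1)) := by
        refine (Dvd.dvd.mul_left ?_ _).trans (hsdvd.trans (mul_dvd_mul_left 2 hdvd))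
        rw [← two_mul, mul_comm 2 δ, pow_mul]
        exact ⟨((p ^ δ) ^ 2 - 1), by rw [← Nat.sq_sub_sq, one_pow]⟩
      set n := (p ^ δ) ^ 2 + 1 with hn
      have hu : ((p : ZMod n) ^ δ) ^ 2 = -1 := by
        have : ((n : ℕ) : ZMod n) = 0 := ZMod.natCast_self n
        rw [hn] at this
        push_cast at this
        exact eq_neg_of_add_eq_zero_left this
      have hq : ((p : ZMod n) ^ b) ^ 2 = -1 := by
        rw [hbδ, pow_mul, ← pow_mul, mul_comm m 2, pow_mul, hu, hmo.neg_one_pow]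
      have h0 := (ZMod.natCast_eq_zero_iff _ n).2 hd
      push_cast [Nat.one_le_pow 2 _ (pow_pos hpp.pos b)] at h0
      rw [hq] at h0
      have h4 : ((4 : ℕ) : ZMod n) = 0 := by
        push_cast
        calc (4 : ZMod n) = ((p : ZMod n) ^ b) * (2 * ((p : ZMod n) ^ b * (-1 - 1))) := by
              linear_combination (4 : ZMod n) * hq
          _ = 0 := by rw [h0, mul_zero]
      have hle := Nat.le_of_dvd (by norm_num) ((ZMod.natCast_eq_zero_iff _ n).1 h4)
      have hδ : δ ≠ 0 := fun e => hb0 (by rw [hbδ, e, zero_mul])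
      have : 3 ≤ p ^ δ := h3.trans (Nat.le_self_pow hδ p)
      have := Nat.pow_le_pow_left this 2
      omega
    have hne3 : p ^ γ ≠ 3 := fun e => hN.not_solvable (by
      refine hiso'.elim (fun ⟨f⟩ => S0061.result 2 3 2 Nat.prime_two Nat.prime_three ?_)
        (fun ⟨f⟩ => S0061.result 2 3 3 Nat.prime_two Nat.prime_three ?_)
      · have hc := Dickson2.card_pg (F := K')
        rw [hγ, e] at hc
        rw [Nat.card_congr f.toEquiv]
        norm_num at hc
        omega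
      · rw [Nat.card_congr f.toEquiv, Dickson2.card_pgl_two, hγ, e]; norm_num)
    exact Or.inr (Or.inr (Or.inr (Or.inr (Or.inl ⟨K', i1, i2, γ, hγ, hγb.trans hb, hne3, hiso'⟩))))

end Cfsg.Agent.ResidualThree.Psl
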