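import Cfsg.Agent.ResidualThree.Psl.Defs
import Cfsg.Agent.ResidualThree.Regular.Congr
import Cfsg.Agent.PrimeDim.OmegaCases
import Cfsg.Agent.Classical.UnitaryThreeTwo

/-!
A group with core the full special unitary group: `PSU₃` with index one or three.
-/

set_option autoImplicit false
set_option linter.unusedSectionVars false

open scoped MatrixGroups
open Cfsg

namespace Cfsg.Agent.ResidualThree.Psl

open Matrix Cfsg.Geo Cfsg.Agent.PrimeDim Cfsg.Agent.ResidualThree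

universe u

section

variable {K : Type u} [Field K] [Fintype K] {σ : K ≃+* K} {G : Matrix (Fin 3) (Fin 3) K}
  {X P : Subgroup (GL (Fin 3) K)}

local notation "G3" => GL (Fin 3) K
local notation "M3" => Matrix (Fin 3) (Fin 3) K

/-- A scalar element. -/
def scal (u : Kˣ) : G3 := Units.map (Matrix.scalar (Fin 3) : K →+* M3).toMonoidHom u

theorem scal_mem (u : Kˣ) : scal u ∈ scalars (Fin 3) K := ⟨u, rfl⟩

theorem mat_scal (u : Kˣ) : mat (scal u) = (u : K) • (1 : M3) := by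
  simp [scal, mat, Matrix.smul_one_eq_diagonal]

/-- The multiplier of a similitude of a hermitian form is fixed. -/
theorem multiplier_fixed (hσ : ∀ a, σ (σ a) = a) (hG : G.det ≠ 0) (hs : Gᵀ = G.map σ) {g : M3} {c : K}
    (h : act σ G g = c • G) : σ c = c := by
  have h1 : (act σ G g)ᵀ = (act σ G g).map σ := by
    rw [act, Matrix.transpose_mul, Matrix.transpose_mul, Matrix.transpose_transpose, hs, Matrix.map_mul,
      Matrix.map_mul, Matrix.map_map, show (σ ∘ σ : K → K) = id from funext hσ, Matrix.map_id,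
      ← Matrix.transpose_map, mul_assoc]
  rw [h, Matrix.transpose_smul] at h1
  obtain ⟨i, j, hij⟩ : ∃ i j, Gᵀ i j ≠ 0 := by
    by_contra hcon
    push Not at hcon
    apply hG
    rw [← Matrix.det_transpose, show Gᵀ = 0 from Matrix.ext hcon]
    exact Matrix.det_zero
  have h2 := congrFun (congrFun h1 i) j
  rw [Matrix.smul_apply, Matrix.map_apply, Matrix.smul_apply, smul_eq_mul, smul_eq_mul, map_mul,
    show σ (G i j) = Gᵀ i j by rw [hs, Matrix.map_apply]] at h2
  exact (mul_right_cancel₀ hij h2).symm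

theorem isInvol_of (hσ : ∀ a, σ (σ a) = a) (hne : σ ≠ RingEquiv.refl K) :
    Classical.Herm.IsInvol σ.toRingHom :=
  ⟨fun e => hne (RingEquiv.ext fun a => RingHom.congr_fun e a), hσ⟩

/-- An element with cube determinant is a scalar times a member of the core. -/
theorem split_of_cube {r : ℕ} (hr : ∀ x : K, σ x = x ^ r) (hσ : ∀ a, σ (σ a) = a) (hne : σ ≠ RingEquiv.refl K)
    (hG : G.det ≠ 0) (hs : Gᵀ = G.map σ)
    (hall : ∀ g : G3, (mat g).det = 1 → act σ G (mat g) = G → g ∈ P)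
    {x : G3} (hx : ∃ c : K, act σ G (mat x) = c • G)
    (hcube : ¬ 3 ∣ r + 1 ∨ ∃ v : K, v ^ 3 = (mat x).det) :
    ∃ s ∈ scalars (Fin 3) K, ∃ g ∈ P, x = s * g := by
  obtain ⟨c, hc⟩ := hx
  have hcf := multiplier_fixed hσ hG hs hc
  set d := (mat x).det with hd
  have hd0 : d ≠ 0 := det_mat_ne_zero x
  have hdd : d * σ d = c ^ 3 := by
    have := congrArg Matrix.det hc
    rw [det_act, Matrix.det_smul, Fintype.card_fin, ← hd] at this
    refine mul_right_cancel₀ hG ?_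
    linear_combination this
  have hc0 : c ≠ 0 := fun e => by
    rw [e, zero_pow (by norm_num)] at hdd
    exact mul_ne_zero hd0 ((map_ne_zero σ).2 hd0) hdd
  obtain ⟨a, ha⟩ := Classical.Herm.exists_norm (isInvol_of hσ hne) (a := c) hcf
  change a * σ a = c at ha
  have ha0 : a ≠ 0 := fun e => hc0 (by rw [← ha, e, zero_mul])
  set δ := d / a ^ 3 with hδ
  have hδn : δ * σ δ = 1 := by
    rw [hδ, map_div₀, map_pow, div_mul_div_comm, ← mul_pow, ha, hdd, div_self (pow_ne_zero _ hc0)]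
  obtain ⟨ε, hε3, hεn⟩ : ∃ ε : K, ε ^ 3 = δ ∧ ε * σ ε = 1 := by
    by_cases h3 : 3 ∣ r + 1
    · obtain ⟨v, hv⟩ := hcube.resolve_left (not_not.2 h3)
      refine ⟨v / a, by rw [div_pow, hv], ?_⟩
      set η := v / a * σ (v / a) with hη
      have hη3 : η ^ 3 = 1 := by rw [hη, mul_pow, ← map_pow, div_pow, hv, ← hδ]; exact hδn
      have hηf : σ η = η := by rw [hη, map_mul, hσ, mul_comm]
      obtain ⟨j, hj⟩ := h3
      have hj' : ∃ i, r = 3 * i + 2 := ⟨j - 1, by omega⟩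
      obtain ⟨i, hi⟩ := hj'
      rw [hr, hi, pow_add, pow_mul, hη3, one_pow, one_mul] at hηf
      have h0 : η ≠ 0 := fun e => by rw [e] at hη3; simp at hη3
      exact mul_left_cancel₀ h0 (by rw [← sq, hηf, mul_one])
    · have hδr : δ ^ (r + 1) = 1 := by rw [pow_succ', ← hr]; exact hδn
      obtain ⟨k, m, hk⟩ : ∃ k m, 3 * k = (r + 1) * m + 1 := by
        rcases (show (r + 1) % 3 = 1 ∨ (r + 1) % 3 = 2 by omega) with h | h
        · exact ⟨(2 * (r + 1) + 1) / 3, 2, by omega⟩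
        · exact ⟨((r + 1) + 1) / 3, 1, by omega⟩
      refine ⟨δ ^ k, ?_, ?_⟩
      · rw [← pow_mul, mul_comm k 3, hk, pow_succ, pow_mul, hδr, one_pow, one_mul]
      · rw [map_pow, ← mul_pow, hδn, one_pow]
  have hb0 : a * ε ≠ 0 := mul_ne_zero ha0 fun e => by rw [e, zero_mul] at hεn; exact zero_ne_one hεn
  set s := scal (Units.mk0 _ hb0) with hsdef
  refine ⟨s, scal_mem _, s⁻¹ * x, hall _ ?_ ?_, (mul_inv_cancel_left s x).symm⟩
  all_goals
    have hmat : mat (s⁻¹ * x) = (a * ε)⁻¹ • mat x := by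
      rw [hsdef, scal, ← map_inv, ← scal, mat_mul, mat_scal, Units.val_inv_eq_inv_val, Units.val_mk0,
        Matrix.smul_mul, one_mul]
  · rw [hmat, Matrix.det_smul, Fintype.card_fin, ← hd, inv_pow, mul_pow, hε3, hδ, mul_div_cancel₀ _ (pow_ne_zero _ ha0),
      inv_mul_cancel₀ hd0]
  · rw [hmat, act_sc, hc, smul_smul, map_inv₀, ← mul_inv, map_mul, mul_mul_mul_comm, ha, hεn, mul_one,
      inv_mul_cancel₀ hc0, one_smul]

theorem act_one_iff_SU {r : ℕ} (hr : ∀ x : K, σ x = x ^ r) (g : Matrix.SpecialLinearGroup (Fin 3) K) :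
    g ∈ Cfsg.SU 3 K r ↔ act σ 1 (g : M3) = 1 := by
  have hf : ∀ u v : Fin 3 → K, Cfsg.hermForm 3 K r u v = formG σ 1 u v := fun u v => by
    simp [Cfsg.hermForm, formG, dotProduct, hr]
  constructor
  · intro h
    refine formG_ext (σ := σ) fun u v => ?_
    rw [← formG_mulVec, ← hf, ← hf]
    exact h u v
  · intro h u v
    rw [hf, hf]
    show formG σ 1 ((g : M3) *ᵥ u) ((g : M3) *ᵥ v) = _
    rw [formG_mulVec, h]

/-- The image of the unitary group modulo scalars. -/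
theorem exists_psu (hP : Core P) (hle : P ≤ X) {r : ℕ} (hr : ∀ x : K, σ x = x ^ r)
    (hσ : ∀ a, σ (σ a) = a) (hne : σ ≠ RingEquiv.refl K) (hG : G.det ≠ 0) (hs : Gᵀ = G.map σ)
    (hfix : Fixes σ P G) (hall : ∀ g : G3, (mat g).det = 1 → act σ G (mat g) = G → g ∈ P) :
    ∃ L : Subgroup (PQ X), Nonempty (↥L ≃* Cfsg.PSU 3 K r) ∧
      ∀ x : X, (QuotientGroup.mk x : PQ X) ∈ L ↔ ∃ s ∈ scalars (Fin 3) K, ∃ g ∈ P, (x : G3) = s * g := by
  obtain ⟨B, hB⟩ := exists_congr_one hσ hne hG hs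
  have hB' : act σ 1 (mat B⁻¹) = G := by
    rw [← hB, ← act_mul, mat_mul_inv]; simp [act]
  have hmatSL : ∀ g : Matrix.SpecialLinearGroup (Fin 3) K,
      mat (Matrix.SpecialLinearGroup.toGL g) = (g : M3) := fun g => rfl
  let ι : ↥(Cfsg.SU 3 K r) →* G3 :=
    (MulAut.conj B).toMonoidHom.comp (Matrix.SpecialLinearGroup.toGL.comp (Cfsg.SU 3 K r).subtype)
  have hι : ∀ g : ↥(Cfsg.SU 3 K r),
      ι g = B * Matrix.SpecialLinearGroup.toGL (g : Matrix.SpecialLinearGroup (Fin 3) K) * B⁻¹ := fun g => rfl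
  have hιP : ∀ g, ι g ∈ P := fun g => by
    refine hall _ ?_ ?_
    · rw [hι, mat_mul, mat_mul, Matrix.det_mul, Matrix.det_mul, hmatSL,
        (g : Matrix.SpecialLinearGroup (Fin 3) K).det_coe, mul_one, ← Matrix.det_mul, mat_mul_inv,
        Matrix.det_one]
    · rw [hι, mat_mul, mat_mul, act_mul, act_mul, hB, hmatSL, (act_one_iff_SU hr _).1 g.2, hB']
  have hιs : ∀ y ∈ P, ∃ g, ι g = y := by
    intro y hy
    have hd : (mat (B⁻¹ * y * B)).det = 1 := by
      rw [mat_mul, mat_mul, Matrix.det_mul, Matrix.det_mul, hP.det_eq_one hy, mul_one, ← Matrix.det_mul,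
        mat_inv_mul, Matrix.det_one]
    let h : Matrix.SpecialLinearGroup (Fin 3) K := ⟨mat (B⁻¹ * y * B), hd⟩
    have hh : h ∈ Cfsg.SU 3 K r := by
      refine (act_one_iff_SU hr h).2 ?_
      show act σ 1 (mat (B⁻¹ * y * B)) = 1
      rw [mat_mul, mat_mul, act_mul, act_mul, hB', hfix y hy, hB]
    refine ⟨⟨h, hh⟩, ?_⟩
    rw [hι, show Matrix.SpecialLinearGroup.toGL h = B⁻¹ * y * B from Units.ext rfl]
    group
  let φ : ↥(Cfsg.SU 3 K r) →* PQ X :=
    (QuotientGroup.mk' _).comp (ι.codRestrict X fun g => hle (hιP g))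
  have hker : φ.ker = Subgroup.center ↥(Cfsg.SU 3 K r) := by
    ext g
    rw [MonoidHom.mem_ker]
    constructor
    · intro hg
      have hsc : ι g ∈ scalars (Fin 3) K :=
        (QuotientGroup.eq_one_iff (ι.codRestrict X (fun g => hle (hιP g)) g)).1 hg
      refine Subgroup.mem_center_iff.2 fun h => ?_
      have hinj : Function.Injective ι := fun p q e => Subtype.ext
        (Matrix.SpecialLinearGroup.toGL_injective (by rw [hι, hι] at e; exact mul_left_cancel (mul_right_cancel e)))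
      exact hinj (by rw [map_mul, map_mul, (scalar_commute hsc (ι h)).symm])
    · intro hg
      refine (QuotientGroup.eq_one_iff _).2 (hP.mem_scalars_of_comm fun y hy => ?_)
      obtain ⟨h, rfl⟩ := hιs y hy
      show ι g * ι h = ι h * ι g
      rw [← map_mul, ← map_mul, Subgroup.mem_center_iff.1 hg h]
  refine ⟨φ.range, ⟨(QuotientGroup.quotientKerEquivRange φ).symm.trans
    (QuotientGroup.quotientMulEquivOfEq hker)⟩, fun x => ?_⟩
  constructor
  · rintro ⟨g, hg⟩
    have h1 : (⟨ι g, hle (hιP g)⟩ : ↥X)⁻¹ * x ∈ (scalars (Fin 3) K).subgroupOf X :=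
      QuotientGroup.eq.1 hg
    have h2 : (ι g)⁻¹ * (x : G3) ∈ scalars (Fin 3) K := h1
    exact ⟨_, h2, ι g, hιP g, by rw [scalar_commute h2, mul_inv_cancel_left]⟩
  · rintro ⟨s, hs', y, hy, e⟩
    obtain ⟨g, rfl⟩ := hιs y hy
    refine ⟨g, QuotientGroup.eq.2 ?_⟩
    show (ι g)⁻¹ * (x : G3) ∈ scalars (Fin 3) K
    rw [e, scalar_commute hs', inv_mul_cancel_left]
    exact hs'

/-- The unitary case. -/
theorem unitary_step {p α : ℕ} [Fact p.Prime] [CharP K p] (hp : p ≠ 2) (D : Data p α X P)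
    (hσ : ∀ a, σ (σ a) = a) (hne : σ ≠ RingEquiv.refl K) (hG : G.det ≠ 0) (hs : Gᵀ = G.map σ)
    (hfix : PrimeDim.Fixes σ P G)
    (hall : ∀ g : G3, (PrimeDim.mat g).det = 1 → PrimeDim.act σ G (PrimeDim.mat g) = G → g ∈ P) :
    Out p α (PQ X) := by
  classical
  have hpr : p.Prime := Fact.out
  obtain ⟨r, hq, hr, -⟩ := exists_pow_of_involution hσ hne
  obtain ⟨n, -, hn⟩ := FiniteField.card K p
  obtain ⟨β, -, hβ⟩ := (Nat.dvd_prime_pow hpr).1 (show r ∣ p ^ (n : ℕ) from ⟨r, by rw [← hn, hq, sq]⟩)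
  subst hβ
  have hqp : Fintype.card K = p ^ (2 * β) := by rw [hq, ← pow_mul, mul_comm]
  have hβ0 : β ≠ 0 := fun e => by
    have h1 := Fintype.one_lt_card (α := K)
    rw [hqp, e, mul_zero, pow_zero] at h1; omega
  obtain ⟨E, _, _, f, hE, hdet⟩ := D.hom
  letI : Algebra K E := f.toAlgebra
  have hEq : Fintype.card E = Fintype.card K ^ Module.finrank K E := Module.card_eq_pow_finrank
  set m := Module.finrank K E with hm
  have hα : 2 * β * m = α := by
    have h1 : p ^ α = p ^ (2 * β * m) := by rw [← hE, hEq, hqp, pow_mul p (2 * β)]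
    exact (Nat.pow_right_injective hpr.two_le h1).symm
  obtain ⟨L, ⟨e⟩, hL⟩ := exists_psu D.core D.le hr hσ hne hG hs hfix hall
  have hsim : ∀ x ∈ X, ∃ c : K, act σ G (mat x) = c • G := fun x hx => by
    obtain ⟨c, hc⟩ := similar D.core.abs D.norm hG hfix x hx
    exact ⟨c, hc⟩
  -- a model of the field in the bottom universe
  have hsmall : ∃ (K₀ : Type) (_ : Field K₀) (_ : Fintype K₀), Fintype.card K₀ = p ^ (2 * β) ∧
      Nonempty (↥L ≃* Cfsg.PSU 3 K₀ (p ^ β)) := by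
    haveI : Fintype (GaloisField p (2 * β)) := Fintype.ofFinite _
    have h0 : Fintype.card (GaloisField p (2 * β)) = p ^ (2 * β) := by
      rw [← Nat.card_eq_fintype_card, GaloisField.card p (2 * β) (by omega)]
    obtain ⟨j⟩ := Classical.U32.psu_congr (n := 3) (q := p ^ β)
      (FiniteField.ringEquivOfCardEq (K := K) (K' := GaloisField p (2 * β)) (hqp.trans h0.symm))
    exact ⟨GaloisField p (2 * β), inferInstance, inferInstance, h0, ⟨e.trans j⟩⟩
  obtain ⟨K₀, iK, iF, hK₀, ⟨i₀⟩⟩ := hsmall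
  by_cases hsplit : ∀ x ∈ X, ∃ s ∈ scalars (Fin 3) K, ∃ g ∈ P, x = s * g
  · have htop : L = ⊤ := eq_top_iff.2 fun y _ => by
      obtain ⟨x, rfl⟩ := QuotientGroup.mk_surjective y
      exact (hL x).2 (hsplit x x.2)
    exact Or.inr (Or.inl ⟨K₀, iK, iF, β, hK₀, ⟨m, hα.symm⟩,
      ⟨((MulEquiv.subgroupCongr htop).trans Subgroup.topEquiv).symm.trans i₀⟩⟩)
  push Not at hsplit
  obtain ⟨x₀, hx₀, hns⟩ := hsplit
  have hno : ¬ (¬ 3 ∣ p ^ β + 1 ∨ ∃ v : K, v ^ 3 = (mat x₀).det) := fun h => by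
    obtain ⟨s, hs', g, hg, e'⟩ := split_of_cube hr hσ hne hG hs hall (hsim x₀ hx₀) h
    exact hns s hs' g hg e'
  push Not at hno
  obtain ⟨h3, hnc⟩ := hno
  -- the character
  obtain ⟨t, ht⟩ : ∃ t, Fintype.card Kˣ = 3 * t := by
    rw [Fintype.card_units, hq]
    obtain ⟨j, hj⟩ := h3
    exact ⟨j * (p ^ β - 1), by
      rw [← mul_assoc, ← hj, ← Nat.sq_sub_sq, one_pow]⟩
  have hcube : ∀ u : Kˣ, u ^ t = 1 ↔ ∃ v : Kˣ, v ^ 3 = u := by
    intro u
    refine ⟨fun h => ?_, fun ⟨v, hv⟩ => by rw [← hv, ← pow_mul, ← ht, pow_card_eq_one]⟩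
    obtain ⟨g, hg⟩ := IsCyclic.exists_generator (α := Kˣ)
    obtain ⟨k, hk⟩ := Submonoid.mem_powers_iff _ _ |>.1 (mem_powers_iff_mem_zpowers.2 (hg u))
    rw [← hk, ← pow_mul, ← orderOf_dvd_iff_pow_eq_one, orderOf_eq_card_of_forall_mem_zpowers hg,
      Nat.card_eq_fintype_card, ht] at h
    have ht0 : 0 < t := by
      have := Fintype.card_pos (α := Kˣ); omega
    obtain ⟨j, hj⟩ := Nat.dvd_of_mul_dvd_mul_right ht0 h
    exact ⟨g ^ j, by rw [← pow_mul, mul_comm j 3, ← hj, hk]⟩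
  let ψ : X →* Kˣ := (powMonoidHom t).comp (Matrix.GeneralLinearGroup.det.comp X.subtype)
  have hψ : ∀ x : X, ψ x = 1 ↔ ∃ s ∈ scalars (Fin 3) K, ∃ g ∈ P, (x : G3) = s * g := by
    intro x
    show (Matrix.GeneralLinearGroup.det (x : G3)) ^ t = 1 ↔ _
    rw [hcube]
    constructor
    · rintro ⟨v, hv⟩
      exact split_of_cube hr hσ hne hG hs hall (hsim x x.2)
        (Or.inr ⟨v, by rw [← Units.val_pow_eq_pow_val, hv]; rfl⟩)
    · rintro ⟨s, hs', g, hg, e'⟩
      obtain ⟨c, rfl⟩ := hs'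
      refine ⟨c, Units.ext ?_⟩
      show (c : K) ^ 3 = (mat (x : G3)).det
      rw [e', mat_mul, Matrix.det_mul, D.core.det_eq_one hg, mul_one,
        show mat (Units.map (Matrix.scalar (Fin 3) : K →+* M3).toMonoidHom c) = (c : K) • (1 : M3) from mat_scal c,
        Matrix.det_smul, Fintype.card_fin, Matrix.det_one, mul_one]
  have hx₀ψ : ψ ⟨x₀, hx₀⟩ ≠ 1 := fun h => by
    obtain ⟨s, hs', g, hg, e'⟩ := (hψ _).1 h
    exact hns s hs' g hg e'
  have hidx : L.index = 3 := by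
    have hc : L.comap (QuotientGroup.mk' _) = ψ.ker := by
      ext x
      rw [Subgroup.mem_comap, MonoidHom.mem_ker, hψ]
      exact hL x
    rw [← Subgroup.index_comap_of_surjective L (QuotientGroup.mk'_surjective _), hc, Subgroup.index_ker]
    have hexp : Monoid.exponent ↥ψ.range ∣ 3 := Monoid.exponent_dvd_of_forall_pow_eq_one fun y => by
      obtain ⟨_, x, rfl⟩ := y
      refine Subtype.ext ?_
      show ((Matrix.GeneralLinearGroup.det (x : G3)) ^ t) ^ 3 = 1
      rw [← pow_mul, mul_comm, ← ht, pow_card_eq_one]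
    rw [IsCyclic.exponent_eq_card] at hexp
    rcases (Nat.dvd_prime Nat.prime_three).1 hexp with h1 | h1
    · exfalso
      haveI := (Nat.card_eq_one_iff_unique.1 h1).1
      exact hx₀ψ (congrArg Subtype.val
        (Subsingleton.elim (⟨ψ ⟨x₀, hx₀⟩, ⟨_, rfl⟩⟩ : ↥ψ.range) 1))
    · exact h1
  have h3m : 3 ∣ m := by
    set ω : Kˣ := ψ ⟨x₀, hx₀⟩ with hω
    have hω3 : orderOf ω = 3 := by
      refine orderOf_eq_prime ?_ hx₀ψ
      show ((Matrix.GeneralLinearGroup.det x₀) ^ t) ^ 3 = 1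
      rw [← pow_mul, mul_comm, ← ht, pow_card_eq_one]
    obtain ⟨c, hc⟩ := hdet x₀ hx₀
    have hc0 : c ≠ 0 := fun e' => by rw [e', zero_pow (by norm_num), zero_mul] at hc; exact zero_ne_one hc
    have hq1 : Fintype.card K = 3 * t + 1 := by
      rw [← ht, Fintype.card_units]; have := Fintype.one_lt_card (α := K); omega
    set S := ∑ i ∈ Finset.range m, Fintype.card K ^ i with hS
    have hgeo : S * (3 * t) + 1 = Fintype.card E := by
      rw [hEq, hS, hq1]; exact geom_sum_mul_add (3 * t) m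
    have hS3 : S % 3 = m % 3 := by
      rw [hS]
      clear hgeo hα hEq hm
      clear_value m
      clear hS
      clear S
      induction m with
      | zero => simp
      | succ k ih =>
        rw [Finset.sum_range_succ, Nat.add_mod, ih, Nat.pow_mod, hq1,
          show (3 * t + 1) % 3 = 1 by omega, one_pow]
        omega
    have h1 : (f ((ω : Kˣ) : K)) ^ S = 1 := by
      have h2 : c ^ (3 * (t * S)) * (f ((mat x₀).det)) ^ (t * S) = 1 := by
        rw [pow_mul, ← mul_pow, hc, one_pow]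
      have h3' : c ^ (3 * (t * S)) = 1 := by
        have h4 : c ^ (Fintype.card E - 1) = 1 := FiniteField.pow_card_sub_one_eq_one c hc0
        rwa [show Fintype.card E - 1 = 3 * (t * S) by rw [← hgeo, Nat.add_sub_cancel]; ring] at h4
      rw [h3', one_mul] at h2
      rw [hω]
      show (f (((Matrix.GeneralLinearGroup.det x₀) ^ t : Kˣ) : K)) ^ S = 1
      rw [Units.val_pow_eq_pow_val, map_pow, ← pow_mul]
      exact h2
    have h5 : ω ^ S = 1 := Units.ext (f.injective (by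
      rw [Units.val_pow_eq_pow_val, map_pow, Units.val_one, map_one]; exact h1))
    have h6 := orderOf_dvd_of_pow_eq_one h5
    rw [hω3] at h6
    omega
  obtain ⟨m', hm'⟩ : ∃ m', m = 3 * m' := h3m
  exact Or.inr (Or.inr (Or.inr (Or.inl ⟨K₀, iK, iF, β, hK₀, h3, ⟨m', by rw [← hα, hm']; ring⟩,
    L, hidx, ⟨i₀⟩⟩)))

end

end Cfsg.Agent.ResidualThree.Psl
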