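import Cfsg.Agent.ResidualThree.Psl.Linear
import Cfsg.Agent.ResidualThree.Psl.Orth
import Cfsg.Agent.ResidualThree.Psl.Unitary
import Cfsg.Agent.ResidualThree.Psl.TwoDim

/-!
The list from the classification of cores.
-/

set_option autoImplicit false

namespace Cfsg.Agent.ResidualThree.Psl

open Matrix Cfsg Cfsg.Geo Cfsg.Agent.PrimeDim
open scoped MatrixGroups

universe u

variable {K : Type u} [Field K] [Fintype K] {p α : ℕ} [Fact p.Prime] [CharP K p]
  {X P : Subgroup (GL (Fin 3) K)}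

theorem exists_exponent (D : Data p α X P) : ∃ b, Fintype.card K = p ^ b ∧ b ∣ α := by
  obtain ⟨F, iF, iFF, f, hcardF, -⟩ := D.hom
  letI := iF
  letI := iFF
  letI : Algebra K F := f.toAlgebra
  obtain ⟨b, hpr, hq⟩ := FiniteField.card K p
  refine ⟨b, hq, Module.finrank K F, Nat.pow_right_injective hpr.two_le ?_⟩
  show p ^ α = p ^ ((b : ℕ) * Module.finrank K F)
  rw [← hcardF, Module.card_eq_pow_finrank (K := K) (V := F), hq, ← pow_mul]

omit [Fintype K] [Fact p.Prime] [CharP K p] in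
theorem nontrivial_pq (D : Data p α X P) : Nontrivial (PQ X) := by
  refine QuotientGroup.nontrivial_iff.2 fun e => D.core.not_scalar fun x hx => ?_
  exact Subgroup.subgroupOf_eq_top.1 e (D.le hx)

theorem out_orth (hp : p ≠ 2) (D : Data p α X P) {G : Matrix (Fin 3) (Fin 3) K} (hG : G.det ≠ 0)
    (hs : Gᵀ = G) (hfix : Fixes (RingEquiv.refl K) P G) : Out p α (PQ X) := by
  obtain ⟨b, hb, hbα⟩ := exists_exponent D
  obtain ⟨φ, hφ⟩ := orth_embed hp D hG hs hfix
  haveI := nontrivial_pq D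
  exact out_of_pgl_two hp hb hbα D.noab φ hφ

end Cfsg.Agent.ResidualThree.Psl
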