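import Cfsg.Agent.ResidualThree.Basic
import Cfsg.Agent.PrimeDim.Core

/-!
The core of an irreducible group of degree three, without the minimality of the field.
-/

set_option autoImplicit false

namespace Cfsg.Agent.ResidualThree.Psl

open Matrix Cfsg.Geo Cfsg.Agent.PrimeDim
open scoped MatrixGroups

variable {F : Type*} [Field F] [Finite F]

local notation "ι" => Fin 3

theorem exists_core_three {H : Subgroup (GL ι F)} (hH : Irr H) (hgood : Good H)
    (hno : ∀ N : Subgroup (GL ι F), N ≤ H → Normalised H N → ¬ N ≤ scalars ι F → ¬ ⁅N, N⁆ ≤ scalars ι F) :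
    ∃ P, P ≤ H ∧ Normalised H P ∧ ResidualThree.Core P := by
  have hr : (Fintype.card ι).Prime := by rw [Fintype.card_fin]; exact Nat.prime_three
  classical
  haveI : Nonempty ι := Fintype.card_pos_iff.1 hr.pos
  have hHns : ¬ H ≤ scalars ι F := by
    intro hle
    obtain ⟨i⟩ := (inferInstance : Nonempty ι)
    let W : Submodule F (ι → F) := Submodule.span F {Pi.single i (1 : F)}
    have hW : Inv H W := fun g hg v hv => by
      obtain ⟨c, hc⟩ := (Cfsg.Geo.mem_scalars_iff g).1 (hle hg)
      rw [mat, hc, smul_one_mulVec]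
      exact Submodule.smul_mem _ _ hv
    have hne : (Pi.single i (1 : F) : ι → F) ≠ 0 := by simp
    rcases hH W hW with h | h
    · exact hne ((Submodule.mem_bot F).1 (h ▸ Submodule.subset_span rfl))
    · have h1 : Module.finrank F W = 1 := finrank_span_singleton hne
      rw [h, finrank_top, Module.finrank_fintype_fun_eq_card] at h1
      exact hr.ne_one h1
  let T : Set ℕ := {k | ∃ N : Subgroup (GL ι F), N ≤ H ∧ Normalised H N ∧ ¬ N ≤ scalars ι F ∧ Nat.card N = k}
  obtain ⟨P, hPH, hPn, hPns, hPc⟩ := Nat.sInf_mem (s := T) ⟨_, H, le_rfl, normalised_self H, hHns, rfl⟩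
  have hPmin : ∀ N, N ≤ P → Normalised H N → ¬ N ≤ scalars ι F → N = P := fun N h1 h2 h3 =>
    Subgroup.eq_of_le_of_card_ge h1 (hPc.le.trans (Nat.sInf_le ⟨N, h1.trans hPH, h2, h3, rfl⟩))
  have hPperf : ⁅P, P⁆ = P := hPmin _ commutator_le_of_sub (normalised_commutator hPn) (hno P hPH hPn hPns)
  have hPabs := hgood P hPH hPn hPns
  let T' : Set ℕ := {k | ∃ N : Subgroup (GL ι F), N ≤ P ∧ Normalised P N ∧ ¬ N ≤ scalars ι F ∧ Nat.card N = k}
  obtain ⟨A, hAP, hAn, hAns, hAc⟩ := Nat.sInf_mem (s := T') ⟨_, P, le_rfl, normalised_self P, hPns, rfl⟩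
  have hAmin : ∀ N, N ≤ P → Normalised P N → ¬ N ≤ scalars ι F → Nat.card A ≤ Nat.card N := fun N h1 h2 h3 =>
    hAc.le.trans (Nat.sInf_le ⟨N, h1, h2, h3, rfl⟩)
  have hAPeq : A = P := by
    let C : GL ι F → Subgroup (GL ι F) := fun g => A.map (MulAut.conj g).toMonoidHom
    have hCP : ∀ g ∈ H, C g ≤ P := by
      rintro g hg _ ⟨a, ha, rfl⟩
      exact hPn g hg a (hAP ha)
    have hCn : ∀ g ∈ H, Normalised P (C g) := by
      rintro g hg x hx _ ⟨a, ha, rfl⟩
      refine ⟨(g⁻¹ * x * g) * a * (g⁻¹ * x * g)⁻¹, hAn _ (hPn.conj' hg hx) a ha, ?_⟩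
      simp [mul_assoc]
    have hCns : ∀ g, ¬ C g ≤ scalars ι F := by
      intro g h
      refine hAns fun a ha => ?_
      have h2 := (scalars_normal (F := F)).conj_mem _ (h ⟨a, ha, rfl⟩) g⁻¹
      simpa [mul_assoc] using h2
    have hCcard : ∀ g, Nat.card (C g) = Nat.card A := fun g =>
      (Nat.card_congr (A.equivMapOfInjective _ (MulAut.conj g).injective).toEquiv).symm
    -- generators of `P`
    have hgen : Subgroup.closure (⋃ g ∈ H, (C g : Set (GL ι F))) = P := by
      refine hPmin _ ((Subgroup.closure_le P).2 fun x hx => ?_) ?_ fun h => hCns 1 ?_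
      · simp only [Set.mem_iUnion] at hx
        obtain ⟨g, hg, hx⟩ := hx
        exact hCP g hg hx
      · intro k hk x hx
        induction hx using Subgroup.closure_induction with
        | mem y hy =>
          simp only [Set.mem_iUnion] at hy
          obtain ⟨g, hg, a, ha, rfl⟩ := hy
          refine Subgroup.subset_closure ?_
          simp only [Set.mem_iUnion]
          exact ⟨k * g, mul_mem hk hg, a, ha, by simp [mul_assoc]⟩
        | one => simp
        | mul a b _ _ h1 h2 =>
          rw [show k * (a * b) * k⁻¹ = (k * a * k⁻¹) * (k * b * k⁻¹) by group]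
          exact mul_mem h1 h2
        | inv a _ h1 =>
          rw [show k * a⁻¹ * k⁻¹ = (k * a * k⁻¹)⁻¹ by group]
          exact inv_mem h1
      · intro x hx
        refine h (Subgroup.subset_closure ?_)
        simp only [Set.mem_iUnion]
        exact ⟨1, one_mem _, hx⟩
    have hdiff : ∀ g ∈ H, ∀ k ∈ H, C g = C k ∨ ∀ a ∈ C g, ∀ b ∈ C k, a * b * a⁻¹ * b⁻¹ ∈ scalars ι F := by
      intro g hg k hk
      by_cases hI : C g ⊓ C k ≤ scalars ι F
      · refine Or.inr fun a ha b hb => hI (Subgroup.mem_inf.2 ⟨?_, mul_mem (hCn k hk a (hCP g hg ha) b hb) (inv_mem hb)⟩)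
        rw [show a * b * a⁻¹ * b⁻¹ = a * (b * a⁻¹ * b⁻¹) by group]
        exact mul_mem ha (hCn g hg b (hCP k hk hb) _ (inv_mem ha))
      · left
        have hn : Normalised P (C g ⊓ C k) := fun x hx y hy =>
          Subgroup.mem_inf.2 ⟨hCn g hg x hx y (Subgroup.mem_inf.1 hy).1, hCn k hk x hx y (Subgroup.mem_inf.1 hy).2⟩
        have h1 := hAmin _ (inf_le_left.trans (hCP g hg)) hn hI
        have e1 : C g ⊓ C k = C g := Subgroup.eq_of_le_of_card_ge inf_le_left (by rw [hCcard]; exact h1)
        have e2 : C g ⊓ C k = C k := Subgroup.eq_of_le_of_card_ge inf_le_right (by rw [hCcard]; exact h1)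
        rw [← e1, e2]
    by_cases hAA : ⁅A, A⁆ ≤ scalars ι F
    · -- all generators commute modulo scalars
      refine absurd ?_ (hno P hPH hPn hPns)
      let π := QuotientGroup.mk' (scalars ι F)
      suffices h : ∀ x ∈ P, ∀ y ∈ P, π x * π y = π y * π x by
        rw [Subgroup.commutator_le]
        intro x hx y hy
        rw [← QuotientGroup.eq_one_iff, ← QuotientGroup.mk'_apply, map_commutatorElement]
        exact commutatorElement_eq_one_iff_commute.2 (h x hx y hy)
      have hbase : ∀ g ∈ H, ∀ k ∈ H, ∀ a ∈ C g, ∀ b ∈ C k, π a * π b = π b * π a := by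
        intro g hg k hk a ha b hb
        have hab : a * b * a⁻¹ * b⁻¹ ∈ scalars ι F := by
          rcases hdiff g hg k hk with e | h
          · rw [← e] at hb
            have hc : ⁅C g, C g⁆ ≤ scalars ι F := by
              show ⁅A.map _, A.map _⁆ ≤ _
              rw [← Subgroup.map_commutator]
              rintro _ ⟨x, hx, rfl⟩
              exact (scalars_normal (F := F)).conj_mem _ (hAA hx) g
            exact hc (Subgroup.commutator_mem_commutator ha hb)
          · exact h a ha b hb
        have h1 : π a * π b * (π a)⁻¹ * (π b)⁻¹ = 1 := by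
          rw [← map_inv, ← map_inv, ← map_mul, ← map_mul, ← map_mul, QuotientGroup.mk'_apply, QuotientGroup.eq_one_iff]
          exact hab
        rwa [mul_inv_eq_one, mul_inv_eq_iff_eq_mul] at h1
      intro x hx y hy
      rw [← hgen] at hx hy
      induction hx, hy using Subgroup.closure_induction₂ with
      | mem a b ha hb =>
        simp only [Set.mem_iUnion] at ha hb
        obtain ⟨g, hg, ha⟩ := ha
        obtain ⟨k, hk, hb⟩ := hb
        exact hbase g hg k hk a ha b hb
      | one_left a _ => simp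
      | one_right a _ => simp
      | mul_left a b c _ _ _ h1 h2 =>
        rw [map_mul]; exact (Commute.mul_left (h1 : Commute _ _) (h2 : Commute _ _)).eq
      | mul_right a b c _ _ _ h1 h2 =>
        rw [map_mul]; exact (Commute.mul_right (h1 : Commute _ _) (h2 : Commute _ _)).eq
      | inv_left a b _ _ h1 => rw [map_inv]; exact (Commute.inv_left (h1 : Commute _ _)).eq
      | inv_right a b _ _ h1 => rw [map_inv]; exact (Commute.inv_right (h1 : Commute _ _)).eq
    · -- `A` is perfect
      have hAperf : ⁅A, A⁆ = A := Subgroup.eq_of_le_of_card_ge commutator_le_of_sub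
        (hAmin _ (commutator_le_of_sub.trans hAP) (normalised_commutator hAn) hAA)
      have hPirr : Irr P := (abs_iff.1 hPabs).1
      have hnc : ¬ Comm A := fun hc => hAA <| Subgroup.commutator_le.2 fun a ha b hb => by
        rw [commutatorElement_eq_one_iff_commute.2 (hc a ha b hb)]; exact one_mem _
      have hAirr : Irr A := (lines_or_irr hr hPirr hAP hAn hAns).resolve_left fun h => hnc h.2
      have hAabs := (semilinear_or_abs hr hAP hAn hAns hAirr).resolve_left fun h => hnc h.2
      have hfix : Normalised H A := by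
        intro g hg a ha
        have hC1 : C 1 = A := by
          show A.map _ = A
          ext x; simp [MulAut.conj_apply]
        rcases hdiff g hg 1 (one_mem H) with e | h
        · rw [← hC1, ← e]
          exact ⟨a, ha, rfl⟩
        · refine absurd (fun b hb => comm_of_abs hAabs fun x hx => comm_of_perfect hAperf (fun y hy => ?_) x hx) (hCns g)
          exact h b hb y (hC1.symm ▸ hy)
      exact hPmin A hAP hfix hAns
  subst hAPeq
  refine ⟨A, hPH, hPn, ⟨hPperf, ?_, ?_, hPabs⟩⟩
  · haveI : Nontrivial (A ⧸ (scalars ι F).subgroupOf A) :=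
      QuotientGroup.nontrivial_iff.2 fun e => hPns (Subgroup.subgroupOf_eq_top.1 e)
    refine ⟨fun K hK => ?_⟩
    let π := QuotientGroup.mk' ((scalars ι F).subgroupOf A)
    let K' : Subgroup (GL ι F) := (K.comap π).map A.subtype
    have hK'n : Normalised A K' := by
      rintro x hx _ ⟨y, hy, rfl⟩
      let xx : A := ⟨x, hx⟩
      refine Subgroup.mem_map.2 ⟨xx * y * xx⁻¹, (hK.comap π).conj_mem y hy xx, ?_⟩
      simp [xx]
    by_cases hs : K' ≤ scalars ι F
    · left
      rw [eq_bot_iff]
      intro k hk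
      obtain ⟨y, rfl⟩ := QuotientGroup.mk'_surjective _ k
      rw [Subgroup.mem_bot, QuotientGroup.mk'_apply, QuotientGroup.eq_one_iff, Subgroup.mem_subgroupOf]
      exact hs ⟨y, hk, rfl⟩
    · right
      have e : K' = A := Subgroup.eq_of_le_of_card_ge (Subgroup.map_subtype_le _)
        (hAmin K' (Subgroup.map_subtype_le _) hK'n hs)
      rw [eq_top_iff]
      intro k _
      obtain ⟨y, rfl⟩ := QuotientGroup.mk'_surjective _ k
      obtain ⟨y', hy', he⟩ := (e.ge y.2 : y.1 ∈ K')
      rw [← (Subtype.ext he : y' = y)]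
      exact hy'
  · intro hc
    refine hno A hPH hPn hPns (Subgroup.commutator_le.2 fun a ha b hb => ?_)
    have h1 := hc.is_comm.comm (QuotientGroup.mk' ((scalars ι F).subgroupOf A) ⟨a, ha⟩)
      (QuotientGroup.mk' ((scalars ι F).subgroupOf A) ⟨b, hb⟩)
    let aa : A := ⟨a, ha⟩
    let bb : A := ⟨b, hb⟩
    have h2 : QuotientGroup.mk' ((scalars ι F).subgroupOf A) (aa * bb * aa⁻¹ * bb⁻¹) = 1 := by
      rw [map_mul, map_mul, map_mul, map_inv, map_inv, h1, mul_inv_cancel_right, mul_inv_cancel]
    rw [QuotientGroup.mk'_apply, QuotientGroup.eq_one_iff, Subgroup.mem_subgroupOf] at h2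
    exact h2

end Cfsg.Agent.ResidualThree.Psl
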