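import Cfsg.Prelude.Def_Classical
import Cfsg.Agent.ResidualThree.Basic

/-!
The list of subgroups of the three-dimensional projective special linear group in odd characteristic, and the
hypothesis that there is no elementary abelian normal subgroup.
-/

set_option autoImplicit false

open scoped MatrixGroups
open Cfsg

namespace Cfsg.Agent.ResidualThree.Psl

universe u

/-- No non-trivial elementary abelian normal subgroup. -/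
def NoAb (H : Type u) [Group H] : Prop :=
  ∀ N : Subgroup H, N.Normal → IsMulCommutative ↥N → (∃ r : ℕ, r.Prime ∧ ∀ x ∈ N, x ^ r = 1) → N = ⊥

/-- The list for a group `H`, the ambient field having `p ^ α` elements. -/
def Out (p α : ℕ) (H : Type u) [Group H] : Prop :=
    (∃ (K : Type) (_ : Field K) (_ : Fintype K) (β : ℕ), Fintype.card K = p ^ β ∧ β ∣ α ∧ Nonempty (H ≃* Matrix.ProjectiveSpecialLinearGroup (Fin 3) K)) ∨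
    (∃ (K : Type) (_ : Field K) (_ : Fintype K) (β : ℕ), Fintype.card K = p ^ (2 * β) ∧ 2 * β ∣ α ∧ Nonempty (H ≃* Cfsg.PSU 3 K (p ^ β))) ∨
    (∃ (K : Type) (_ : Field K) (_ : Fintype K) (β : ℕ), Fintype.card K = p ^ β ∧ 3 ∣ p ^ β - 1 ∧ 3 * β ∣ α ∧ ∃ L : Subgroup H, L.index = 3 ∧ Nonempty (↥L ≃* Matrix.ProjectiveSpecialLinearGroup (Fin 3) K)) ∨
    (∃ (K : Type) (_ : Field K) (_ : Fintype K) (β : ℕ), Fintype.card K = p ^ (2 * β) ∧ 3 ∣ p ^ β + 1 ∧ 6 * β ∣ α ∧ ∃ L : Subgroup H, L.index = 3 ∧ Nonempty (↥L ≃* Cfsg.PSU 3 K (p ^ β))) ∨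
    (∃ (K : Type) (_ : Field K) (_ : Fintype K) (β : ℕ), Fintype.card K = p ^ β ∧ β ∣ α ∧ p ^ β ≠ 3 ∧ (Nonempty (H ≃* Matrix.ProjectiveSpecialLinearGroup (Fin 2) K) ∨ Nonempty (H ≃* (GL (Fin 2) K ⧸ Subgroup.center (GL (Fin 2) K))))) ∨
    ((p ^ α % 10 = 1 ∨ p ^ α % 10 = 9) ∧ ∃ (K : Type) (_ : Field K) (_ : Fintype K), Fintype.card K = 5 ∧ Nonempty (H ≃* Matrix.ProjectiveSpecialLinearGroup (Fin 2) K)) ∨
    ((p ^ α) ^ 3 % 7 = 1 ∧ ∃ (K : Type) (_ : Field K) (_ : Fintype K), Fintype.card K = 7 ∧ Nonempty (H ≃* Matrix.ProjectiveSpecialLinearGroup (Fin 2) K)) ∨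
    (p = 5 ∧ Even α ∧ (Nonempty (H ≃* ↥(alternatingGroup (Fin 6))) ∨ Nonempty (H ≃* ↥(alternatingGroup (Fin 7))) ∨
      ∃ L : Subgroup H, L.index = 2 ∧ Nonempty (↥L ≃* ↥(alternatingGroup (Fin 6))))) ∨
    ((p ^ α % 30 = 1 ∨ p ^ α % 30 = 19) ∧ Nonempty (H ≃* ↥(alternatingGroup (Fin 6))))

theorem Out.of_equiv {p α : ℕ} {H H' : Type*} [Group H] [Group H'] (e : H ≃* H') (h : Out p α H) : Out p α H' := by
  have sub : ∀ {T : Type} [Group T] (n : ℕ), (∃ L : Subgroup H, L.index = n ∧ Nonempty (↥L ≃* T)) →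
      ∃ L : Subgroup H', L.index = n ∧ Nonempty (↥L ≃* T) := by
    rintro T _ n ⟨L, hL, ⟨f⟩⟩
    refine ⟨L.map e.toMonoidHom, ?_, ⟨(L.equivMapOfInjective e.toMonoidHom e.injective).symm.trans f⟩⟩
    rw [Subgroup.index_map_of_bijective (f := e.toMonoidHom) e.bijective]; exact hL
  rcases h with ⟨K, iK, iF, β, h1, h2, ⟨f⟩⟩ | ⟨K, iK, iF, β, h1, h2, ⟨f⟩⟩ | ⟨K, iK, iF, β, h1, h2, h3, h4⟩ |
    ⟨K, iK, iF, β, h1, h2, h3, h4⟩ | ⟨K, iK, iF, β, h1, h2, h3, h4⟩ | ⟨h1, K, iK, iF, h2, ⟨f⟩⟩ |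
    ⟨h1, K, iK, iF, h2, ⟨f⟩⟩ | ⟨h1, h2, h3⟩ | ⟨h1, ⟨f⟩⟩
  · exact Or.inl ⟨K, iK, iF, β, h1, h2, ⟨e.symm.trans f⟩⟩
  · exact Or.inr (Or.inl ⟨K, iK, iF, β, h1, h2, ⟨e.symm.trans f⟩⟩)
  · exact Or.inr (Or.inr (Or.inl ⟨K, iK, iF, β, h1, h2, h3, sub 3 h4⟩))
  · exact Or.inr (Or.inr (Or.inr (Or.inl ⟨K, iK, iF, β, h1, h2, h3, sub 3 h4⟩)))
  · refine Or.inr (Or.inr (Or.inr (Or.inr (Or.inl ⟨K, iK, iF, β, h1, h2, h3, ?_⟩))))
    exact h4.imp (fun ⟨f⟩ => ⟨e.symm.trans f⟩) (fun ⟨f⟩ => ⟨e.symm.trans f⟩)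
  · exact Or.inr (Or.inr (Or.inr (Or.inr (Or.inr (Or.inl ⟨h1, K, iK, iF, h2, ⟨e.symm.trans f⟩⟩)))))
  · exact Or.inr (Or.inr (Or.inr (Or.inr (Or.inr (Or.inr (Or.inl ⟨h1, K, iK, iF, h2, ⟨e.symm.trans f⟩⟩))))))
  · refine Or.inr (Or.inr (Or.inr (Or.inr (Or.inr (Or.inr (Or.inr (Or.inl ⟨h1, h2, ?_⟩)))))))
    rcases h3 with ⟨⟨f⟩⟩ | ⟨⟨f⟩⟩ | h3
    exacts [Or.inl ⟨e.symm.trans f⟩, Or.inr (Or.inl ⟨e.symm.trans f⟩), Or.inr (Or.inr (sub 2 h3))]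
  · exact Or.inr (Or.inr (Or.inr (Or.inr (Or.inr (Or.inr (Or.inr (Or.inr ⟨h1, ⟨e.symm.trans f⟩⟩)))))))

/-- The quotient of a subgroup of the linear group by its scalars. -/
abbrev PQ {K : Type*} [Field K] (X : Subgroup (GL (Fin 3) K)) : Type _ :=
  X ⧸ (Cfsg.Geo.scalars (Fin 3) K).subgroupOf X

/-- Descended data: `X` normalises the core `P`, and the determinants are cubes in the big field. -/
structure Data {K : Type u} [Field K] (p α : ℕ) (X P : Subgroup (GL (Fin 3) K)) : Prop where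
  le : P ≤ X
  core : ResidualThree.Core P
  norm : Cfsg.Agent.PrimeDim.Normalised X P
  noab : NoAb (PQ X)
  hom : ∃ (F : Type u) (_ : Field F) (_ : Fintype F) (f : K →+* F), Fintype.card F = p ^ α ∧
    ∀ x ∈ X, ∃ c : F, c ^ 3 * f (Cfsg.Agent.PrimeDim.mat x).det = 1

end Cfsg.Agent.ResidualThree.Psl
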