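import Cfsg.Agent.ResidualThree.Psl.Defs
import Cfsg.Agent.ResidualThree.Lift.Reduce
import Cfsg.Agent.ResidualThree.Transport
import Cfsg.Agent.PrimeDim.Descend

/-!
Descent of a group of degree three to the smallest field of its core.
-/

set_option autoImplicit false

namespace Cfsg.Agent.ResidualThree.Psl

open Matrix Cfsg Cfsg.Geo Cfsg.Agent.PrimeDim
open scoped MatrixGroups

universe u

theorem NoAb.of_equiv {A B : Type*} [Group A] [Group B] (e : A ≃* B) (h : NoAb A) : NoAb B := by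
  intro N hn hc ⟨r, hr, hx⟩
  have h1 := h (N.comap e.toMonoidHom) (hn.comap _)
    ⟨⟨fun a b => Subtype.ext (e.injective (by
      show e (a.1 * b.1) = e (b.1 * a.1)
      rw [map_mul, map_mul]
      exact congrArg Subtype.val (hc.is_comm.comm ⟨_, a.2⟩ ⟨_, b.2⟩)))⟩⟩
    ⟨r, hr, fun a ha => e.injective (by rw [map_pow, map_one]; exact hx _ ha)⟩
  rw [← Subgroup.map_comap_eq_self_of_surjective (f := e.toMonoidHom) e.surjective N, h1, Subgroup.map_bot]

variable {F : Type u} [Field F] [Fintype F]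

/-- The image in the projective group. -/
theorem pq_equiv {K : Type u} [Field K] {X : Subgroup (GL (Fin 3) K)} {Y : Type*} [Group Y]
    (f : X →* Y) (hf : f.ker = (scalars (Fin 3) K).subgroupOf X) : Nonempty (PQ X ≃* f.range) :=
  ⟨(QuotientGroup.quotientMulEquivOfEq hf.symm).trans (QuotientGroup.quotientKerEquivRange f)⟩

theorem scalar_map_iff {K : Type u} [Field K] (f : K →+* F) (u : GL (Fin 3) K) :
    Matrix.GeneralLinearGroup.map f u ∈ scalars (Fin 3) F ↔ u ∈ scalars (Fin 3) K := by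
  constructor
  · intro h
    obtain ⟨c, hc⟩ := (mem_scalars_iff _).1 h
    have h1 : ∀ i j, f ((u : Matrix (Fin 3) (Fin 3) K) i j) = (c : F) * (if i = j then 1 else 0) := fun i j => by
      have h2 := congrFun (congrFun hc i) j
      simpa [Matrix.one_apply] using h2
    refine mem_scalars_of_smul (c := (u : Matrix (Fin 3) (Fin 3) K) 0 0) (Matrix.ext fun i j => f.injective ?_)
    show f ((u : Matrix (Fin 3) (Fin 3) K) i j) = f _
    rw [h1, Matrix.smul_apply, smul_eq_mul, map_mul, h1]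
    by_cases e : i = j <;> simp [e, Matrix.one_apply]
  · intro h
    obtain ⟨c, hc⟩ := (mem_scalars_iff _).1 h
    refine mem_scalars_of_smul (c := f c) (Matrix.ext fun i j => ?_)
    show f ((u : Matrix (Fin 3) (Fin 3) K) i j) = _
    rw [hc]
    by_cases e : i = j <;> simp [e, Matrix.one_apply]

theorem lift_entries {F₀ : Subfield F} {y : GL (Fin 3) F} {c : F} {A : Matrix (Fin 3) (Fin 3) F}
    (hA : Entries F₀ A) (h : mat y = c • A) :
    ∃ u : GL (Fin 3) F₀, mat y = c • mat (Matrix.GeneralLinearGroup.map (F₀.subtype : F₀ →+* F) u) := by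
  let A₀ : Matrix (Fin 3) (Fin 3) F₀ := Matrix.of fun i j => ⟨A i j, hA i j⟩
  have hmap : (F₀.subtype : F₀ →+* F).mapMatrix A₀ = A := by ext i j; rfl
  have hd : A₀.det ≠ 0 := by
    intro e
    have h1 := (F₀.subtype : F₀ →+* F).map_det A₀
    rw [hmap, e, map_zero] at h1
    have h2 := det_mat_ne_zero y
    rw [h, Matrix.det_smul, ← h1, mul_zero] at h2
    exact h2 rfl
  exact ⟨Matrix.GeneralLinearGroup.mkOfDetNeZero A₀ hd, h.trans (by congr 1)⟩

/-- The normaliser of a realised group consists of scaled matrices over the field. -/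
theorem entries_normalizer {N H : Subgroup (GL (Fin 3) F)} (hN : ActsAbsolutelyIrreducibly (matrixSet N))
    (hn : Normalised H N) {F₀ : Subfield F} {B : GL (Fin 3) F} (hB : ∀ g ∈ N, Entries F₀ (mat (B * g * B⁻¹)))
    {h : GL (Fin 3) F} (hh : h ∈ H) :
    ∃ (c : F) (A : Matrix (Fin 3) (Fin 3) F), Entries F₀ A ∧ mat (B * h * B⁻¹) = c • A := by
  obtain ⟨τ, hτ, -⟩ := exists_powHom F₀
  set k : GL (Fin 3) F := B * h * B⁻¹ with hk
  have hfix : ∀ g ∈ N, (mat (B * g * B⁻¹)).map τ = mat (B * g * B⁻¹) := fun g hg => by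
    ext i j; exact (hτ _).1 (hB g hg i j)
  set k' : GL (Fin 3) F := Matrix.GeneralLinearGroup.map τ k with hk'
  have hk'mat : mat k' = (mat k).map τ := rfl
  have hcomm : ∀ g ∈ PrimeDim.conjGrp B N, mat (k⁻¹ * k') * mat g = mat g * mat (k⁻¹ * k') := by
    rintro _ ⟨g, hg, rfl⟩
    show mat (k⁻¹ * k') * mat (B * g * B⁻¹) = mat (B * g * B⁻¹) * mat (k⁻¹ * k')
    set y := B * g * B⁻¹ with hy
    have e1 : Matrix.GeneralLinearGroup.map τ y = y := Units.ext (hfix g hg)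
    have e2 : Matrix.GeneralLinearGroup.map τ (k * y * k⁻¹) = k * y * k⁻¹ := by
      rw [hk, hy, ← conj_conj]
      exact Units.ext (hfix _ (hn h hh g hg))
    rw [map_mul, map_mul, map_inv, e1, ← hk'] at e2
    have e3 : k⁻¹ * k' * y = y * (k⁻¹ * k') := by
      calc k⁻¹ * k' * y = k⁻¹ * (k' * y * k'⁻¹) * k' := by group
        _ = y * (k⁻¹ * k') := by rw [e2]; group
    simp only [mat, ← Units.val_mul, e3]
  obtain ⟨c, hc⟩ := (abs_iff.1 (abs_conj hN B)).2 _ hcomm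
  have hkk : (mat k).map τ = c • mat k := by
    have h1 : mat k' = mat k * mat (k⁻¹ * k') := by simp [mat]
    rw [← hk'mat, h1, hc, Matrix.mul_smul, mul_one]
  obtain ⟨i, j, hij⟩ : ∃ i j, mat k i j ≠ 0 := by
    by_contra hcon
    push Not at hcon
    exact Units.ne_zero k (Matrix.ext hcon)
  refine ⟨mat k i j, (mat k i j)⁻¹ • mat k, fun a b => ?_, by rw [smul_smul, mul_inv_cancel₀ hij, one_smul]⟩
  rw [hτ, Matrix.smul_apply, smul_eq_mul, map_mul, map_inv₀]
  have h1 := congrFun (congrFun hkk i) j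
  have h2 := congrFun (congrFun hkk a) b
  simp only [Matrix.map_apply, Matrix.smul_apply, smul_eq_mul] at h1 h2
  rw [h1, h2]
  have hc0 : c ≠ 0 := by
    intro e
    rw [e, zero_mul] at h1
    exact hij ((map_eq_zero τ).1 h1)
  field_simp

/-- Descent to the smallest field. -/
theorem exists_descent {p α : ℕ} [Fact p.Prime] [CharP F p] (hp : p ≠ 2) (hF : Fintype.card F = p ^ α)
    {X P : Subgroup (GL (Fin 3) F)} (hSL : X ≤ Geo.specialLinear (Fin 3) F) (hN : NoAb (PQ X))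
    (hle : P ≤ X) (hn : Normalised X P) (hP : ResidualThree.Core P) :
    ∃ (K : Type u) (_ : Field K) (_ : Fintype K) (_ : CharP K p) (X₀ P₀ : Subgroup (GL (Fin 3) K)),
      Data p α X₀ P₀ ∧ (∀ K₁ : Subfield K, K₁ ≠ ⊤ → ¬ RealisableOver K₁ (matrixSet P₀)) ∧
      Nonempty (PQ X ≃* PQ X₀) := by
  classical
  let T : Set ℕ := {k | ∃ F₀ : Subfield F, RealisableOver F₀ (matrixSet P) ∧ Nat.card F₀ = k}
  obtain ⟨F₀, hF₀, hcard⟩ := Nat.sInf_mem (s := T)
    ⟨_, ⊤, realisable_mat.2 ⟨1, fun g _ i j => Subfield.mem_top _⟩, rfl⟩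
  obtain ⟨B, hB⟩ := realisable_mat.1 hF₀
  haveI : Fintype F₀ := Fintype.ofFinite _
  haveI : CharP F₀ p := (RingHom.charP_iff F₀.subtype F₀.subtype.injective p).2 inferInstance
  let ι₀ : GL (Fin 3) F₀ →* GL (Fin 3) F := Matrix.GeneralLinearGroup.map (F₀.subtype : F₀ →+* F)
  have hι : Function.Injective ι₀ := Lift.GL_map_injective _ F₀.subtype.injective
  let π := QuotientGroup.mk' (scalars (Fin 3) F)
  let Y := (PrimeDim.conjGrp B X).map π
  let X₀ : Subgroup (GL (Fin 3) F₀) := Y.comap (π.comp ι₀)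
  let P₀ : Subgroup (GL (Fin 3) F₀) := (PrimeDim.conjGrp B P).comap ι₀
  let χ : X₀ →* GL (Fin 3) F ⧸ scalars (Fin 3) F := (π.comp ι₀).comp X₀.subtype
  let θ : X →* GL (Fin 3) F ⧸ scalars (Fin 3) F := (π.comp (MulAut.conj B).toMonoidHom).comp X.subtype
  have hθk : θ.ker = (scalars (Fin 3) F).subgroupOf X := by
    ext x
    rw [MonoidHom.mem_ker, Subgroup.mem_subgroupOf]
    show (QuotientGroup.mk (B * x.1 * B⁻¹) : GL (Fin 3) F ⧸ scalars (Fin 3) F) = 1 ↔ _
    rw [QuotientGroup.eq_one_iff]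
    exact ⟨fun h => by simpa [mul_assoc] using scalars_normal.conj_mem _ h B⁻¹, fun h => scalars_normal.conj_mem _ h B⟩
  have hχk : χ.ker = (scalars (Fin 3) F₀).subgroupOf X₀ := by
    ext x
    rw [MonoidHom.mem_ker, Subgroup.mem_subgroupOf]
    show (QuotientGroup.mk (ι₀ x.1) : GL (Fin 3) F ⧸ scalars (Fin 3) F) = 1 ↔ _
    rw [QuotientGroup.eq_one_iff, scalar_map_iff]
  have hrange : χ.range = θ.range := by
    apply le_antisymm
    · rintro _ ⟨⟨x, hx⟩, rfl⟩
      obtain ⟨_, ⟨g, hg, rfl⟩, he⟩ := hx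
      exact ⟨⟨g, hg⟩, he⟩
    · rintro _ ⟨⟨g, hg⟩, rfl⟩
      obtain ⟨c, A, hA, he⟩ := entries_normalizer hP.abs hn hB hg
      obtain ⟨u, hu⟩ := lift_entries hA he
      have hc : c ≠ 0 := fun e => by
        rw [e, zero_smul] at hu
        exact Units.ne_zero _ hu
      have hmk : π (ι₀ u) = π (B * g * B⁻¹) := by
        refine QuotientGroup.eq.2 (mem_scalars_of_smul (c := c) ?_)
        rw [mat_mul, hu, Matrix.mul_smul, ← mat_mul, inv_mul_cancel, mat, Units.val_one]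
      exact ⟨⟨u, ⟨_, ⟨g, hg, rfl⟩, hmk.symm⟩⟩, hmk⟩
  obtain ⟨e1⟩ := pq_equiv θ hθk
  obtain ⟨e2⟩ := pq_equiv χ hχk
  let e : PQ X ≃* PQ X₀ := e1.trans ((MulEquiv.subgroupCongr hrange.symm).trans e2.symm)
  have hmemB : ∀ g ∈ P, ∃ u : GL (Fin 3) F₀, ι₀ u = B * g * B⁻¹ := fun g hg => by
    obtain ⟨u, hu⟩ := lift_entries (c := 1) (hB g hg) (one_smul F _).symm
    exact ⟨u, Units.ext (hu.trans (one_smul F _)).symm⟩
  have hrP : PrimeDim.conjGrp B P ≤ ι₀.range := by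
    rintro _ ⟨g, hg, rfl⟩
    obtain ⟨u, hu⟩ := hmemB g hg
    exact ⟨u, hu⟩
  have hmapP : P₀.map ι₀ = PrimeDim.conjGrp B P := Subgroup.map_comap_eq_self hrP
  let eP : P ≃* P₀ := (P.equivMapOfInjective (MulAut.conj B).toMonoidHom (MulAut.conj B).injective).trans
    ((MulEquiv.subgroupCongr hmapP.symm).trans (P₀.equivMapOfInjective ι₀ hι).symm)
  have h2 : (2 : F₀) ≠ 0 := fun h => hp (by
    have h0 : ((2 : ℕ) : F₀) = 0 := by exact_mod_cast h
    exact (Nat.prime_dvd_prime_iff_eq Fact.out Nat.prime_two).1 ((CharP.cast_eq_zero_iff F₀ p 2).1 h0))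
  have habs := hP.abs_of_injective h2 (P₀.subtype.comp eP.toMonoidHom) (P₀.subtype_injective.comp eP.injective)
  rw [MonoidHom.range_comp, MonoidHom.range_eq_top.2 eP.surjective, ← MonoidHom.range_eq_map, P₀.range_subtype]
    at habs
  have hleP : P₀ ≤ X₀ := fun u hu => by
    obtain ⟨g, hg, he⟩ := hu
    exact ⟨_, ⟨g, hle hg, rfl⟩, congrArg π he⟩
  refine ⟨F₀, inferInstance, inferInstance, inferInstance, X₀, P₀,
    ⟨hleP, hP.of_equiv eP habs, ?_, NoAb.of_equiv e hN, F, inferInstance, inferInstance, F₀.subtype, hF, ?_⟩, ?_, ⟨e⟩⟩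
  · intro x hx u hu
    obtain ⟨_, ⟨g, hg, rfl⟩, hgx⟩ := hx
    obtain ⟨w, hw, hwu⟩ := hu
    have hs := QuotientGroup.eq.1 hgx
    refine ⟨g * w * g⁻¹, hn g hg w hw, ?_⟩
    show B * (g * w * g⁻¹) * B⁻¹ = ι₀ (x * u * x⁻¹)
    rw [map_mul, map_mul, map_inv, ← show B * w * B⁻¹ = ι₀ u from hwu]
    set s := (B * g * B⁻¹)⁻¹ * ι₀ x with hsdef
    have hx' : ι₀ x = B * g * B⁻¹ * s := by rw [hsdef]; group
    rw [hx']
    calc B * (g * w * g⁻¹) * B⁻¹ = B * g * B⁻¹ * (B * w * B⁻¹) * (B * g * B⁻¹)⁻¹ := by group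
      _ = B * g * B⁻¹ * (s * (B * w * B⁻¹) * s⁻¹) * (B * g * B⁻¹)⁻¹ := by
        rw [scalar_commute (show s ∈ scalars (Fin 3) F from hs), mul_inv_cancel_right]
      _ = _ := by group
  · intro x hx
    obtain ⟨_, ⟨g, hg, rfl⟩, hgx⟩ := hx
    obtain ⟨c, hc⟩ := (mem_scalars_iff _).1 (QuotientGroup.eq.1 hgx)
    refine ⟨(c : F)⁻¹, ?_⟩
    have hdg : (mat (B * g * B⁻¹)).det = 1 := by
      have h1 : Matrix.GeneralLinearGroup.det (B * g * B⁻¹) = 1 := by
        rw [map_mul, map_mul, map_inv, MonoidHom.mem_ker.1 (hSL hg), mul_one, mul_inv_cancel]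
      exact congrArg Units.val h1
    have e3 : mat (ι₀ x) = mat (B * g * B⁻¹) * ((c : F) • (1 : Matrix (Fin 3) (Fin 3) F)) := by
      rw [← hc, ← mat_mul]
      exact congrArg mat (mul_inv_cancel_left (B * g * B⁻¹) (ι₀ x)).symm
    have e4 : (F₀.subtype : F₀ →+* F) (mat x).det = (c : F) ^ 3 := by
      rw [RingHom.map_det]
      show (mat (ι₀ x)).det = _
      rw [e3, Matrix.mul_smul, mul_one, Matrix.det_smul, hdg, mul_one, Fintype.card_fin]
    rw [e4, inv_pow, inv_mul_cancel₀ (pow_ne_zero _ (Units.ne_zero c))]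
  · intro K₁ hK₁ hr
    obtain ⟨B₁, hB₁⟩ := realisable_mat.1 hr
    have hreal : RealisableOver (K₁.map (F₀.subtype : F₀ →+* F)) (matrixSet P) := by
      refine realisable_mat.2 ⟨ι₀ B₁ * B, fun g hg i j => ?_⟩
      obtain ⟨u, hu⟩ := hmemB g hg
      have huP : u ∈ P₀ := ⟨g, hg, hu.symm⟩
      refine ⟨mat (B₁ * u * B₁⁻¹) i j, hB₁ u huP i j, ?_⟩
      have e5 : ι₀ (B₁ * u * B₁⁻¹) = ι₀ B₁ * B * g * (ι₀ B₁ * B)⁻¹ := by
        rw [map_mul, map_mul, map_inv, hu]; group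
      rw [← e5]; rfl
    have h1 : Nat.card F₀ ≤ Nat.card (K₁.map (F₀.subtype : F₀ →+* F)) :=
      hcard.le.trans (Nat.sInf_le ⟨_, hreal, rfl⟩)
    have h3 : Nat.card (K₁.map (F₀.subtype : F₀ →+* F)) = Nat.card K₁ :=
      Nat.card_image_of_injective F₀.subtype.injective (K₁ : Set F₀)
    rw [h3] at h1
    refine hK₁ (SetLike.coe_injective (Set.eq_of_subset_of_ncard_le (Set.subset_univ _) ?_ Set.finite_univ))
    rw [Subfield.coe_top, Set.ncard_univ, ← Nat.card_coe_set_eq]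
    exact h1

end Cfsg.Agent.ResidualThree.Psl
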