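import Cfsg.Agent.ResidualThree.Psl.TwoDim
import Cfsg.Agent.ResidualThree.Psl.CoreExists
import Cfsg.Agent.PrimeDim.Tools

/-!
Subgroups of degree three without elementary abelian normal subgroups: the reducible case and the core.
-/

set_option autoImplicit false
set_option maxHeartbeats 800000
set_option synthInstance.maxHeartbeats 100000

namespace Cfsg.Agent.ResidualThree.Psl

open Matrix Cfsg Cfsg.Geo Cfsg.Agent.PrimeDim
open scoped MatrixGroups commutatorElement

universe u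

variable {F : Type u} [Field F] [Finite F] {X : Subgroup (GL (Fin 3) F)}

local notation "V3" => Fin 3 → F

/-- Normal subgroups with scalar commutators are scalar. -/
theorem normal_scalar (hN : NoAb (PQ X)) {N : Subgroup (GL (Fin 3) F)} (hle : N ≤ X) (hn : Normalised X N)
    (hc : ∀ a ∈ N, ∀ b ∈ N, a * b * a⁻¹ * b⁻¹ ∈ scalars (Fin 3) F) : N ≤ scalars (Fin 3) F := by
  intro a ha
  let π := QuotientGroup.mk' ((scalars (Fin 3) F).subgroupOf X)
  have hnn : (N.subgroupOf X).Normal := ⟨fun x hx g => hn g.1 g.2 x.1 hx⟩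
  have h := hN.comm_bot (N := (N.subgroupOf X).map π) (hnn.map π (QuotientGroup.mk'_surjective _)) (by
    rintro _ ⟨x, hx, rfl⟩ _ ⟨y, hy, rfl⟩
    rw [← map_mul, ← map_mul]
    refine QuotientGroup.eq.2 ?_
    rw [Subgroup.mem_subgroupOf]
    have := hc _ (inv_mem (Subgroup.mem_subgroupOf.1 hy)) _ (inv_mem (Subgroup.mem_subgroupOf.1 hx))
    simpa [mul_assoc] using this)
  have h1 : π ⟨a, hle ha⟩ ∈ (N.subgroupOf X).map π := ⟨_, ha, rfl⟩
  rw [h, Subgroup.mem_bot] at h1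
  exact (QuotientGroup.eq_one_iff (⟨a, hle ha⟩ : X)).1 h1

theorem conj_mem_ker {A M : Type*} [Group A] [Monoid M] (f : A →* M) {x : A} (h : x ∈ f.ker) (g : A) :
    g * x * g⁻¹ ∈ f.ker := by
  rw [MonoidHom.mem_ker] at h ⊢
  rw [map_mul, map_mul, h, mul_one, ← map_mul, mul_inv_cancel, map_one]

theorem comm_mem_ker {A M : Type*} [Group A] [Monoid M] (f : A →* M) {a b : A} (h : f a * f b = f b * f a) :
    a * b * a⁻¹ * b⁻¹ ∈ f.ker := by
  have e : a * b * a⁻¹ * b⁻¹ = (a * b) * (b * a)⁻¹ := by group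
  rw [MonoidHom.mem_ker, e, map_mul, map_mul f a b, h, ← map_mul, ← map_mul, mul_inv_cancel, map_one]

/-- The action on an invariant subspace. -/
def resW {W : Submodule F V3} (hW : Inv X W) : X →* Module.End F W where
  toFun g := (Matrix.toLin' (mat g.1)).restrict fun v hv => hW g.1 g.2 v hv
  map_one' := LinearMap.ext fun v => Subtype.ext (by simp [mat])
  map_mul' a b := LinearMap.ext fun v => Subtype.ext (by
    show mat (a * b).1 *ᵥ v.1 = mat a.1 *ᵥ (mat b.1 *ᵥ v.1)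
    rw [mulVec_mul]; rfl)

/-- The action on the quotient by an invariant subspace. -/
def quoW {W : Submodule F V3} (hW : Inv X W) : X →* Module.End F (V3 ⧸ W) where
  toFun g := W.mapQ W (Matrix.toLin' (mat g.1)) fun v hv => hW g.1 g.2 v hv
  map_one' := Submodule.linearMap_qext _ (LinearMap.ext fun v => by simp [mat])
  map_mul' a b := Submodule.linearMap_qext _ (LinearMap.ext fun v => by
    show Submodule.Quotient.mk (mat (a * b).1 *ᵥ v) = Submodule.Quotient.mk (mat a.1 *ᵥ (mat b.1 *ᵥ v))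
    rw [mulVec_mul]; rfl)

theorem resW_one {W : Submodule F V3} {hW : Inv X W} {x : X} (h : resW hW x = 1) {v : V3} (hv : v ∈ W) :
    mat x.1 *ᵥ v = v := congrArg Subtype.val (LinearMap.congr_fun h ⟨v, hv⟩)

theorem quoW_one {W : Submodule F V3} {hW : Inv X W} {x : X} (h : quoW hW x = 1) (v : V3) :
    mat x.1 *ᵥ v - v ∈ W := (Submodule.Quotient.eq W).1 (LinearMap.congr_fun h (Submodule.Quotient.mk v))

theorem end_scalar_of_one {M : Type*} [AddCommGroup M] [Module F M] (h : Module.finrank F M = 1)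
    (f : Module.End F M) : ∃ c : F, f = c • (1 : Module.End F M) := by
  obtain ⟨v, hv, hspan⟩ := finrank_eq_one_iff'.1 h
  obtain ⟨c, hc⟩ := hspan (f v)
  refine ⟨c, LinearMap.ext fun w => ?_⟩
  obtain ⟨d, rfl⟩ := hspan w
  rw [map_smul, ← hc, LinearMap.smul_apply, Module.End.one_apply, smul_comm]

/-- A two-dimensional representation with small kernel. -/
theorem out_of_rep [Fintype F] {p α : ℕ} [Fact p.Prime] [CharP F p] (hp : p ≠ 2) (hF : Fintype.card F = p ^ α)
    (hN : NoAb (PQ X)) [Nontrivial (PQ X)] (M : Type u) [AddCommGroup M] [Module F M] (hM : Module.finrank F M = 2)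
    (ρ : X →* Module.End F M)
    (hcomm : ∀ g : X, (∃ c : F, ρ g = c • (1 : Module.End F M)) → ∀ h : X,
      (g * h * g⁻¹ * h⁻¹).1 ∈ scalars (Fin 3) F)
    (hscal : ∀ (g : X) (c : Fˣ), mat g.1 = (c : F) • (1 : Matrix (Fin 3) (Fin 3) F) →
      ρ g = (c : F) • (1 : Module.End F M)) : Out p α (PQ X) := by
  classical
  haveI : Module.Finite F M := Module.finite_of_finrank_eq_succ hM
  let bs := Module.finBasisOfFinrankEq F M hM
  obtain ⟨ψ, hψ⟩ : ∃ ψ : X →* GL (Fin 2) F,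
      ∀ g, (ψ g : Matrix (Fin 2) (Fin 2) F) = LinearMap.toMatrixAlgEquiv bs (ρ g) :=
    ⟨(((LinearMap.toMatrixAlgEquiv bs).toRingEquiv.toMulEquiv.toMonoidHom).comp ρ).toHomUnits, fun g => rfl⟩
  obtain ⟨φ, hφ⟩ : ∃ φ : X →* Matrix.ProjGenLinGroup (Fin 2) F, ∀ g, φ g = 1 ↔ ψ g ∈ Subgroup.center (GL (Fin 2) F) :=
    ⟨Matrix.ProjGenLinGroup.mk.comp ψ, fun g => Matrix.ProjGenLinGroup.mk_eq_one⟩
  have hsc : ∀ g : X, φ g = 1 → ∃ c : F, ρ g = c • (1 : Module.End F M) := by
    intro g hg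
    rw [hφ, Matrix.GeneralLinearGroup.center_eq_range_scalar] at hg
    obtain ⟨c, hc⟩ := hg
    refine ⟨(c : F), (LinearMap.toMatrixAlgEquiv bs).injective ?_⟩
    rw [← hψ g, ← hc, ← Algebra.algebraMap_eq_smul_one, AlgEquiv.commutes, Matrix.algebraMap_eq_diagonal]
    rfl
  have hker : φ.ker = (scalars (Fin 3) F).subgroupOf X := by
    apply le_antisymm
    · have hle := normal_scalar hN (N := φ.ker.map X.subtype) (Subgroup.map_subtype_le _) (by
        rintro g hg _ ⟨x, hx, rfl⟩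
        exact ⟨⟨g, hg⟩ * x * (⟨g, hg⟩ : X)⁻¹, conj_mem_ker φ hx _, rfl⟩) (by
        rintro _ ⟨a, ha, rfl⟩ _ ⟨b, hb, rfl⟩
        exact hcomm a (hsc a (MonoidHom.mem_ker.1 ha)) b)
      intro g hg
      exact hle ⟨g, hg, rfl⟩
    · intro g hg
      obtain ⟨c, hc⟩ := (mem_scalars_iff g.1).1 hg
      rw [MonoidHom.mem_ker, hφ, Subgroup.mem_center_iff]
      intro m
      refine Units.ext ?_
      rw [Units.val_mul, Units.val_mul, hψ g, hscal g c hc, ← Algebra.algebraMap_eq_smul_one, AlgEquiv.commutes]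
      exact (Algebra.commutes _ _).symm
  exact out_of_pgl_two hp hF dvd_rfl hN (QuotientGroup.lift _ φ hker.ge)
    ((injective_iff_map_eq_one _).2 fun x hx => by
      obtain ⟨g, rfl⟩ := QuotientGroup.mk'_surjective _ x
      exact (QuotientGroup.eq_one_iff g).2 (hker.le (MonoidHom.mem_ker.2 hx)))

/-- The reducible case. -/
theorem out_reducible [Fintype F] {p α : ℕ} [Fact p.Prime] [CharP F p] (hp : p ≠ 2) (hF : Fintype.card F = p ^ α)
    (hN : NoAb (PQ X)) [Nontrivial (PQ X)] (hirr : ¬ Irr X) : Out p α (PQ X) := by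
  classical
  unfold Irr at hirr
  push Not at hirr
  obtain ⟨W, hW, hb, ht⟩ := hirr
  obtain ⟨r, hr⟩ : ∃ r : X →* Module.End F W, r = resW hW := ⟨_, rfl⟩
  obtain ⟨s, hs⟩ : ∃ s : X →* Module.End F (V3 ⧸ W), s = quoW hW := ⟨_, rfl⟩
  -- elements scalar on both sections
  obtain ⟨U, hUdef⟩ : ∃ U : Subgroup X, ∀ x, x ∈ U ↔ r x = 1 ∧ s x = 1 :=
    ⟨r.ker ⊓ s.ker, fun x => Iff.rfl⟩
  have hU : U.map X.subtype ≤ scalars (Fin 3) F := by
    refine normal_scalar hN (Subgroup.map_subtype_le _) ?_ ?_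
    · rintro g hg _ ⟨x, hx, rfl⟩
      exact ⟨⟨g, hg⟩ * x * (⟨g, hg⟩ : X)⁻¹, (hUdef _).2
        ⟨conj_mem_ker r (x := x) ((hUdef x).1 hx).1 _, conj_mem_ker s (x := x) ((hUdef x).1 hx).2 _⟩, rfl⟩
    rintro _ ⟨a, ha, rfl⟩ _ ⟨b, hb', rfl⟩
    have hfix : ∀ x ∈ U, ∀ v, mat (x : GL (Fin 3) F) *ᵥ v - v ∈ W := fun x hx v =>
      quoW_one (hW := hW) (hs ▸ ((hUdef x).1 hx).2) v
    have hfix' : ∀ x ∈ U, ∀ v ∈ W, mat (x : GL (Fin 3) F) *ᵥ v = v := fun x hx v hv =>
      resW_one (hW := hW) (hr ▸ ((hUdef x).1 hx).1) hv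
    have key : ∀ x ∈ U, ∀ y ∈ U, ∀ v, mat ((x : GL (Fin 3) F) * (y : GL (Fin 3) F)) *ᵥ v =
        mat (x : GL (Fin 3) F) *ᵥ v + (mat (y : GL (Fin 3) F) *ᵥ v - v) := by
      intro x hx y hy v
      rw [← mulVec_mul]
      conv_lhs => rw [show mat (y : GL (Fin 3) F) *ᵥ v = v + (mat (y : GL (Fin 3) F) *ᵥ v - v) by abel]
      rw [Matrix.mulVec_add, hfix' x hx _ (hfix y hy v)]
    have hab : (a : GL (Fin 3) F) * (b : GL (Fin 3) F) = (b : GL (Fin 3) F) * (a : GL (Fin 3) F) := Units.ext (Matrix.ext_of_mulVec_single fun i => by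
      show mat ((a : GL (Fin 3) F) * (b : GL (Fin 3) F)) *ᵥ _ = mat ((b : GL (Fin 3) F) * (a : GL (Fin 3) F)) *ᵥ _
      rw [key a ha b hb', key b hb' a ha]; abel)
    show (a : GL (Fin 3) F) * (b : GL (Fin 3) F) * (a : GL (Fin 3) F)⁻¹ * (b : GL (Fin 3) F)⁻¹ ∈ _
    rw [hab, mul_inv_cancel_right, mul_inv_cancel]
    exact one_mem _
  have hdim : Module.finrank F W = 1 ∧ Module.finrank F (V3 ⧸ W) = 2 ∨
      Module.finrank F W = 2 ∧ Module.finrank F (V3 ⧸ W) = 1 := by
    have h1 := W.finrank_quotient_add_finrank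
    rw [Module.finrank_fintype_fun_eq_card, Fintype.card_fin] at h1
    have h2 : Module.finrank F W ≠ 0 := fun e => hb (Submodule.finrank_eq_zero.1 e)
    have h3 : Module.finrank F W < 3 := by
      have := Submodule.finrank_lt (s := W) ht
      rwa [Module.finrank_fintype_fun_eq_card, Fintype.card_fin] at this
    omega
  have key2 : ∀ g : X, ∀ h : X, (∃ c : F, r g = c • (1 : Module.End F W)) → (∃ d : F, s g = d • (1 : Module.End F (V3 ⧸ W))) →
      (g * h * g⁻¹ * h⁻¹).1 ∈ scalars (Fin 3) F := fun g h ⟨c, hc⟩ ⟨d, hd⟩ =>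
    hU ⟨_, (hUdef _).2 ⟨comm_mem_ker r (by rw [hc, smul_mul_assoc, one_mul, mul_smul_comm, mul_one]),
      comm_mem_ker s (by rw [hd, smul_mul_assoc, one_mul, mul_smul_comm, mul_one])⟩, rfl⟩
  rcases hdim with ⟨h1, h2⟩ | ⟨h2, h1⟩
  · refine out_of_rep hp hF hN (V3 ⧸ W) h2 s (fun g hg h => key2 g h (end_scalar_of_one h1 _) hg) fun g c hc => ?_
    subst hs
    exact Submodule.linearMap_qext _ (LinearMap.ext fun v => by
      show Submodule.Quotient.mk (p := W) (mat g.1 *ᵥ v) = (c : F) • Submodule.Quotient.mk (p := W) v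
      rw [hc, smul_one_mulVec]; rfl)
  · refine out_of_rep hp hF hN W h2 r (fun g hg h => key2 g h hg (end_scalar_of_one h1 _)) fun g c hc => ?_
    subst hr
    exact LinearMap.ext fun v => Subtype.ext (by
      show mat g.1 *ᵥ v.1 = (c : F) • v.1
      rw [hc, smul_one_mulVec])

/-- The irreducible case has a core. -/
theorem exists_core_of_noab (hSL : X ≤ Geo.specialLinear (Fin 3) F) (hN : NoAb (PQ X)) (hirr : Irr X) :
    ∃ P, P ≤ X ∧ Normalised X P ∧ ResidualThree.Core P := by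
  have hr : (Fintype.card (Fin 3)).Prime := by rw [Fintype.card_fin]; exact Nat.prime_three
  rcases lines_semilinear_good hr hirr with h | h | hgood
  · obtain ⟨N, b, χ, hle, hn, hχ, hinj, -⟩ := h
    have hcomm : ∀ g ∈ N, ∀ g' ∈ N, g * g' = g' * g := fun g hg g' hg' => by
      refine Units.ext (Matrix.toLin'.injective (b.ext fun i => ?_))
      show mat (g * g') *ᵥ b i = mat (g' * g) *ᵥ b i
      rw [← mulVec_mul, ← mulVec_mul, hχ g' hg', hχ g hg, Matrix.mulVec_smul, Matrix.mulVec_smul, hχ g hg,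
        hχ g' hg', smul_comm]
    have hs := normal_scalar hN hle hn fun a ha c hc => by
      rw [hcomm a ha c hc, mul_inv_cancel_right, mul_inv_cancel]; exact one_mem _
    refine absurd (hinj 0 1 fun g hg => ?_) (by decide)
    obtain ⟨c, hc⟩ := (mem_scalars_iff g).1 (hs hg)
    have h1 : ∀ i, χ i g = (c : F) := fun i => by
      have h2 := hχ g hg i
      rw [mat, hc, smul_one_mulVec] at h2
      exact smul_left_injective F (b.ne_zero i) h2.symm
    rw [h1, h1]
  · obtain ⟨K, N, hle, hn, -, -, hK, hNK, hns⟩ := h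
    refine absurd (normal_scalar hN hle hn fun a ha c hc => ?_) hns
    rw [show a * c = c * a from Units.ext ((hK _).1 (hNK a ha) c hc), mul_inv_cancel_right, mul_inv_cancel]
    exact one_mem _
  · exact exists_core_three hirr hgood fun N h1 h2 h3 h4 =>
      h3 (normal_scalar hN h1 h2 fun a ha b hb => h4 (Subgroup.commutator_mem_commutator ha hb))

end Cfsg.Agent.ResidualThree.Psl
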