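import Cfsg.Agent.ResidualThree.Psl.Defs
import Mathlib.FieldTheory.Finite.GaloisField
import Mathlib.GroupTheory.SpecificGroups.Cyclic

/-!
The case where the core is the whole special linear group.
-/

set_option autoImplicit false

open scoped MatrixGroups
open Cfsg

namespace Cfsg.Agent.ResidualThree.Psl

universe u

theorem psl_congr {K : Type*} [Field K] {L : Type*} [Field L] (e : K ≃+* L) :
    Nonempty (Matrix.ProjectiveSpecialLinearGroup (Fin 3) K ≃*
      Matrix.ProjectiveSpecialLinearGroup (Fin 3) L) := by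
  let E : Matrix.SpecialLinearGroup (Fin 3) K ≃* Matrix.SpecialLinearGroup (Fin 3) L :=
    { toFun := Matrix.SpecialLinearGroup.map (e : K →+* L)
      invFun := Matrix.SpecialLinearGroup.map (e.symm : L →+* K)
      left_inv := fun x => by ext i j; simp
      right_inv := fun x => by ext i j; simp
      map_mul' := map_mul _ }
  refine ⟨QuotientGroup.congr _ _ E ?_⟩
  ext y
  simp only [Subgroup.mem_map, Subgroup.mem_center_iff]
  constructor
  · rintro ⟨x, hx, rfl⟩ g
    obtain ⟨g', rfl⟩ := E.surjective g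
    show E g' * E x = E x * E g'
    rw [← map_mul, ← map_mul, hx g']
  · intro hy
    refine ⟨E.symm y, fun g => E.injective ?_, E.apply_symm_apply y⟩
    rw [map_mul, map_mul, E.apply_symm_apply, hy (E g)]

/-- The core is the whole special linear group. -/
theorem linear_step {K : Type u} [Field K] [Fintype K] {p α : ℕ} [Fact p.Prime] [CharP K p]
    (_hp : p ≠ 2) {X P : Subgroup (GL (Fin 3) K)} (D : Data p α X P)
    (hP : P = Cfsg.Geo.specialLinear (Fin 3) K) : Out p α (PQ X) := by
  classical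
  obtain ⟨β, hpr, hq⟩ := FiniteField.card K p
  obtain ⟨F, iF, iFF, f, hcardF, hdet⟩ := D.hom
  letI := iF
  letI := iFF
  have hβ0 : (β : ℕ) ≠ 0 := β.2.ne'
  letI : Algebra K F := f.toAlgebra
  obtain ⟨n, hn⟩ : ∃ n, Fintype.card F = Fintype.card K ^ n := ⟨_, Module.card_eq_pow_finrank (K := K) (V := F)⟩
  have hαn : α = (β : ℕ) * n := by
    apply Nat.pow_right_injective hpr.two_le
    show p ^ α = p ^ ((β : ℕ) * n)
    rw [← hcardF, hn, hq, ← pow_mul]
  -- a model of the field
  let K₀ := GaloisField p β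
  letI : Fintype K₀ := Fintype.ofFinite K₀
  have hK₀ : Fintype.card K₀ = p ^ (β : ℕ) := by
    rw [← Nat.card_eq_fintype_card]; exact GaloisField.card p β hβ0
  obtain ⟨epsl⟩ := psl_congr (FiniteField.ringEquivOfCardEq (K := K) (K' := K₀) (by rw [hK₀, hq]))
  -- the map from the special linear group
  have hmem : ∀ s : Matrix.SpecialLinearGroup (Fin 3) K,
      (Matrix.SpecialLinearGroup.toGL s : GL (Fin 3) K) ∈ X := fun s => by
    refine D.le ?_
    rw [hP]
    exact Units.ext s.2
  set S := (Cfsg.Geo.scalars (Fin 3) K).subgroupOf X with hS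
  let ι : Matrix.SpecialLinearGroup (Fin 3) K →* X :=
    Matrix.SpecialLinearGroup.toGL.codRestrict X hmem
  let Φ : Matrix.SpecialLinearGroup (Fin 3) K →* PQ X := (QuotientGroup.mk' S).comp ι
  have hkerΦ : Φ.ker = Subgroup.center (Matrix.SpecialLinearGroup (Fin 3) K) := by
    ext s
    rw [MonoidHom.mem_ker, Matrix.SpecialLinearGroup.mem_center_iff]
    show (QuotientGroup.mk (ι s) : X ⧸ S) = 1 ↔ _
    rw [QuotientGroup.eq_one_iff, Subgroup.mem_subgroupOf, Cfsg.Geo.mem_scalars_iff]
    constructor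
    · rintro ⟨c, hc⟩
      have hc' : s.1 = (c : K) • (1 : Matrix (Fin 3) (Fin 3) K) := hc
      refine ⟨c, ?_, ?_⟩
      · have h1 := s.2
        rw [hc', Matrix.det_smul, Matrix.det_one, mul_one] at h1
        exact h1
      · rw [hc', Matrix.scalar_apply, Matrix.smul_one_eq_diagonal]
    · rintro ⟨r, hr, hrs⟩
      have hr0 : r ≠ 0 := fun h0 => by simp [h0] at hr
      refine ⟨Units.mk0 r hr0, ?_⟩
      show s.1 = r • (1 : Matrix (Fin 3) (Fin 3) K)
      rw [← hrs, Matrix.scalar_apply, Matrix.smul_one_eq_diagonal]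
  have hL : Nonempty (↥Φ.range ≃* Matrix.ProjectiveSpecialLinearGroup (Fin 3) K₀) :=
    ⟨((QuotientGroup.quotientKerEquivRange Φ).symm.trans
      (QuotientGroup.quotientMulEquivOfEq hkerΦ)).trans epsl⟩
  -- determinants modulo cubes
  set C := (powMonoidHom 3 : Kˣ →* Kˣ).range with hC
  let δ : X →* Kˣ ⧸ C :=
    (QuotientGroup.mk' C).comp (Matrix.GeneralLinearGroup.det.comp X.subtype)
  have hSδ : S ≤ δ.ker := by
    intro x hx
    obtain ⟨c, hc⟩ := (Cfsg.Geo.mem_scalars_iff _).1 (Subgroup.mem_subgroupOf.1 hx)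
    rw [MonoidHom.mem_ker]
    refine (QuotientGroup.eq_one_iff _).2 ⟨c, Units.ext ?_⟩
    show (c : K) ^ 3 = Matrix.det ((x : GL (Fin 3) K) : Matrix (Fin 3) (Fin 3) K)
    rw [hc, Matrix.det_smul, Matrix.det_one, mul_one, Fintype.card_fin]
  let ψ : PQ X →* Kˣ ⧸ C := QuotientGroup.lift S δ hSδ
  have hψ : ψ.ker = Φ.range := by
    ext y
    obtain ⟨x, rfl⟩ := QuotientGroup.mk_surjective y
    rw [MonoidHom.mem_ker]
    show δ x = 1 ↔ _
    constructor
    · intro h1
      obtain ⟨e, he⟩ := (QuotientGroup.eq_one_iff _).1 h1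
      have he' : (e : K) ^ 3 = Matrix.det ((x : GL (Fin 3) K) : Matrix (Fin 3) (Fin 3) K) :=
        congrArg Units.val he
      let s : Matrix.SpecialLinearGroup (Fin 3) K :=
        ⟨((e⁻¹ : Kˣ) : K) • ((x : GL (Fin 3) K) : Matrix (Fin 3) (Fin 3) K), by
          rw [Matrix.det_smul, Fintype.card_fin, ← he', ← mul_pow, Units.inv_mul, one_pow]⟩
      refine ⟨s, QuotientGroup.eq.2 ?_⟩
      rw [Subgroup.mem_subgroupOf, Cfsg.Geo.mem_scalars_iff]
      refine ⟨e, ?_⟩
      show (((Matrix.SpecialLinearGroup.toGL s : GL (Fin 3) K)⁻¹ * (x : GL (Fin 3) K) :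
        GL (Fin 3) K) : Matrix (Fin 3) (Fin 3) K) = _
      have hx : ((x : GL (Fin 3) K) : Matrix (Fin 3) (Fin 3) K) =
          ((Matrix.SpecialLinearGroup.toGL s : GL (Fin 3) K) : Matrix (Fin 3) (Fin 3) K) *
            ((e : K) • 1) := by
        show _ = (((e⁻¹ : Kˣ) : K) • _) * _
        rw [Matrix.mul_smul, mul_one, smul_smul, Units.mul_inv, one_smul]
      rw [Units.val_mul, hx, ← mul_assoc, ← Units.val_mul, inv_mul_cancel, Units.val_one, one_mul]
    · rintro ⟨s, hs⟩
      have h1 : ψ (Φ s) = 1 := by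
        show δ (ι s) = 1
        refine (QuotientGroup.eq_one_iff _).2 ⟨1, Units.ext ?_⟩
        show ((1 : Kˣ) : K) ^ 3 = Matrix.det s.1
        rw [s.2, Units.val_one, one_pow]
      rw [hs] at h1
      exact h1
  by_cases hsurj : ψ.ker = ⊤
  · left
    obtain ⟨eL⟩ := hL
    refine ⟨K₀, inferInstance, inferInstance, β, hK₀, ⟨n, hαn⟩, ⟨?_⟩⟩
    exact (Subgroup.topEquiv.symm.trans (MulEquiv.subgroupCongr (hsurj.symm.trans hψ))).trans eL
  · -- a determinant that is not a cube
    obtain ⟨y, hy⟩ : ∃ y, ψ y ≠ 1 := by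
      by_contra hc
      push Not at hc
      exact hsurj (eq_top_iff.2 fun y _ => MonoidHom.mem_ker.2 (hc y))
    have hidx : C.index = 3 := by
      have h1 : C.index = (Nat.card Kˣ).gcd 3 := IsCyclic.index_powMonoidHom_range _ 3
      rcases (Nat.dvd_prime Nat.prime_three).1 (Nat.gcd_dvd_right (Nat.card Kˣ) 3) with h | h
      · exfalso
        refine hy ?_
        haveI : Subsingleton (Kˣ ⧸ C) := by
          rw [Subgroup.index_eq_one.1 (h1.trans h)]; exact QuotientGroup.subsingleton_quotient_top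
        exact Subsingleton.elim _ _
      · exact h1.trans h
    haveI : Fact (Nat.Prime 3) := ⟨Nat.prime_three⟩
    have hrange : ψ.range = ⊤ := by
      haveI : Fact (Nat.card (Kˣ ⧸ C)).Prime :=
        ⟨by rw [show Nat.card (Kˣ ⧸ C) = 3 from hidx]; exact Nat.prime_three⟩
      rcases Subgroup.eq_bot_or_eq_top_of_prime_card ψ.range with h | h
      · exact absurd (Subgroup.mem_bot.1 (h ▸ ⟨y, rfl⟩ : ψ y ∈ (⊥ : Subgroup (Kˣ ⧸ C)))) hy
      · exact h
    have hidx' : Φ.range.index = 3 := by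
      rw [← hψ, Subgroup.index_ker, hrange, Subgroup.card_top]
      exact hidx
    set q := Fintype.card K with hqdef
    have hunits : Nat.card Kˣ = q - 1 := by rw [Nat.card_eq_fintype_card, Fintype.card_units]
    have h3 : 3 ∣ q - 1 := by rw [← hunits, ← hidx]; exact Subgroup.index_dvd_card C
    obtain ⟨m, hm⟩ := h3
    obtain ⟨x, rfl⟩ := QuotientGroup.mk_surjective y
    set d : Kˣ := Matrix.GeneralLinearGroup.det (x : GL (Fin 3) K) with hddef
    have hd : d ∉ C := fun h => hy ((QuotientGroup.eq_one_iff _).2 h)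
    obtain ⟨c, hc⟩ := hdet x x.2
    have hc' : c ^ 3 * f (d : K) = 1 := hc
    have hdm : d ^ m ≠ 1 := by
      intro h
      refine hd ?_
      have hle : C ≤ (powMonoidHom m : Kˣ →* Kˣ).ker := by
        rintro _ ⟨e, rfl⟩
        show (e ^ 3) ^ m = 1
        rw [← pow_mul, ← hm, ← hunits]
        exact pow_card_eq_one'
      have hcC : Nat.card C = m := by
        have h1 := C.card_mul_index
        rw [hidx, hunits, hm] at h1
        omega
      have hcK : Nat.card (powMonoidHom m : Kˣ →* Kˣ).ker = m := by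
        rw [IsCyclic.card_powMonoidHom_ker, hunits, hm, Nat.gcd_mul_left_left]
      rw [Subgroup.eq_of_le_of_card_ge hle (by rw [hcC, hcK])]
      exact h
    set e : F := c⁻¹ with hedef
    have hc0 : c ≠ 0 := fun h => by simp [h] at hc'
    have he3 : e ^ 3 = f (d : K) := by
      rw [hedef, inv_pow]; exact inv_eq_of_mul_eq_one_right hc'
    have he0 : e ≠ 0 := inv_ne_zero hc0
    have hw : e ^ (q - 1) = f ((d ^ m : Kˣ) : K) := by
      rw [hm, pow_mul, he3, Units.val_pow_eq_pow_val, map_pow]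
    set w : F := e ^ (q - 1) with hwdef
    have hw1 : w ≠ 1 := fun h => hdm (Units.ext (f.injective (by rw [← hw, h, Units.val_one, map_one])))
    have hw3 : w ^ 3 = 1 := by
      rw [hw, ← map_pow, ← Units.val_pow_eq_pow_val, ← pow_mul, mul_comm m 3, ← hm, ← hunits,
        pow_card_eq_one', Units.val_one, map_one]
    have hq0 : 1 ≤ q := Fintype.card_pos
    have hwq : w ^ q = w := by
      rw [show q = 3 * m + 1 by omega, pow_succ, pow_mul, hw3, one_pow, one_mul]
    have hiter : ∀ i, e ^ q ^ i = e * w ^ i := by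
      intro i
      induction i with
      | zero => simp
      | succ i ih =>
        rw [pow_succ, pow_mul, ih, mul_pow, ← pow_mul, mul_comm i q, pow_mul, hwq,
          show e ^ q = e * w by rw [hwdef, ← pow_succ']; congr 1; omega, mul_assoc, ← pow_succ']
    have hwn : w ^ n = 1 := by
      have h1 := hiter n
      rw [← hn, FiniteField.pow_card] at h1
      exact mul_left_cancel₀ he0 (h1.symm.trans (mul_one e).symm)
    have h3n : 3 ∣ n := by
      rw [← orderOf_eq_prime hw3 hw1]
      exact orderOf_dvd_of_pow_eq_one hwn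
    obtain ⟨k, hk⟩ := h3n
    refine Or.inr (Or.inr (Or.inl ⟨K₀, inferInstance, inferInstance, β, hK₀, ⟨m, ?_⟩, ⟨k, ?_⟩,
      Φ.range, hidx', hL⟩))
    · rw [← hm, ← hq]
    · rw [hαn, hk]; ring

end Cfsg.Agent.ResidualThree.Psl
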