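import Cfsg.Agent.ResidualThree.Psl.SixGenData
import Mathlib.GroupTheory.SpecificGroups.Alternating.Simple
import Mathlib.GroupTheory.Index
import Mathlib.Algebra.Group.End

/-!
The outer automorphisms of the alternating group of degree six, told apart on two generators.
-/

set_option autoImplicit false

namespace Cfsg.Agent.ResidualThree.Psl.SixGen

open Equiv

local notation "A6" => alternatingGroup (Fin 6)

theorem closure_top (H : Subgroup A6) (hs : s ∈ H) (ht : t ∈ H) : H = ⊤ := by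
  haveI : IsSimpleGroup A6 := alternatingGroup.isSimpleGroup (by simp)
  obtain ⟨hs5, hs1, ht3, -, -, -, -, -, hu4, hu2, hb⟩ := basics
  have hbm : b ∈ H := by
    rw [← hb]
    exact mul_mem (mul_mem (mul_mem (mul_mem (mul_mem (mul_mem hs hs) ht) hs) ht) hs) hs
  have h9 : 9 ∣ Nat.card H := by
    let C := Subgroup.centralizer ({t} : Set A6)
    have hC : Nat.card C = 9 := by
      rw [← cent_card]
      exact Nat.card_congr (Equiv.subtypeEquivRight fun h => by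
        rw [Subgroup.mem_centralizer_singleton_iff])
    rw [← hC]
    refine Subgroup.card_dvd_of_le fun h hh => ?_
    obtain ⟨m, n, rfl⟩ := cent_t h (Subgroup.mem_centralizer_singleton_iff.1 hh)
    exact mul_mem (pow_mem ht _) (pow_mem hbm _)
  have hdvd : ∀ (x : A6) (n : ℕ), x ∈ H → orderOf x = n → n ∣ Nat.card H := fun x n hx hn => by
    rw [← hn, ← Subgroup.orderOf_mk x hx]
    exact orderOf_dvd_natCard _
  haveI : Fact (Nat.Prime 5) := ⟨Nat.prime_five⟩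
  haveI : Fact (Nat.Prime 2) := ⟨Nat.prime_two⟩
  have h5 := hdvd s 5 hs (orderOf_eq_prime hs5 hs1)
  have h4 := hdvd (t * s) (2 ^ (1 + 1)) (mul_mem ht hs) (orderOf_eq_prime_pow (by rw [pow_one, pow_two]; exact hu2) hu4)
  have h180 : 180 ∣ Nat.card H := by
    have : Nat.lcm (Nat.lcm 9 5) 4 ∣ Nat.card H := Nat.lcm_dvd (Nat.lcm_dvd h9 h5) h4
    exact this
  have htot : H.index * Nat.card H = 360 := by
    rw [Subgroup.index_mul_card, Nat.card_eq_fintype_card]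
    decide +kernel
  obtain ⟨k, hk⟩ := h180
  have hi : H.index = 1 ∨ H.index = 2 := by
    rw [hk] at htot
    have : H.index * k = 2 := by nlinarith
    exact (Nat.dvd_prime Nat.prime_two).1 ⟨k, this.symm⟩
  rcases hi with h | h
  · exact Subgroup.index_eq_one.1 h
  · haveI := Subgroup.normal_of_index_eq_two h
    refine (Subgroup.Normal.eq_bot_or_eq_top (H := H) inferInstance).resolve_left fun e => hs1 ?_
    rw [e] at hs
    exact Subgroup.mem_bot.1 hs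

theorem aut_ext {γ δ : MulAut A6} (h1 : γ s = δ s) (h2 : γ t = δ t) : γ = δ := by
  have := closure_top (MonoidHom.eqLocus γ.toMonoidHom δ.toMonoidHom) h1 h2
  refine MulEquiv.ext fun x => ?_
  have hx : x ∈ MonoidHom.eqLocus γ.toMonoidHom δ.toMonoidHom := this.symm ▸ Subgroup.mem_top x
  exact hx

theorem isConj_apply (γ : MulAut A6) {x y : A6} : IsConj (γ x) (γ y) ↔ IsConj x y := by
  refine ⟨fun h => ?_, fun h => γ.toMonoidHom.map_isConj h⟩
  simpa using γ.symm.toMonoidHom.map_isConj h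

def P5 (γ : MulAut A6) : Prop := IsConj s (γ s)
def P3 (γ : MulAut A6) : Prop := IsConj t (γ t)

theorem two_class {s s' : A6} {n : ℕ} (hs : s ^ n = 1) (hs1 : s ≠ 1) (hs' : s' ^ n = 1) (hs1' : s' ≠ 1)
    (hne : ¬ IsConj s s') (hcov : ∀ x : A6, x ^ n = 1 → x ≠ 1 → IsConj s x ∨ IsConj s' x) (γ δ : MulAut A6) :
    IsConj s ((γ * δ) s) ↔ (IsConj s (γ s) ↔ IsConj s (δ s)) := by
  have him : ∀ (γ : MulAut A6) (x : A6), x ^ n = 1 → x ≠ 1 → IsConj s (γ x) ∨ IsConj s' (γ x) := fun γ x h h1 =>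
    hcov _ (by rw [← map_pow, h, map_one]) fun e => h1 (γ.injective (e.trans (map_one γ).symm))
  rw [MulAut.mul_apply]
  rcases him δ s hs hs1 with h | h
  · exact ⟨fun h' => iff_of_true (h'.trans ((isConj_apply γ).2 h).symm) h,
      fun h' => (h'.2 h).trans ((isConj_apply γ).2 h)⟩
  · have hδ : ¬ IsConj s (δ s) := fun e => hne (e.trans h.symm)
    have hγ : IsConj s (γ s') ↔ ¬ IsConj s (γ s) := by
      refine ⟨fun e e' => hne ((isConj_apply γ).1 (e'.symm.trans e)), fun e => ?_⟩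
      rcases him γ s' hs' hs1' with e1 | e1
      · exact e1
      · exact absurd ((isConj_apply γ).1 (((him γ s hs hs1).resolve_left e).symm.trans e1)) hne
    refine ⟨fun h' => iff_of_false (hγ.1 (h'.trans ((isConj_apply γ).2 h).symm)) hδ,
      fun h' => (hγ.2 fun e => hδ (h'.1 e)).trans ((isConj_apply γ).2 h)⟩

theorem P5_mul (γ δ : MulAut A6) : P5 (γ * δ) ↔ (P5 γ ↔ P5 δ) := by
  obtain ⟨hs5, hs1, -⟩ := basics
  refine two_class (n := 5) (s' := s * s) hs5 hs1 (by decide +kernel) (by decide +kernel) (fun h => ?_) (fun x h h1 => ?_) γ δ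
  · obtain ⟨a, ha⟩ := isConj_iff.1 h
    exact not_conj.1 a ha
  · obtain ⟨a, ha | ha⟩ := five_classes x h h1
    exacts [Or.inl (isConj_iff.2 ⟨a, ha⟩), Or.inr (isConj_iff.2 ⟨a, ha⟩)]

theorem P3_mul (γ δ : MulAut A6) : P3 (γ * δ) ↔ (P3 γ ↔ P3 δ) := by
  obtain ⟨-, -, ht3, ht1, hP3, -⟩ := basics
  refine two_class (n := 3) (s' := tP) ht3 ht1 hP3 (by decide +kernel) (fun h => ?_) (fun x h h1 => ?_) γ δ
  · obtain ⟨a, ha⟩ := isConj_iff.1 h
    exact not_conj.2.1 a ha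
  · obtain ⟨a, ha | ha⟩ := three_classes x h h1
    exacts [Or.inl (isConj_iff.2 ⟨a, ha⟩), Or.inr (isConj_iff.2 ⟨a, ha⟩)]

theorem P5_one : P5 1 := IsConj.refl s
theorem P3_one : P3 1 := IsConj.refl t

/-- The automorphisms moving either both or none of the pairs of classes. -/
def mTen : Subgroup (MulAut A6) where
  carrier := {γ | P5 γ ↔ P3 γ}
  mul_mem' {γ δ} hγ hδ := by
    show P5 (γ * δ) ↔ P3 (γ * δ)
    rw [P5_mul, P3_mul]; exact iff_congr hγ hδ
  one_mem' := iff_of_true P5_one P3_one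
  inv_mem' {γ} hγ := by
    have h5 := P5_mul γ⁻¹ γ
    have h3 := P3_mul γ⁻¹ γ
    rw [inv_mul_cancel, iff_true_left P5_one] at h5
    rw [inv_mul_cancel, iff_true_left P3_one] at h3
    show P5 γ⁻¹ ↔ P3 γ⁻¹
    exact h5.trans (hγ.trans h3.symm)

/-- Every automorphism is inner times one of four given on the generators. -/
theorem normal_form (γ : MulAut A6) : ∃ (a : A6) (δ : MulAut A6), γ = MulAut.conj a * δ ∧
    ((δ s = s ∧ δ t = t) ∨ (δ s = s ∧ δ t = tP) ∨ (δ s = s * s ∧ δ t = tS) ∨ (δ s = s * s ∧ δ t = tM)) := by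
  obtain ⟨hs5, hs1, ht3, ht1, -, -, -, h3, h4, -⟩ := basics
  have main : ∀ (δ : MulAut A6) (S T T' : A6), δ s = S → Commute s S →
      (∀ R : A6, R ^ 3 = 1 → R ≠ 1 → (R * S ^ 3) ^ 3 = 1 → (R * S) ^ 4 = 1 →
        ∃ n : Fin 5, R = s ^ n.val * T * (s ^ n.val)⁻¹ ∨ R = s ^ n.val * T' * (s ^ n.val)⁻¹) →
      ∃ (a : A6) (ε : MulAut A6), δ = MulAut.conj a * ε ∧ ε s = S ∧ (ε t = T ∨ ε t = T') := by
    intro δ S T T' hS hc hcand
    obtain ⟨n, hn⟩ := hcand (δ t) (by rw [← map_pow, ht3, map_one])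
      (fun e => ht1 (δ.injective (e.trans (map_one δ).symm)))
      (by rw [← hS, ← map_pow, ← map_mul, ← map_pow, h3, map_one])
      (by rw [← hS, ← map_mul, ← map_pow, h4, map_one])
    refine ⟨s ^ n.val, MulAut.conj (s ^ n.val)⁻¹ * δ, by rw [← mul_assoc, ← map_mul, mul_inv_cancel, map_one, one_mul],
      ?_, ?_⟩
    · rw [MulAut.mul_apply, MulAut.conj_apply, hS, inv_inv, ((hc.pow_left _).inv_left).eq, inv_mul_cancel_right]
    · rw [MulAut.mul_apply, MulAut.conj_apply, inv_inv]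
      rcases hn with e | e <;> rw [e]
      · exact Or.inl (by group)
      · exact Or.inr (by group)
  obtain ⟨a₀, ha⟩ := five_classes (γ s) (by rw [← map_pow, hs5, map_one])
    (fun e => hs1 (γ.injective (e.trans (map_one γ).symm)))
  have hγ : γ = MulAut.conj a₀ * (MulAut.conj a₀⁻¹ * γ) := by
    rw [← mul_assoc, ← map_mul, mul_inv_cancel, map_one, one_mul]
  rcases ha with ha | ha
  · obtain ⟨a, ε, he, hεs, hεt⟩ := main (MulAut.conj a₀⁻¹ * γ) s t tP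
      (by rw [MulAut.mul_apply, MulAut.conj_apply, ← ha]; group) (Commute.refl s) cands_one
    exact ⟨a₀ * a, ε, by rw [map_mul, mul_assoc, ← he, ← hγ],
      hεt.elim (fun h => Or.inl ⟨hεs, h⟩) fun h => Or.inr (Or.inl ⟨hεs, h⟩)⟩
  · obtain ⟨a, ε, he, hεs, hεt⟩ := main (MulAut.conj a₀⁻¹ * γ) (s * s) tS tM
      (by rw [MulAut.mul_apply, MulAut.conj_apply, ← ha]; group) ((Commute.refl s).mul_right (Commute.refl s))
      cands_two
    exact ⟨a₀ * a, ε, by rw [map_mul, mul_assoc, ← he, ← hγ],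
      hεt.elim (fun h => Or.inr (Or.inr (Or.inl ⟨hεs, h⟩))) fun h => Or.inr (Or.inr (Or.inr ⟨hεs, h⟩))⟩

theorem P_conj (a : A6) : P5 (MulAut.conj a) ∧ P3 (MulAut.conj a) :=
  ⟨isConj_iff.2 ⟨a, rfl⟩, isConj_iff.2 ⟨a, rfl⟩⟩

theorem inner_of_P {γ : MulAut A6} (h5 : P5 γ) (h3 : P3 γ) :
    γ ∈ (MulAut.conj : A6 →* MulAut A6).range := by
  obtain ⟨a, δ, rfl, h⟩ := normal_form γ
  rw [P5_mul, iff_true_left (P_conj a).1] at h5
  rw [P3_mul, iff_true_left (P_conj a).2] at h3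
  have hn5 : δ s = s * s → False := fun e => by
    obtain ⟨c, hc⟩ := isConj_iff.1 h5
    exact not_conj.1 c (hc.trans e)
  rcases h with ⟨hs, ht⟩ | ⟨-, ht⟩ | ⟨hs, -⟩ | ⟨hs, -⟩
  · exact ⟨a, by rw [aut_ext (δ := 1) (γ := δ) (by simpa using hs) (by simpa using ht), mul_one]⟩
  · obtain ⟨c, hc⟩ := isConj_iff.1 h3
    exact absurd (hc.trans ht) (not_conj.2.1 c)
  · exact (hn5 hs).elim
  · exact (hn5 hs).elim

theorem six_cosets : ∃ M : Subgroup (MulAut A6), (MulAut.conj : A6 →* MulAut A6).range ≤ M ∧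
    (MulAut.conj : A6 →* MulAut A6).range.relIndex M ≤ 2 ∧
    (∀ γ ∈ M, γ ∉ (MulAut.conj : A6 →* MulAut A6).range → ∃ c r : A6, c ≠ 1 ∧ c ^ 5 = 1 ∧ r * γ c * r⁻¹ = c ^ 2) ∧
    (∀ γ : MulAut A6, γ ∉ M → ∃ (a b r : A6) (i j k l : ℕ), a ^ 3 = 1 ∧ b ^ 3 = 1 ∧ a ≠ 1 ∧ a * b = b * a ∧
      (∀ h : A6, h * a = a * h → ∃ m n : ℕ, h = a ^ m * b ^ n) ∧
      r * γ a * r⁻¹ = a ^ i * b ^ j ∧ r * γ b * r⁻¹ = a ^ k * b ^ l ∧ (i * l + 2 * (j * k)) % 3 = 2) := by
  obtain ⟨hs5, hs1, ht3, ht1, -, hb3, htb, -, -, -, hbw⟩ := basics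
  refine ⟨mTen, ?_, ?_, ?_, ?_⟩
  · rintro _ ⟨a, rfl⟩
    exact iff_of_true (P_conj a).1 (P_conj a).2
  · set I := ((MulAut.conj : A6 →* MulAut A6).range).subgroupOf mTen with hI
    show I.index ≤ 2
    have hin : ∀ γ : mTen, P5 (γ : MulAut A6) → γ ∈ I := fun γ h => inner_of_P h ((γ.2 : P5 _ ↔ P3 _).1 h)
    by_cases hall : ∀ γ : mTen, P5 (γ : MulAut A6)
    · rw [show I = ⊤ from eq_top_iff.2 fun γ _ => hin γ (hall γ), Subgroup.index_top]; norm_num
    push Not at hall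
    obtain ⟨g₀, hg₀⟩ := hall
    refine le_trans (Nat.card_le_card_of_surjective
      (fun q : Bool => if q then ((1 : mTen) : mTen ⧸ I) else (g₀ : mTen ⧸ I)) fun x => ?_) (le_of_eq Nat.card_eq_fintype_card)
    obtain ⟨γ, rfl⟩ := QuotientGroup.mk_surjective x
    by_cases h : P5 (γ : MulAut A6)
    · exact ⟨true, QuotientGroup.eq.2 (by simpa using hin γ h)⟩
    · refine ⟨false, QuotientGroup.eq.2 (hin _ ?_)⟩
      show P5 ((g₀ : MulAut A6)⁻¹ * (γ : MulAut A6))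
      have hi := P5_mul (g₀ : MulAut A6)⁻¹ g₀
      rw [inv_mul_cancel, iff_true_left P5_one] at hi
      rw [P5_mul]
      exact iff_of_false (fun e => hg₀ (hi.1 e)) h
  · intro γ hγ hn
    obtain ⟨a, δ, rfl, h⟩ := normal_form γ
    refine ⟨s, a⁻¹, hs1, hs5, ?_⟩
    have h5 : ¬ P5 (MulAut.conj a * δ) := fun e => hn (inner_of_P e ((hγ : P5 _ ↔ P3 _).1 e))
    rw [P5_mul, iff_true_left (P_conj a).1] at h5
    rw [MulAut.mul_apply, MulAut.conj_apply, show a⁻¹ * (a * δ s * a⁻¹) * a⁻¹⁻¹ = δ s by group, pow_two]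
    rcases h with ⟨hs, -⟩ | ⟨hs, -⟩ | ⟨hs, -⟩ | ⟨hs, -⟩
    · exact absurd (show IsConj s (δ s) by rw [hs]) h5
    · exact absurd (show IsConj s (δ s) by rw [hs]) h5
    · exact hs
    · exact hs
  · intro γ hγ
    obtain ⟨a, δ, rfl, h⟩ := normal_form γ
    have hγ' : ¬ (P5 (MulAut.conj a * δ) ↔ P3 (MulAut.conj a * δ)) := hγ
    rw [P5_mul, P3_mul, iff_true_left (P_conj a).1, iff_true_left (P_conj a).2] at hγ'
    have hr : ∀ x : A6, r₀ * a⁻¹ * (MulAut.conj a * δ) x * (r₀ * a⁻¹)⁻¹ = r₀ * δ x * r₀⁻¹ := fun x => by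
      rw [MulAut.mul_apply, MulAut.conj_apply]; group
    have hδb : δ b = bWord (δ s) (δ t) := by rw [← hbw]; simp only [bWord, map_mul]
    have hcent : ∀ h : A6, h * t = t * h → ∃ m n : ℕ, h = t ^ m * b ^ n := fun h hh =>
      let ⟨m, n, e⟩ := cent_t h hh; ⟨m, n, e⟩
    rcases h with ⟨hs, ht⟩ | ⟨hs, ht⟩ | ⟨hs, ht⟩ | ⟨hs, ht⟩
    · exact absurd (iff_of_true (show IsConj s (δ s) by rw [hs]) (show IsConj t (δ t) by rw [ht])) hγ'
    · exact ⟨t, b, r₀ * a⁻¹, 2, 1, 2, 2, ht3, hb3, ht1, htb, hcent, by rw [hr, ht, pgl_data.1],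
        by rw [hr, hδb, hs, ht, pgl_data.2], by norm_num⟩
    · exact ⟨t, b, r₀ * a⁻¹, 2, 0, 0, 1, ht3, hb3, ht1, htb, hcent, by rw [hr, ht, sym_data.1],
        by rw [hr, hδb, hs, ht, sym_data.2], by norm_num⟩
    · refine absurd (iff_of_false (fun e => ?_) (fun e => ?_)) hγ'
      · obtain ⟨c, hc⟩ := isConj_iff.1 e
        exact not_conj.1 c (hc.trans hs)
      · obtain ⟨c, hc⟩ := isConj_iff.1 e
        exact not_conj.2.2 c (hc.trans ht)

end Cfsg.Agent.ResidualThree.Psl.SixGen
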