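import Cfsg.Agent.ResidualThree.Psl.Assembly
import Cfsg.Agent.ResidualThree.Psl.Descend
import Cfsg.Agent.ResidualThree.Small.Cubic
import Cfsg.Agent.S2119
import Cfsg.Agent.PrimeDim.Core

/-!
A core with quotient the alternating group of degree seven.
-/

set_option autoImplicit false
set_option maxHeartbeats 400000

namespace Cfsg.Agent.ResidualThree.Psl

open Matrix Cfsg Cfsg.Geo Cfsg.Agent.PrimeDim
open scoped MatrixGroups

universe u

theorem seven_cycle :
    ∃ c : Equiv.Perm (Fin 7), c ∈ alternatingGroup (Fin 7) ∧ c ^ 7 = 1 ∧ c ≠ 1 ∧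
      (∃ w ∈ alternatingGroup (Fin 7), w * c * w⁻¹ = c * c) ∧
      ∃ t : Equiv.Perm (Fin 7), Equiv.Perm.sign t = -1 ∧ t * c * t⁻¹ = c⁻¹ := by
  refine ⟨finRotate 7, ?_, ?_, ?_, ⟨Equiv.swap 1 2 * Equiv.swap 2 4 * (Equiv.swap 3 6 * Equiv.swap 6 5), ?_, ?_⟩,
    Equiv.swap 1 6 * Equiv.swap 2 5 * Equiv.swap 3 4, ?_, ?_⟩
  all_goals first | (rw [Equiv.Perm.mem_alternatingGroup]; decide +kernel) | decide +kernel

variable {K : Type u} [Field K] [Fintype K] {p α : ℕ} [Fact p.Prime] [CharP K p]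
  {X P : Subgroup (GL (Fin 3) K)}

/-- An element of order seven conjugate to its inverse and to its square is trivial in characteristic five. -/
theorem eq_one_of_seven (hp : p ≠ 2) (hp7 : p ≠ 7) {g : GL (Fin 3) K} (hd : (mat g).det = 1) (h7 : g ^ 7 = 1)
    (hi : (mat g⁻¹).trace = (mat g).trace) (hs : (mat (g * g)).trace = (mat g).trace) : g = 1 := by
  have h1 := Small.trace_sq hd
  rw [hs, hi] at h1
  have h2 : (mat g).trace * ((mat g).trace - 3) = 0 := by linear_combination -h1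
  have hc := Small.cayley hd
  rw [hi] at hc
  rcases mul_eq_zero.1 h2 with e | e
  · rw [e, zero_smul, zero_smul, sub_zero, zero_add] at hc
    have h3 : g ^ 3 = 1 := by
      refine Units.ext ?_
      rw [Units.val_pow_eq_pow_val, Units.val_one, pow_succ', pow_two]
      exact hc
    calc g = g ^ 7 * (g ^ 3)⁻¹ * (g ^ 3)⁻¹ := by group
      _ = 1 := by rw [h7, h3]; group
  · rw [sub_eq_zero.1 e] at hc
    have hN : (mat g - 1) * ((mat g - 1) * (mat g - 1)) = 0 := by
      simp only [mul_sub, sub_mul, mul_one, one_mul]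
      linear_combination (norm := module) hc
    have h3p : 3 ≤ p := by have := (Fact.out : p.Prime).two_le; omega
    have h5 : (mat g - 1) ^ p = 0 := by
      rw [show p = 3 + (p - 3) by omega, pow_add, show (mat g - 1) ^ 3 = 0 by rw [pow_succ', pow_two]; exact hN,
        zero_mul]
    rw [sub_pow_char_of_commute p (Commute.one_right _), one_pow, sub_eq_zero] at h5
    have h5' : g ^ p = 1 := Units.ext (by rw [Units.val_pow_eq_pow_val, Units.val_one]; exact h5)
    have h17 : orderOf g ∣ Nat.gcd p 7 := Nat.dvd_gcd (orderOf_dvd_of_pow_eq_one h5') (orderOf_dvd_of_pow_eq_one h7)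
    rw [(Nat.coprime_primes (Fact.out : p.Prime) (by norm_num : Nat.Prime 7)).2 hp7, Nat.dvd_one,
      orderOf_eq_one_iff] at h17
    exact h17

theorem step_2520 (hp : p ≠ 2) (D : Data p α X P) (hp5 : p = 5) (hK : Nat.card K = 25)
    (hiso : Nonempty (PQ P ≃* alternatingGroup (Fin 7))) : Out p α (PQ X) := by
  classical
  subst hp5
  obtain ⟨b, hb, hbα⟩ := exists_exponent D
  rw [← Nat.card_eq_fintype_card, hK] at hb
  have hb2 : b = 2 := (Nat.pow_right_injective (le_refl 2 |>.trans (by norm_num : 2 ≤ 5)) hb).symm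
  have hα : Even α := by
    obtain ⟨t, rfl⟩ := hbα
    rw [hb2]; exact even_two_mul t
  let π : X →* PQ X := QuotientGroup.mk' _
  let ν : P →* PQ X := π.comp (Subgroup.inclusion D.le)
  have hνk : ν.ker = (scalars (Fin 3) K).subgroupOf P := by
    ext x
    rw [MonoidHom.mem_ker]
    exact QuotientGroup.eq_one_iff (Subgroup.inclusion D.le x)
  obtain ⟨eS⟩ := pq_equiv ν hνk
  obtain ⟨f₀⟩ := hiso
  let f : ν.range ≃* alternatingGroup (Fin 7) := eS.symm.trans f₀
  haveI hSn : ν.range.Normal := by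
    refine ⟨?_⟩
    rintro _ ⟨x, rfl⟩ g
    obtain ⟨g, rfl⟩ := QuotientGroup.mk'_surjective _ g
    exact ⟨⟨g.1 * x.1 * g.1⁻¹, D.norm _ g.2 _ x.2⟩,
      (show π (g * Subgroup.inclusion D.le x * g⁻¹) = π g * ν x * (π g)⁻¹ by rw [map_mul, map_mul, map_inv]; rfl)⟩
  let eA : Equiv.Perm (Fin 7) ≃* MulAut (alternatingGroup (Fin 7)) :=
    MulEquiv.ofBijective _ (S2119.result 7 (by norm_num) (by norm_num))
  let β : PQ X →* Equiv.Perm (Fin 7) := eA.symm.toMonoidHom.comp
    ((MulAut.congr f).toMonoidHom.comp MulAut.conjNormal)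
  have hβS : ∀ s : ν.range, β (s : PQ X) = (f s : Equiv.Perm (Fin 7)) := fun s => by
    refine eA.injective ((eA.apply_symm_apply _).trans (MulEquiv.ext fun y => Subtype.ext ?_))
    show ((f ((MulAut.conjNormal (s : PQ X)) (f.symm y))) : Equiv.Perm (Fin 7)) = _
    rw [show (MulAut.conjNormal (s : PQ X)) (f.symm y) = s * f.symm y * s⁻¹ from
      Subtype.ext (by rw [MulAut.conjNormal_apply]; rfl), map_mul, map_mul, map_inv, f.apply_symm_apply]
    show _ = ((MulAut.conjNormal (f s : Equiv.Perm (Fin 7))) y : Equiv.Perm (Fin 7))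
    rw [MulAut.conjNormal_apply]; rfl
  have hscal : ∀ g ∈ P, g ∈ scalars (Fin 3) K → g ^ 3 = 1 := fun g hg hs => D.core.scalar_pow_three hg hs
  have hinj : Function.Injective β := by
    refine (injective_iff_map_eq_one _).2 fun q hq => ?_
    obtain ⟨g, rfl⟩ := QuotientGroup.mk'_surjective _ q
    have h1 : (MulAut.conjNormal (π g) : MulAut ν.range) = 1 :=
      (MulAut.congr f).injective ((eA.symm.injective (hq.trans (map_one eA.symm).symm)).trans (map_one (MulAut.congr f)).symm)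
    refine (QuotientGroup.eq_one_iff g).2 (D.core.mem_scalars_of_comm
      (comm_of_perfect D.core.perfect fun x hx => ?_))
    have h2 := congrArg Subtype.val (MulEquiv.congr_fun h1 ⟨ν ⟨x, hx⟩, ⟨_, rfl⟩⟩)
    rw [MulAut.conjNormal_apply] at h2
    have h3 : π (g * ⟨x, D.le hx⟩ * g⁻¹ * ⟨x, D.le hx⟩⁻¹) = 1 := by
      rw [map_mul, map_mul, map_mul, map_inv, map_inv, mul_inv_eq_one]
      exact h2
    obtain ⟨e, he⟩ : ∃ e : X, e = g * ⟨x, D.le hx⟩ * g⁻¹ * (⟨x, D.le hx⟩ : X)⁻¹ := ⟨_, rfl⟩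
    rw [← he] at h3
    have h4 := Subgroup.mem_subgroupOf.1 ((QuotientGroup.eq_one_iff e).1 h3)
    rw [he] at h4
    exact h4
  refine Or.inr (Or.inr (Or.inr (Or.inr (Or.inr (Or.inr (Or.inr (Or.inl ⟨rfl, hα, ?_⟩)))))))
  by_cases hodd : ∀ q, Equiv.Perm.sign (β q) = 1
  · refine Or.inr (Or.inl ⟨MulEquiv.ofBijective (β.codRestrict (alternatingGroup (Fin 7))
      fun q => Equiv.Perm.mem_alternatingGroup.2 (hodd q)) ⟨fun a b e => hinj (congrArg Subtype.val e :), fun y => ?_⟩⟩)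
    exact ⟨(f.symm y : PQ X), Subtype.ext (by
      show β (f.symm y : PQ X) = y.1
      rw [hβS, f.apply_symm_apply])⟩
  exfalso
  push Not at hodd
  obtain ⟨q, hq⟩ := hodd
  have hqm : Equiv.Perm.sign (β q) = -1 := (Int.units_eq_one_or _).resolve_left hq
  obtain ⟨c, hcA, hc7, hc1, ⟨w, hwA, hw⟩, t, ht, htc⟩ := seven_cycle
  have hall : ∀ s ∈ alternatingGroup (Fin 7), ∃ r : PQ X, β r = s := fun s hs =>
    ⟨(f.symm ⟨s, hs⟩ : PQ X), by rw [hβS, f.apply_symm_apply]⟩
  obtain ⟨r, hr⟩ := hall (t * (β q)⁻¹) (Equiv.Perm.mem_alternatingGroup.2 (by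
    rw [map_mul, map_inv, ht, hqm]; rfl))
  have hrq : β (r * q) = t := by rw [map_mul, hr, inv_mul_cancel_right]
  obtain ⟨w', hw'⟩ := hall w hwA
  obtain ⟨g0, hg0⟩ := (f.symm ⟨c, hcA⟩).2
  have hβg0 : β (ν g0) = c := by rw [hg0, hβS, f.apply_symm_apply]
  have hz0 : g0.1 ^ 7 ∈ scalars (Fin 3) K := by
    have h : g0 ^ 7 ∈ ν.ker := MonoidHom.mem_ker.2 (hinj (by rw [map_pow, map_pow, hβg0, hc7, map_one]))
    rw [hνk] at h
    exact h
  set g := g0.1 ^ 15 with hg
  have hgP : g ∈ P := pow_mem g0.2 15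
  have hg7 : g ^ 7 = 1 := by
    have h3 := hscal _ (pow_mem g0.2 7) hz0
    rw [hg, ← pow_mul, show 15 * 7 = 7 * 3 * 5 by norm_num, pow_mul, pow_mul, h3, one_pow]
  have hβg : β (ν ⟨g, hgP⟩) = c := by
    rw [show (⟨g, hgP⟩ : P) = g0 ^ 15 from rfl, map_pow, map_pow, hβg0,
      show (15 : ℕ) = 7 * 2 + 1 by norm_num, pow_succ, pow_mul, hc7, one_pow, one_mul]
  -- conjugations lift exactly
  have hlift : ∀ (y : PQ X) (n : ℤ), β y * c * (β y)⁻¹ = c ^ n →
      ∃ x : GL (Fin 3) K, x * g * x⁻¹ = g ^ n := by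
    intro y n hy
    obtain ⟨x, rfl⟩ := QuotientGroup.mk'_surjective _ y
    refine ⟨x.1, ?_⟩
    let gX : X := ⟨g, D.le hgP⟩
    have h1 : π (x * gX * x⁻¹ * (gX ^ n)⁻¹) = 1 := hinj (by
      rw [map_mul, map_mul, map_mul, map_inv, map_inv, map_zpow, map_mul, map_mul, map_mul, map_inv, map_inv,
        map_zpow, map_one, show π gX = ν ⟨g, hgP⟩ from rfl, hβg, mul_inv_eq_one]
      exact hy)
    have hs : x.1 * g * x.1⁻¹ * (g ^ n)⁻¹ ∈ scalars (Fin 3) K := by
      have := (QuotientGroup.eq_one_iff _).1 h1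
      simpa [Subgroup.mem_subgroupOf, gX] using this
    have hmem : x.1 * g * x.1⁻¹ * (g ^ n)⁻¹ ∈ P := mul_mem (D.norm _ x.2 _ hgP) (inv_mem (zpow_mem hgP n))
    have h3 := hscal _ hmem hs
    set z := x.1 * g * x.1⁻¹ * (g ^ n)⁻¹ with hz
    have h7 : z ^ 7 = 1 := by
      have hcm : Commute z (g ^ n) := scalar_commute hs _
      have e1 : z * g ^ n = x.1 * g * x.1⁻¹ := by rw [hz, inv_mul_cancel_right]
      have e2 := congrArg (· ^ 7) e1
      rw [hcm.mul_pow, conj_pow, hg7, ← zpow_natCast (g ^ n) 7, ← _root_.zpow_mul, mul_comm n, _root_.zpow_mul,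
        zpow_natCast, hg7, _root_.one_zpow, mul_one] at e2
      rw [e2]; group
    have hz1 : z = 1 := by
      calc z = z ^ 7 * (z ^ 3)⁻¹ * (z ^ 3)⁻¹ := by group
        _ = 1 := by rw [h7, h3]; group
    exact mul_inv_eq_one.1 hz1
  have htr : ∀ (x y : GL (Fin 3) K), (mat (x * y * x⁻¹)).trace = (mat y).trace := fun x y => by
    rw [mat_mul, mat_mul, Matrix.trace_mul_cycle, ← mat_mul, inv_mul_cancel, mat, Units.val_one, one_mul]
  obtain ⟨x, hx⟩ := hlift (r * q) (-1) (by rw [hrq, htc, _root_.zpow_neg_one])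
  obtain ⟨v, hv⟩ := hlift w' 2 (by rw [hw', hw, _root_.zpow_two])
  have hi : (mat g⁻¹).trace = (mat g).trace := by
    rw [← _root_.zpow_neg_one, ← hx, htr]
  have hs : (mat (g * g)).trace = (mat g).trace := by
    rw [← _root_.zpow_two, ← hv, htr]
  have hg1 := eq_one_of_seven (p := 5) hp (by norm_num) (D.core.det_eq_one hgP) hg7 hi hs
  refine hc1 ?_
  rw [← hβg, show (⟨g, hgP⟩ : P) = 1 from Subtype.ext hg1, map_one, map_one]

end Cfsg.Agent.ResidualThree.Psl
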