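import Cfsg.Agent.ResidualThree.Psl.Assembly
import Cfsg.Agent.ResidualThree.Psl.Descend
import Cfsg.Agent.ResidualThree.Small.Classify
import Cfsg.Agent.ResidualThree.Psl.Arith360

/-!
A core with quotient the alternating group of degree six.
-/

set_option autoImplicit false
set_option maxHeartbeats 800000

namespace Cfsg.Agent.ResidualThree.Psl

open Matrix Cfsg Cfsg.Geo Cfsg.Agent.PrimeDim
open scoped MatrixGroups

universe u

local notation "A6" => alternatingGroup (Fin 6)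

/-- What is needed about the automorphisms of the alternating group of degree six. -/
def SixCosets : Prop :=
  ∃ M : Subgroup (MulAut A6), (MulAut.conj : A6 →* _).range ≤ M ∧ (MulAut.conj : A6 →* _).range.relIndex M ≤ 2 ∧
    (∀ γ ∈ M, γ ∉ (MulAut.conj : A6 →* _).range → ∃ c r : A6, c ≠ 1 ∧ c ^ 5 = 1 ∧ r * γ c * r⁻¹ = c ^ 2) ∧
    (∀ γ : MulAut A6, γ ∉ M → ∃ (a b r : A6) (i j k l : ℕ), a ^ 3 = 1 ∧ b ^ 3 = 1 ∧ a ≠ 1 ∧ a * b = b * a ∧
      (∀ h : A6, h * a = a * h → ∃ m n : ℕ, h = a ^ m * b ^ n) ∧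
      r * γ a * r⁻¹ = a ^ i * b ^ j ∧ r * γ b * r⁻¹ = a ^ k * b ^ l ∧ (i * l + 2 * (j * k)) % 3 = 2)

section Comm

variable {G : Type*} [Group G]

theorem pow_swap {A B w : G} (hA : Commute w A) (hB : Commute w B) (h : A * B = w * (B * A)) :
    ∀ n m : ℕ, A ^ m * B ^ n = w ^ (m * n) * (B ^ n * A ^ m) := by
  have step : ∀ n, A * B ^ n = w ^ n * (B ^ n * A) := by
    intro n
    induction n with
    | zero => simp
    | succ n ih =>
      calc A * B ^ (n + 1) = A * B ^ n * B := by rw [pow_succ, mul_assoc]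
        _ = w ^ n * (B ^ n * (A * B)) := by rw [ih]; simp only [mul_assoc]
        _ = w ^ n * (B ^ n * w) * (B * A) := by rw [h]; simp only [mul_assoc]
        _ = w ^ n * (w * B ^ n) * (B * A) := by rw [(hB.pow_right n).eq]
        _ = _ := by rw [pow_succ w, pow_succ B]; simp only [mul_assoc]
  intro n m
  induction m with
  | zero => simp
  | succ m ih =>
    calc A ^ (m + 1) * B ^ n = A ^ m * (A * B ^ n) := by rw [pow_succ, mul_assoc]
      _ = (A ^ m * w ^ n) * (B ^ n * A) := by rw [step, mul_assoc]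
      _ = w ^ n * (A ^ m * B ^ n) * A := by rw [((hA.pow_pow n m).symm).eq]; simp only [mul_assoc]
      _ = w ^ n * (w ^ (m * n) * (B ^ n * A ^ m)) * A := by rw [ih]
      _ = _ := by
        rw [show (m + 1) * n = n + m * n by ring, pow_add, pow_succ A]
        simp only [mul_assoc]

/-- The twist is multiplied by the determinant. -/
theorem twist_det {A B w X Y : G} (hA : Commute w A) (hB : Commute w B) (h : A * B = w * (B * A)) (hw : w ^ 3 = 1)
    {i j k l : ℕ} (hX : X = A ^ i * B ^ j) (hY : Y = A ^ k * B ^ l) (hXY : X * Y = w * (Y * X))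
    (hd : (i * l + 2 * (j * k)) % 3 = 2) : w = 1 := by
  have hsw : ∀ m n : ℕ, B ^ n * A ^ m = w ^ (2 * (m * n)) * (A ^ m * B ^ n) := fun m n => by
    rw [pow_swap hA hB h n m, ← mul_assoc, ← pow_add, show 2 * (m * n) + m * n = 3 * (m * n) by ring, pow_mul, hw,
      one_pow, one_mul]
  have prod : ∀ i j k l : ℕ, A ^ i * B ^ j * (A ^ k * B ^ l) = w ^ (2 * (k * j)) * (A ^ (i + k) * B ^ (j + l)) := by
    intro i j k l
    calc A ^ i * B ^ j * (A ^ k * B ^ l) = A ^ i * (B ^ j * A ^ k) * B ^ l := by simp only [mul_assoc]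
      _ = A ^ i * w ^ (2 * (k * j)) * (A ^ k * B ^ j) * B ^ l := by rw [hsw]; simp only [mul_assoc]
      _ = w ^ (2 * (k * j)) * A ^ i * (A ^ k * B ^ j) * B ^ l := by rw [((hA.pow_pow _ i).symm).eq]
      _ = _ := by rw [pow_add, pow_add]; simp only [mul_assoc]
  rw [hX, hY, prod, prod, add_comm k i, add_comm l j] at hXY
  rw [← mul_assoc w, ← pow_succ', mul_left_inj] at hXY
  by_contra hne
  haveI : Fact (Nat.Prime 3) := ⟨Nat.prime_three⟩
  have hmod := pow_eq_pow_iff_modEq.1 hXY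
  rw [orderOf_eq_prime hw hne, Nat.ModEq] at hmod
  rw [mul_comm k j, mul_comm i l] at *
  omega

end Comm

variable {K : Type u} [Field K] [Fintype K] {p α : ℕ} [Fact p.Prime] [CharP K p]
  {X P : Subgroup (GL (Fin 3) K)}

theorem eq_one_of_five (hp : p ≠ 2) (hp5 : p ≠ 5) {g : GL (Fin 3) K} (hd : (mat g).det = 1) (h5 : g ^ 5 = 1)
    (hi : (mat g⁻¹).trace = (mat g).trace) (hs : (mat (g * g)).trace = (mat g).trace) : g = 1 := by
  have h1 := Small.trace_sq hd
  rw [hs, hi] at h1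
  have h2 : (mat g).trace * ((mat g).trace - 3) = 0 := by linear_combination -h1
  have hc := Small.cayley hd
  rw [hi] at hc
  rcases mul_eq_zero.1 h2 with e | e
  · rw [e, zero_smul, zero_smul, sub_zero, zero_add] at hc
    have h3 : g ^ 3 = 1 := Units.ext (by
      rw [Units.val_pow_eq_pow_val, Units.val_one, pow_succ', pow_two]; exact hc)
    calc g = (g ^ 3) ^ 2 * (g ^ 5)⁻¹ := by group
      _ = 1 := by rw [h5, h3]; group
  · rw [sub_eq_zero.1 e] at hc
    have hN : (mat g - 1) * ((mat g - 1) * (mat g - 1)) = 0 := by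
      simp only [mul_sub, sub_mul, mul_one, one_mul]
      linear_combination (norm := module) hc
    have h3p : 3 ≤ p := by have := (Fact.out : p.Prime).two_le; omega
    have h0 : (mat g - 1) ^ p = 0 := by
      rw [show p = 3 + (p - 3) by omega, pow_add, show (mat g - 1) ^ 3 = 0 by rw [pow_succ', pow_two]; exact hN,
        zero_mul]
    rw [sub_pow_char_of_commute p (Commute.one_right _), one_pow, sub_eq_zero] at h0
    have h0' : g ^ p = 1 := Units.ext (by rw [Units.val_pow_eq_pow_val, Units.val_one]; exact h0)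
    have hd' : orderOf g ∣ Nat.gcd p 5 := Nat.dvd_gcd (orderOf_dvd_of_pow_eq_one h0') (orderOf_dvd_of_pow_eq_one h5)
    rw [(Nat.coprime_primes (Fact.out : p.Prime) (by norm_num : Nat.Prime 5)).2 hp5, Nat.dvd_one,
      orderOf_eq_one_iff] at hd'
    exact hd'

theorem step_360_of (hsix : SixCosets) (hp : p ≠ 2) (D : Data p α X P) (h360 : Nat.card (PQ P) = 360)
    (hc : (Nat.card K = p ∧ (p % 15 = 1 ∨ p % 15 = 4)) ∨
       (Nat.card K = p ^ 2 ∧ p ≠ 3 ∧
        (((p % 5 = 2 ∨ p % 5 = 3) ∧ ∃ g ∈ P, (mat g⁻¹).trace ≠ (mat g).trace ^ p) ∨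
         ((p % 15 = 11 ∨ p % 15 = 14 ∨ p = 5) ∧ ∀ g ∈ P, (mat g⁻¹).trace = (mat g).trace ^ p)))) :
    Out p α (PQ X) := by
  classical
  haveI := Small.finite_sub P
  haveI : IsSimpleGroup (PQ P) := D.core.simple
  obtain ⟨f₀⟩ := S0497.result (G := PQ P) h360
  let π : X →* PQ X := QuotientGroup.mk' _
  let ν : P →* PQ X := π.comp (Subgroup.inclusion D.le)
  have hνk : ν.ker = (scalars (Fin 3) K).subgroupOf P := by
    ext x
    rw [MonoidHom.mem_ker]
    exact QuotientGroup.eq_one_iff (Subgroup.inclusion D.le x)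
  rcases Small.center_card D.core with hZ | hZ
  · -- trivial centre: an orthogonal form
    obtain ⟨G, hG, hGs, hGf⟩ := Small.orth_of_real D.core fun g hg => by
      obtain ⟨a, ha⟩ := Small.alt_six_real (f₀ (QuotientGroup.mk ⟨g, hg⟩))
      obtain ⟨h, hh⟩ := QuotientGroup.mk'_surjective _ (f₀.symm a)
      refine Small.coe_real (g := ⟨g, hg⟩) (isConj_iff.2 ⟨h, ?_⟩)
      have h1 : QuotientGroup.mk' ((scalars (Fin 3) K).subgroupOf P) (h * ⟨g, hg⟩ * h⁻¹ * ⟨g, hg⟩) = 1 := by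
        apply f₀.injective
        rw [map_mul, map_mul, map_mul, map_inv, map_mul, map_mul, map_mul, map_inv, hh, f₀.apply_symm_apply, map_one,
          QuotientGroup.mk'_apply, ha, inv_mul_cancel]
      rw [QuotientGroup.mk'_apply, QuotientGroup.eq_one_iff, Subgroup.card_eq_one.1 hZ, Subgroup.mem_bot] at h1
      exact eq_inv_of_mul_eq_one_left h1
    exact out_orth hp D hG hGs hGf
  obtain ⟨eS⟩ := pq_equiv ν hνk
  let f : ν.range ≃* A6 := eS.symm.trans f₀
  haveI hSn : ν.range.Normal := by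
    refine ⟨?_⟩
    rintro _ ⟨x, rfl⟩ g
    obtain ⟨g, rfl⟩ := QuotientGroup.mk'_surjective _ g
    exact ⟨⟨g.1 * x.1 * g.1⁻¹, D.norm _ g.2 _ x.2⟩,
      (show π (g * Subgroup.inclusion D.le x * g⁻¹) = π g * ν x * (π g)⁻¹ by rw [map_mul, map_mul, map_inv]; rfl)⟩
  let β : PQ X →* MulAut A6 := (MulAut.congr f).toMonoidHom.comp MulAut.conjNormal
  have hβS : ∀ s : ν.range, β (s : PQ X) = MulAut.conj (f s) := fun s => by
    refine MulEquiv.ext fun y => ?_
    show f ((MulAut.conjNormal (s : PQ X)) (f.symm y)) = f s * y * (f s)⁻¹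
    rw [show (MulAut.conjNormal (s : PQ X)) (f.symm y) = s * f.symm y * s⁻¹ from
      Subtype.ext (by rw [MulAut.conjNormal_apply]; rfl), map_mul, map_mul, map_inv, f.apply_symm_apply]
  have hinj : Function.Injective β := by
    refine (injective_iff_map_eq_one _).2 fun q hq => ?_
    obtain ⟨g, rfl⟩ := QuotientGroup.mk'_surjective _ q
    have h1 : (MulAut.conjNormal (π g) : MulAut ν.range) = 1 :=
      (MulAut.congr f).injective (hq.trans (map_one (MulAut.congr f)).symm)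
    refine (QuotientGroup.eq_one_iff g).2 (D.core.mem_scalars_of_comm
      (comm_of_perfect D.core.perfect fun x hx => ?_))
    have h2 := congrArg Subtype.val (MulEquiv.congr_fun h1 ⟨ν ⟨x, hx⟩, ⟨_, rfl⟩⟩)
    rw [MulAut.conjNormal_apply] at h2
    have h3 : π (g * ⟨x, D.le hx⟩ * g⁻¹ * ⟨x, D.le hx⟩⁻¹) = 1 := by
      rw [map_mul, map_mul, map_mul, map_inv, map_inv, mul_inv_eq_one]
      exact h2
    obtain ⟨e, he⟩ : ∃ e : X, e = g * ⟨x, D.le hx⟩ * g⁻¹ * (⟨x, D.le hx⟩ : X)⁻¹ := ⟨_, rfl⟩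
    rw [← he] at h3
    have h4 := Subgroup.mem_subgroupOf.1 ((QuotientGroup.eq_one_iff e).1 h3)
    rw [he] at h4
    exact h4
  -- lifting
  let φ : P →* A6 := f.toMonoidHom.comp ν.rangeRestrict
  have hφs : Function.Surjective φ := f.surjective.comp ν.rangeRestrict_surjective
  have hφk : ∀ u v : P, φ u = φ v → (u : GL (Fin 3) K) * (v : GL (Fin 3) K)⁻¹ ∈ scalars (Fin 3) K := fun u v e => by
    have h : u * v⁻¹ ∈ ν.ker := MonoidHom.mem_ker.2 (by
      rw [map_mul, map_inv, mul_inv_eq_one]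
      exact congrArg Subtype.val (f.injective e))
    rw [hνk] at h
    exact h
  have hlift : ∀ (q : PQ X) (r : A6), ∃ x ∈ X, ∀ u : P, ∃ v : P, (v : GL (Fin 3) K) = x * u * x⁻¹ ∧
      φ v = r * β q (φ u) * r⁻¹ := by
    intro q r
    obtain ⟨x, hx⟩ := QuotientGroup.mk'_surjective _ ((f.symm r : ν.range) * q : PQ X)
    refine ⟨x.1, x.2, fun u => ⟨⟨_, D.norm _ x.2 _ u.2⟩, rfl, ?_⟩⟩
    have hν : ν ⟨x.1 * u.1 * x.1⁻¹, D.norm _ x.2 _ u.2⟩ = π x * ν u * (π x)⁻¹ := by
      show π (x * Subgroup.inclusion D.le u * x⁻¹) = _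
      rw [map_mul, map_mul, map_inv]; rfl
    have hb : β (π x) = MulAut.conj r * β q := by
      rw [show π x = (f.symm r : ν.range) * q from hx, map_mul, hβS, f.apply_symm_apply]
    have h5 : β (π x) (φ u) = f ⟨π x * ν u * (π x)⁻¹, hSn.conj_mem _ ⟨u, rfl⟩ _⟩ := by
      show f (MulAut.conjNormal (π x) (f.symm (f (ν.rangeRestrict u)))) = _
      rw [f.symm_apply_apply]
      exact congrArg f (Subtype.ext (MulAut.conjNormal_apply _ _))
    rw [hb, MulAut.mul_apply, MulAut.conj_apply] at h5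
    rw [h5]
    exact congrArg f (Subtype.ext hν)
  obtain ⟨M, hIM, hrel, hswap, htwist⟩ := hsix
  have hM : ∀ q, β q ∈ M := by
    intro q
    by_contra hq
    obtain ⟨a, b, r, i, j, k, l, ha, hb, ha1, hab, hcen, hra, hrb, hd⟩ := htwist _ hq
    obtain ⟨A, hA⟩ := hφs a
    obtain ⟨B, hB⟩ := hφs b
    obtain ⟨x, hx, hxu⟩ := hlift q r
    obtain ⟨A', eA', hA'⟩ := hxu A
    obtain ⟨B', eB', hB'⟩ := hxu B
    rw [hA, hra] at hA'
    rw [hB, hrb] at hB'
    have hs1 := hφk A' (A ^ i * B ^ j) (by rw [hA', map_mul, map_pow, map_pow, hA, hB])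
    have hs2 := hφk B' (A ^ k * B ^ l) (by rw [hB', map_mul, map_pow, map_pow, hA, hB])
    have hw := hφk (A * B) (B * A) (by rw [map_mul, map_mul, hA, hB, hab])
    simp only [Subgroup.coe_mul, Subgroup.coe_pow, eA'] at hs1
    simp only [Subgroup.coe_mul, Subgroup.coe_pow, eB'] at hs2
    simp only [Subgroup.coe_mul] at hw
    set w := (A : GL (Fin 3) K) * B * ((B : GL (Fin 3) K) * A)⁻¹ with hwdef
    have hw3 : w ^ 3 = 1 :=
      D.core.scalar_pow_three (mul_mem (mul_mem A.2 B.2) (inv_mem (mul_mem B.2 A.2))) hw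
    have hAB : (A : GL (Fin 3) K) * B = w * ((B : GL (Fin 3) K) * A) := by rw [hwdef, inv_mul_cancel_right]
    set X₁ := (A : GL (Fin 3) K) ^ i * (B : GL (Fin 3) K) ^ j
    set Y₁ := (A : GL (Fin 3) K) ^ k * (B : GL (Fin 3) K) ^ l
    set s1 := x * (A : GL (Fin 3) K) * x⁻¹ * X₁⁻¹ with hs1d
    set s2 := x * (B : GL (Fin 3) K) * x⁻¹ * Y₁⁻¹ with hs2d
    have e1 : x * (A : GL (Fin 3) K) * x⁻¹ = s1 * X₁ := by rw [hs1d, inv_mul_cancel_right]
    have e2 : x * (B : GL (Fin 3) K) * x⁻¹ = s2 * Y₁ := by rw [hs2d, inv_mul_cancel_right]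
    have h6 : s1 * X₁ * (s2 * Y₁) = w * (s2 * Y₁ * (s1 * X₁)) := by
      rw [← e1, ← e2]
      calc x * (A : GL (Fin 3) K) * x⁻¹ * (x * (B : GL (Fin 3) K) * x⁻¹) = x * ((A : GL (Fin 3) K) * B) * x⁻¹ := by group
        _ = (x * w) * ((B : GL (Fin 3) K) * A) * x⁻¹ := by rw [hAB]; group
        _ = (w * x) * ((B : GL (Fin 3) K) * A) * x⁻¹ := by rw [scalar_commute hw x]
        _ = _ := by group
    have h7 : s1 * s2 * (X₁ * Y₁) = s1 * s2 * (w * (Y₁ * X₁)) := by
      have c1 : ∀ t, s1 * t = t * s1 := scalar_commute hs1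
      have c2 : ∀ t, s2 * t = t * s2 := scalar_commute hs2
      calc s1 * s2 * (X₁ * Y₁) = s1 * (s2 * X₁) * Y₁ := by group
        _ = s1 * X₁ * (s2 * Y₁) := by rw [c2]; group
        _ = w * (s2 * Y₁ * (s1 * X₁)) := h6
        _ = w * (s2 * (Y₁ * s1) * X₁) := by group
        _ = w * (s2 * s1) * (Y₁ * X₁) := by rw [← c1]; group
        _ = (s2 * s1) * w * (Y₁ * X₁) := by rw [scalar_commute hw]
        _ = _ := by rw [← c1 s2]; group
    have hw1 : w = 1 := twist_det (scalar_commute hw _) (scalar_commute hw _) hAB hw3 rfl rfl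
      (mul_left_cancel h7) hd
    have hABc : Commute A B := Subtype.ext (by rw [hw1, one_mul] at hAB; exact hAB)
    obtain ⟨h, z, hz, hz1, he⟩ := Small.conj_central D.core h360 hZ (g := A)
      (by
        have := hφk (A ^ 3) 1 (by rw [map_pow, hA, ha, map_one])
        simpa [Subgroup.mem_subgroupOf] using this)
      (fun hmem => ha1 (by
        rw [← hA]
        show f (ν.rangeRestrict A) = 1
        rw [show ν.rangeRestrict A = 1 from Subtype.ext (MonoidHom.mem_ker.1 (hνk.symm ▸ hmem :)), map_one]))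
    have hφz : φ z = 1 := by
      show f (ν.rangeRestrict z) = 1
      rw [show ν.rangeRestrict z = 1 from Subtype.ext (MonoidHom.mem_ker.1 (hνk.symm ▸ hz :)), map_one]
    obtain ⟨m, n, hmn⟩ := hcen (φ h) (by
      have := congrArg φ he
      rw [map_mul, map_mul, map_inv, map_mul, hφz, mul_one, hA] at this
      exact mul_inv_eq_iff_eq_mul.1 this)
    have hk := hφk h (A ^ m * B ^ n) (by rw [hmn, map_mul, map_pow, map_pow, hA, hB])
    set t := h * (A ^ m * B ^ n)⁻¹ with ht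
    have hct : Commute t A := Subtype.ext (scalar_commute hk _)
    have hch : Commute h A := by
      rw [show h = t * (A ^ m * B ^ n) by rw [ht, inv_mul_cancel_right]]
      exact hct.mul_left (((Commute.refl A).pow_left m).mul_left (hABc.symm.pow_left n))
    rw [hch.eq, mul_inv_cancel_right] at he
    exact hz1 (mul_eq_left.1 he.symm)
  -- index at most two
  set I := (MulAut.conj : A6 →* MulAut A6).range
  let L := I.comap β
  have hL : L = ν.range := by
    ext q
    constructor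
    · rintro ⟨y, hy⟩
      have : q = (f.symm y : PQ X) := hinj (by rw [hβS, f.apply_symm_apply]; exact hy.symm)
      rw [this]; exact (f.symm y).2
    · intro hq
      exact ⟨f ⟨q, hq⟩, (hβS ⟨q, hq⟩).symm⟩
  have hidx : L.index = 1 ∨ L.index = 2 := by
    have h1 : L.index ≠ 0 := Subgroup.index_ne_zero_of_finite
    have h2 : L.index ≤ 2 := by
      rw [Subgroup.index_comap]
      refine le_trans (Subgroup.relIndex_le_of_le_right ?_ ?_) hrel
      · rintro _ ⟨q, rfl⟩; exact hM q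
      · exact Subgroup.index_ne_zero_of_finite
    omega
  have hA6 : ν.range = ⊤ → Nonempty (PQ X ≃* A6) := fun e =>
    ⟨Subgroup.topEquiv.symm.trans ((MulEquiv.subgroupCongr e.symm).trans f)⟩
  rcases mod_thirty hp D hc with ⟨hp5, hev, -⟩ | ⟨hp5, hq⟩
  · refine Or.inr (Or.inr (Or.inr (Or.inr (Or.inr (Or.inr (Or.inr (Or.inl ⟨hp5, hev, ?_⟩)))))))
    rcases hidx with h | h
    · exact Or.inl (hA6 (hL ▸ Subgroup.index_eq_one.1 h))
    · exact Or.inr (Or.inr ⟨ν.range, hL ▸ h, ⟨f⟩⟩)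
  rcases hidx with h | h
  · exact Or.inr (Or.inr (Or.inr (Or.inr (Or.inr (Or.inr (Or.inr (Or.inr
      ⟨hq, hA6 (hL ▸ Subgroup.index_eq_one.1 h)⟩)))))))
  exfalso
  obtain ⟨q, hqL⟩ : ∃ q, q ∉ L := by
    by_contra hall
    push Not at hall
    rw [Subgroup.index_eq_one.2 (eq_top_iff.2 fun q _ => hall q)] at h
    norm_num at h
  obtain ⟨c, r, hc1, hc5, hrc⟩ := hswap _ (hM q) hqL
  obtain ⟨C, hC⟩ := hφs c
  set g : P := C ^ 6 with hg
  have hφg : φ g = c := by rw [hg, map_pow, hC, pow_succ, hc5, one_mul]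
  have hC5 : (C : GL (Fin 3) K) ^ 5 ∈ scalars (Fin 3) K := by
    have := hφk (C ^ 5) 1 (by rw [map_pow, hC, hc5, map_one])
    simpa using this
  have hg5 : (g : GL (Fin 3) K) ^ 5 = 1 := by
    rw [hg, Subgroup.coe_pow, ← pow_mul, show 6 * 5 = 5 * 3 * 2 by norm_num, pow_mul, pow_mul,
      D.core.scalar_pow_three (pow_mem C.2 5) hC5, one_pow]
  obtain ⟨x, hx, hxu⟩ := hlift q r
  obtain ⟨v, ev, hv⟩ := hxu g
  rw [hφg, hrc] at hv
  have hexact : x * (g : GL (Fin 3) K) * x⁻¹ = (g : GL (Fin 3) K) ^ 2 := by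
    have hs := hφk v (g ^ 2) (by rw [hv, map_pow, hφg])
    rw [Subgroup.coe_pow, ev] at hs
    set z := x * (g : GL (Fin 3) K) * x⁻¹ * ((g : GL (Fin 3) K) ^ 2)⁻¹ with hz
    have h3 : z ^ 3 = 1 := D.core.scalar_pow_three
      (mul_mem (D.norm _ hx _ g.2) (inv_mem (pow_mem g.2 2))) hs
    have hg25 : ((g : GL (Fin 3) K) ^ 2) ^ 5 = 1 := by rw [← pow_mul, mul_comm, pow_mul, hg5, one_pow]
    have h5 : z ^ 5 = 1 := by
      have e1 : z * (g : GL (Fin 3) K) ^ 2 = x * (g : GL (Fin 3) K) * x⁻¹ := by rw [hz, inv_mul_cancel_right]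
      have e2 := congrArg (· ^ 5) e1
      rw [(show Commute z _ from scalar_commute hs _).mul_pow, conj_pow, hg5, hg25, mul_one] at e2
      rw [e2]; group
    have : z = 1 := by
      calc z = (z ^ 3) ^ 2 * (z ^ 5)⁻¹ := by group
        _ = 1 := by rw [h3, h5]; group
    exact mul_inv_eq_one.1 this
  have htr : ∀ y : GL (Fin 3) K, (mat (x * y * x⁻¹)).trace = (mat y).trace := fun y => by
    rw [mat_mul, mat_mul, Matrix.trace_mul_cycle, ← mat_mul, inv_mul_cancel, mat, Units.val_one, one_mul]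
  have hs : (mat ((g : GL (Fin 3) K) * (g : GL (Fin 3) K))).trace = (mat (g : GL (Fin 3) K)).trace := by
    rw [← pow_two, ← hexact, htr]
  have hi : (mat (g : GL (Fin 3) K)⁻¹).trace = (mat (g : GL (Fin 3) K)).trace := by
    have e4 : x * ((g : GL (Fin 3) K) ^ 2) * x⁻¹ = (g : GL (Fin 3) K)⁻¹ := by
      rw [← conj_pow, hexact, ← pow_mul]
      exact eq_inv_of_mul_eq_one_left (by rw [← pow_succ]; exact hg5)
    rw [← e4, htr, pow_two, hs]
  have hg1 := eq_one_of_five hp hp5 (D.core.det_eq_one g.2) hg5 hi hs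
  refine hc1 ?_
  rw [← hφg, show g = 1 from Subtype.ext hg1, map_one]

end Cfsg.Agent.ResidualThree.Psl
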