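import Cfsg.Agent.ResidualThree.Psl.Assembly
import Cfsg.Agent.ResidualThree.Small.Classify
import Cfsg.Agent.Invol.Count
import Cfsg.Agent.S0495
import Mathlib.FieldTheory.IsAlgClosed.AlgebraicClosure
import Mathlib.LinearAlgebra.Eigenspace.Triangularizable

/-!
The case where the core has order 168.
-/

set_option autoImplicit false

namespace Cfsg.Agent.ResidualThree.Psl

open Matrix Cfsg Cfsg.Geo Cfsg.Agent.PrimeDim
open scoped MatrixGroups

universe u

/-- What commutes with a Frobenius group of order 21 in dimension three is scalar. -/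
theorem scalar_of_comm_frobenius {K : Type u} [Field K] {g h y : GL (Fin 3) K} (hd : (mat g).det = 1)
    (hne : (mat g⁻¹).trace ≠ (mat g).trace) (hconj : h * g * h⁻¹ = g * g) (hyg : y * g = g * y)
    (hyh : y * h = h * y) : y ∈ scalars (Fin 3) K := by
  classical
  let L := AlgebraicClosure K
  let φ : K →+* L := algebraMap K L
  let ι : Matrix (Fin 3) (Fin 3) K →+* Matrix (Fin 3) (Fin 3) L := φ.mapMatrix
  have hsm : ∀ (c : K) (A : Matrix (Fin 3) (Fin 3) K), ι (c • A) = φ c • ι A := fun c A => by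
    ext i j; simp [ι]
  have hhg : mat h * mat g = mat g * mat g * mat h := by
    rw [← mat_mul, ← mat_mul, ← mat_mul, mul_inv_eq_iff_eq_mul.1 hconj]
  have hyg' : mat y * mat g = mat g * mat y := by rw [← mat_mul, ← mat_mul, hyg]
  have hyh' : mat y * mat h = mat h * mat y := by rw [← mat_mul, ← mat_mul, hyh]
  obtain ⟨μ, hμ⟩ := Module.End.exists_eigenvalue (Matrix.toLin' (ι (mat y)))
  obtain ⟨v, hv⟩ := hμ.exists_hasEigenvector
  set Y : Matrix (Fin 3) (Fin 3) L := ι (mat y) - μ • 1 with hY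
  have hYc : ∀ A : Matrix (Fin 3) (Fin 3) K, mat y * A = A * mat y → Y * ι A = ι A * Y := fun A hA => by
    rw [hY, sub_mul, mul_sub, ← map_mul, ← map_mul, hA, Matrix.smul_mul, Matrix.mul_smul, one_mul, mul_one]
  by_cases hY0 : Y = 0
  · have he : ι (mat y) = μ • (1 : Matrix (Fin 3) (Fin 3) L) := sub_eq_zero.1 hY0
    have hm : mat y = mat y 0 0 • (1 : Matrix (Fin 3) (Fin 3) K) := by
      have h00 : φ (mat y 0 0) = μ := by simpa [ι] using congrFun (congrFun he 0) 0
      ext i j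
      apply φ.injective
      have hij : φ (mat y i j) = (μ • (1 : Matrix (Fin 3) (Fin 3) L)) i j := by
        rw [← he]; simp [ι]
      rw [hij]
      by_cases hij' : i = j
      · subst hij'; simp [h00]
      · simp [hij']
    have h0 : mat y 0 0 ≠ 0 := fun e => by
      rw [e, zero_smul] at hm
      have h1 := mat_inv_mul y
      rw [hm, mul_zero] at h1
      exact zero_ne_one h1
    exact (mem_scalars_iff _).2 ⟨Units.mk0 _ h0, hm⟩
  exfalso
  have hker : 0 < Module.finrank L (LinearMap.ker Y.toLin') := by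
    have : v ∈ LinearMap.ker Y.toLin' := by
      rw [LinearMap.mem_ker, hY, map_sub, LinearMap.sub_apply, hv.apply_eq_smul, map_smul, Matrix.toLin'_one,
        LinearMap.smul_apply, LinearMap.id_apply, sub_self]
    exact Module.finrank_pos_iff_exists_ne_zero.2 ⟨⟨v, this⟩, fun e => hv.2 (congrArg Subtype.val e)⟩
  have hran : 0 < Module.finrank L (LinearMap.range Y.toLin') := by
    by_contra h0
    apply hY0
    have h1 : LinearMap.range Y.toLin' = ⊥ := Submodule.finrank_eq_zero.1 (by omega)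
    rw [LinearMap.range_eq_bot] at h1
    exact Matrix.toLin'.injective (by rw [h1, map_zero])
  have hsum := LinearMap.finrank_range_add_finrank_ker Y.toLin'
  rw [Module.finrank_fin_fun] at hsum
  obtain ⟨W, hW, hinv⟩ : ∃ W : Submodule L (Fin 3 → L), Module.finrank L W = 1 ∧
      ∀ A, mat y * A = A * mat y → ∀ w ∈ W, ι A *ᵥ w ∈ W := by
    by_cases h1 : Module.finrank L (LinearMap.ker Y.toLin') = 1
    · refine ⟨_, h1, fun A hA w hw => ?_⟩
      rw [LinearMap.mem_ker, Matrix.toLin'_apply] at hw ⊢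
      rw [Matrix.mulVec_mulVec, hYc A hA, ← Matrix.mulVec_mulVec, hw, Matrix.mulVec_zero]
    · refine ⟨_, (by omega : Module.finrank L (LinearMap.range Y.toLin') = 1), fun A hA w hw => ?_⟩
      obtain ⟨z, rfl⟩ := hw
      refine ⟨ι A *ᵥ z, ?_⟩
      rw [Matrix.toLin'_apply, Matrix.toLin'_apply, Matrix.mulVec_mulVec, hYc A hA, ← Matrix.mulVec_mulVec]
  obtain ⟨⟨w, hwW⟩, hw0, hgen⟩ := finrank_eq_one_iff'.1 hW
  have hw : w ≠ 0 := fun e => hw0 (Subtype.ext e)
  have hline : ∀ (A B : Matrix (Fin 3) (Fin 3) K), mat y * A = A * mat y → B * A = 1 →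
      ∃ a : L, a ≠ 0 ∧ ι A *ᵥ w = a • w := by
    intro A B hA hBA
    obtain ⟨a, ha⟩ := hgen ⟨_, hinv A hA w hwW⟩
    have ha' : a • w = ι A *ᵥ w := congrArg Subtype.val ha
    refine ⟨a, fun e => hw ?_, ha'.symm⟩
    rw [e, zero_smul] at ha'
    have h2 := congrArg (fun z => ι B *ᵥ z) ha'
    rw [Matrix.mulVec_mulVec, ← map_mul, hBA, map_one, Matrix.one_mulVec, Matrix.mulVec_zero] at h2
    exact h2.symm
  obtain ⟨a, ha0, ha⟩ := hline _ _ hyg' (mat_inv_mul g)
  obtain ⟨b, hb0, hb⟩ := hline _ _ hyh' (mat_inv_mul h)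
  have e1 := congrArg (fun A => ι A *ᵥ w) hhg
  simp only [map_mul, ← Matrix.mulVec_mulVec, ha, hb, Matrix.mulVec_smul, smul_smul] at e1
  have ha1 : a = 1 := by
    have := smul_left_injective L hw e1
    have h2 : (a * b) * (a - 1) = 0 := by linear_combination -this
    exact sub_eq_zero.1 ((mul_eq_zero.1 h2).resolve_left (mul_ne_zero ha0 hb0))
  rw [ha1, one_smul] at ha
  have e2 := congrArg (fun A => ι A *ᵥ w) (Small.cayley hd)
  simp only [map_add, map_sub, map_mul, map_one, hsm, Matrix.add_mulVec, Matrix.sub_mulVec, Matrix.smul_mulVec,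
    Matrix.one_mulVec, ← Matrix.mulVec_mulVec, ha] at e2
  have h3 : (φ (mat g).trace - φ (mat g⁻¹).trace) • w = 0 := by
    linear_combination (norm := module) -e2
  exact hne (φ.injective (sub_eq_zero.1 ((smul_eq_zero.1 h3).resolve_right hw)).symm)

variable {K : Type u} [Field K] [Fintype K] {p α : ℕ} [Fact p.Prime] [CharP K p]
  {X P : Subgroup (GL (Fin 3) K)}

theorem cube_mod_seven (D : Data p α X P)
    (hc : (Nat.card K = p ∧ (p % 7 = 1 ∨ p % 7 = 2 ∨ p % 7 = 4)) ∨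
      (Nat.card K = p ^ 2 ∧ (p % 7 = 3 ∨ p % 7 = 5 ∨ p % 7 = 6) ∧
        ∀ g ∈ P, (mat g⁻¹).trace = (mat g).trace ^ p)) :
    (p ^ α) ^ 3 % 7 = 1 := by
  obtain ⟨b, hb, hbα⟩ := exists_exponent D
  rw [← Nat.card_eq_fintype_card] at hb
  have hinj := Nat.pow_right_injective (Fact.out : p.Prime).two_le
  rcases hc with ⟨hK, hm⟩ | ⟨hK, hm, -⟩
  · rw [← pow_mul, mul_comm, pow_mul, Nat.pow_mod, Nat.pow_mod p]
    rcases hm with e | e | e <;> simp [e]
  · obtain rfl : b = 2 := hinj (hb.symm.trans hK)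
    obtain ⟨c, rfl⟩ := hbα
    rw [← pow_mul, show 2 * c * 3 = 6 * c by ring, pow_mul, Nat.pow_mod, Nat.pow_mod p]
    rcases hm with e | e | e <;> simp [e]

/-- The core has order 168. -/
theorem step_168 (hp : p ≠ 2) (D : Data p α X P)
    (h168 : Nat.card (P ⧸ (scalars (Fin 3) K).subgroupOf P) = 168)
    (hc : (Nat.card K = p ∧ (p % 7 = 1 ∨ p % 7 = 2 ∨ p % 7 = 4)) ∨
      (Nat.card K = p ^ 2 ∧ (p % 7 = 3 ∨ p % 7 = 5 ∨ p % 7 = 6) ∧
        ∀ g ∈ P, (mat g⁻¹).trace = (mat g).trace ^ p)) :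
    Out p α (PQ X) := by
  classical
  haveI := Small.finite_sub P
  by_cases hreal : ∀ g ∈ P, (mat g⁻¹).trace = (mat g).trace
  · obtain ⟨G, h1, h2, h3⟩ := Small.orth_of_real D.core hreal
    exact out_orth hp D h1 h2 h3
  have hZ := Small.center_trivial D.core (by rw [h168]; norm_num)
  obtain ⟨e⟩ := Small.trivial_equiv hZ
  haveI := D.core.simple
  haveI : Nontrivial P := e.toEquiv.nontrivial
  haveI : IsSimpleGroup P := e.isSimpleGroup
  have hcard : Nat.card P = 168 := (Nat.card_congr e.toEquiv).trans h168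
  push Not at hreal
  obtain ⟨g₀, hg₀, hne⟩ := hreal
  set g : P := ⟨g₀, hg₀⟩ with hg
  rcases Small.facts_168 hcard g with ⟨-, hr⟩ | ⟨hg7, hsq, hnr⟩
  · exact absurd (Small.coe_real hr) hne
  haveI : Fact (Nat.Prime 7) := ⟨by norm_num⟩
  have hg1 : g ≠ 1 := fun e1 => hnr (by rw [e1, inv_one])
  have hord : orderOf g = 7 := orderOf_eq_prime hg7 hg1
  obtain ⟨-, -, -, -, h48, h24⟩ := S1006.result hcard
  obtain ⟨hcl, -⟩ := h24 g hord
  -- every element of order seven is conjugate to `g` or to its inverse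
  have htwo : ∀ y : P, orderOf y = 7 → IsConj g y ∨ IsConj g⁻¹ y := by
    intro y hy
    have hoi : orderOf g⁻¹ = 7 := by rw [orderOf_inv, hord]
    let f : {y : P // IsConj g y} ⊕ {y : P // IsConj g⁻¹ y} → {y : P // orderOf y = 7} := Sum.elim
      (fun z => ⟨z, by rw [← Small.facts_168.orderOf_eq_of_conj z.2, hord]⟩)
      (fun z => ⟨z, by rw [← Small.facts_168.orderOf_eq_of_conj z.2, hoi]⟩)
    have hinj : Function.Injective f := by
      rintro (⟨a, ha⟩ | ⟨a, ha⟩) (⟨b, hb⟩ | ⟨b, hb⟩) hab <;> simp [f] at hab <;> subst hab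
      · rfl
      · exact absurd (ha.trans hb.symm) hnr
      · exact absurd (hb.trans ha.symm) hnr
      · rfl
    have hbij : Function.Bijective f := (Nat.bijective_iff_injective_and_card f).2
      ⟨hinj, by rw [Nat.card_sum, hcl, (h24 _ hoi).1, h48]⟩
    obtain ⟨z | z, hz⟩ := hbij.2 ⟨y, hy⟩
    · exact Or.inl ((show (z : P) = y from congrArg Subtype.val hz) ▸ z.2)
    · exact Or.inr ((show (z : P) = y from congrArg Subtype.val hz) ▸ z.2)
  obtain ⟨h, hh⟩ := isConj_iff.1 hsq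
  have hcent : ∀ y : P, y * g = g * y → ∃ i : ℕ, y = g ^ i := by
    intro y hy
    have h7 : Nat.card (Subgroup.centralizer ({g} : Set P)) = 7 := by
      have := Invol.card_isConj_mul_card_centralizer g
      rw [hcl, hcard] at this
      omega
    have heq : Subgroup.zpowers g = Subgroup.centralizer ({g} : Set P) :=
      Subgroup.eq_of_le_of_card_ge (Subgroup.zpowers_le.2 (Subgroup.mem_centralizer_singleton_iff.2 rfl))
        (by rw [h7, Nat.card_zpowers, hord])
    have hy' : y ∈ Subgroup.zpowers g := heq ▸ Subgroup.mem_centralizer_singleton_iff.2 hy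
    obtain ⟨i, hi⟩ := mem_powers_iff_mem_zpowers.2 hy'
    exact ⟨i, hi.symm⟩
  -- every element of `X` lies in `P` times scalars
  have hfull : ∀ x : X, ∃ a : P, (a : GL (Fin 3) K) * x ∈ scalars (Fin 3) K := by
    rintro ⟨x, hx⟩
    let c : P → P := fun y => ⟨x * y * x⁻¹, D.norm x hx y y.2⟩
    have hco : orderOf (c g) = 7 := by
      refine orderOf_eq_prime (Subtype.ext ?_) fun e1 => hg1 (Subtype.ext ?_)
      · rw [SubgroupClass.coe_pow, conj_pow, ← SubgroupClass.coe_pow, hg7]; simp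
      · exact conj_eq_one_iff.1 (congrArg Subtype.val e1)
    have hcg : IsConj g (c g) := by
      refine (htwo _ hco).resolve_right fun hc' => hne ?_
      have h1 := Small.trace_of_isConj hc'
      have h2 : (mat (c g : GL (Fin 3) K)).trace = (mat g₀).trace := by
        show (mat (x * g₀ * x⁻¹)).trace = _
        rw [mat_mul, mat_mul, Matrix.trace_mul_comm, ← mul_assoc, mat_inv_mul, one_mul]
      exact (h1.symm.trans h2)
    obtain ⟨a, ha⟩ := isConj_iff.1 hcg.symm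
    have ha' : (a : GL (Fin 3) K) * (x * g₀ * x⁻¹) * (a : GL (Fin 3) K)⁻¹ = g₀ := congrArg Subtype.val ha
    set x₁ : GL (Fin 3) K := (a : GL (Fin 3) K) * x with hx₁
    have hx₁X : x₁ ∈ X := mul_mem (D.le a.2) hx
    have hx₁g : x₁ * g₀ = g₀ * x₁ := by
      rw [← mul_inv_eq_iff_eq_mul]
      calc x₁ * g₀ * x₁⁻¹ = (a : GL (Fin 3) K) * (x * g₀ * x⁻¹) * (a : GL (Fin 3) K)⁻¹ := by rw [hx₁]; group
        _ = g₀ := ha'
    let h₁ : P := ⟨x₁ * h * x₁⁻¹, D.norm x₁ hx₁X h h.2⟩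
    have hh' : (h : GL (Fin 3) K) * g₀ * (h : GL (Fin 3) K)⁻¹ = g₀ * g₀ := congrArg Subtype.val hh
    have hcomm : (h⁻¹ * h₁) * g = g * (h⁻¹ * h₁) := by
      rw [← mul_inv_eq_iff_eq_mul]
      apply Subtype.ext
      show (h : GL (Fin 3) K)⁻¹ * (x₁ * h * x₁⁻¹) * g₀ * ((h : GL (Fin 3) K)⁻¹ * (x₁ * h * x₁⁻¹))⁻¹ = g₀
      have e1 : x₁⁻¹ * g₀ * x₁ = g₀ := by rw [mul_assoc, ← hx₁g, inv_mul_cancel_left]
      calc _ = (h : GL (Fin 3) K)⁻¹ * (x₁ * (h * (x₁⁻¹ * g₀ * x₁) * (h : GL (Fin 3) K)⁻¹) * x₁⁻¹) * h := by group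
        _ = (h : GL (Fin 3) K)⁻¹ * (x₁ * (g₀ * g₀) * x₁⁻¹) * h := by rw [e1, hh']
        _ = (h : GL (Fin 3) K)⁻¹ * (g₀ * g₀) * h := by
          rw [show x₁ * (g₀ * g₀) = g₀ * g₀ * x₁ by rw [← mul_assoc, hx₁g, mul_assoc, hx₁g, mul_assoc],
            mul_inv_cancel_right]
        _ = g₀ := by rw [← hh']; group
    obtain ⟨i, hi⟩ := hcent _ hcomm
    have hgh : ∀ j : ℕ, (h : GL (Fin 3) K) * g₀ ^ j = g₀ ^ (2 * j) * h := fun j => by
      rw [pow_mul, pow_two, ← hh', conj_pow, inv_mul_cancel_right]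
    have hg07 : g₀ ^ 7 = 1 := congrArg Subtype.val hg7
    refine ⟨g ^ (2 * i) * a, ?_⟩
    rw [Subgroup.coe_mul, SubgroupClass.coe_pow, mul_assoc]
    show g₀ ^ (2 * i) * x₁ ∈ _
    have hxh : x₁ * h = h * g₀ ^ i * x₁ := by
      have := congrArg Subtype.val hi
      rw [Subgroup.coe_mul, SubgroupClass.coe_pow, InvMemClass.coe_inv, inv_mul_eq_iff_eq_mul] at this
      exact mul_inv_eq_iff_eq_mul.1 this
    clear_value x₁
    refine scalar_of_comm_frobenius (g := g₀) (h := (h : GL (Fin 3) K)) (D.core.det_eq_one hg₀) hne hh' ?_ ?_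
    · rw [mul_assoc, hx₁g, ← mul_assoc, ← pow_succ, pow_succ', mul_assoc]
    · show g₀ ^ (2 * i) * x₁ * h = h * (g₀ ^ (2 * i) * x₁)
      rw [mul_assoc, hxh, hgh i, ← mul_assoc, ← mul_assoc, ← pow_add, ← two_mul, ← hgh (2 * i), mul_assoc]
  let φ : P →* PQ X := (QuotientGroup.mk' _).comp (Subgroup.inclusion D.le)
  have hφ : Function.Bijective φ := by
    refine ⟨(injective_iff_map_eq_one φ).2 fun y hy => hZ y ?_, fun q => ?_⟩
    · exact Subgroup.mem_subgroupOf.1 ((QuotientGroup.eq_one_iff (Subgroup.inclusion D.le y)).1 hy)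
    · obtain ⟨x, rfl⟩ := QuotientGroup.mk_surjective q
      obtain ⟨a, ha⟩ := hfull x
      refine ⟨a⁻¹, QuotientGroup.eq.2 (Subgroup.mem_subgroupOf.2 ?_)⟩
      simpa using ha
  obtain ⟨f⟩ := S0495.result hcard (F := ZMod 7) (ZMod.card 7)
  exact Or.inr (Or.inr (Or.inr (Or.inr (Or.inr (Or.inr (Or.inl
    ⟨cube_mod_seven D hc, ZMod 7, inferInstance, inferInstance, ZMod.card 7,
      ⟨(MulEquiv.ofBijective φ hφ).symm.trans f⟩⟩))))))

end Cfsg.Agent.ResidualThree.Psl
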