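import Cfsg.Agent.ResidualThree.Psl.Assembly
import Cfsg.Agent.ResidualThree.Psl.Step168
import Cfsg.Agent.ResidualThree.Psl.Small2520
import Cfsg.Agent.ResidualThree.Psl.Small360
import Cfsg.Agent.ResidualThree.Psl.SixCosetsAut
import Cfsg.Agent.ResidualThree.Main
import Cfsg.Agent.ResidualThree.Bridge

/-!
The list for descended data.
-/

set_option autoImplicit false

namespace Cfsg.Agent.ResidualThree.Psl

open Matrix Cfsg Cfsg.Geo Cfsg.Agent.PrimeDim
open scoped MatrixGroups

universe u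

variable {K : Type u} [Field K] [Fintype K] {p α : ℕ} [Fact p.Prime] [CharP K p]
  {X P : Subgroup (GL (Fin 3) K)}

/-- The list for descended data. -/
theorem out_core (hp : p ≠ 2) (D : Data p α X P)
    (hmin : ∀ K₁ : Subfield K, K₁ ≠ ⊤ → ¬ RealisableOver K₁ (matrixSet P)) : Out p α (PQ X) := by
  rcases D.core.classify hmin p with h | ⟨σ, G, h1, h2, h3, h4, h5, h6⟩ | ⟨-, G, h1, h2, h3⟩ |
    ⟨-, h, hc⟩ | ⟨-, h, hc⟩ | ⟨h2, -⟩ | ⟨h5, hK, h, -⟩
  · exact linear_step hp D h
  · exact unitary_step hp D h1 h2 h3 h4 h5 h6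
  · exact out_orth hp D h1 h2 h3
  · exact step_168 hp D h hc
  · exact step_360_of SixGen.six_cosets hp D h hc
  · exact absurd h2 hp
  · haveI := D.core.simple
    haveI := Small.finite_sub P
    exact step_2520 hp D h5 hK (iso_2520 h)

end Cfsg.Agent.ResidualThree.Psl
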