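import Cfsg.Agent.ResidualThree.Psl.Lift
import Cfsg.Agent.ResidualThree.Psl.Descend

/-!
From a subgroup of the projective special linear group to the descended data.
-/

set_option autoImplicit false

namespace Cfsg.Agent.ResidualThree.Psl

open Matrix Cfsg Cfsg.Geo Cfsg.Agent.PrimeDim
open scoped MatrixGroups

universe u

theorem out_shell {F : Type u} [Field F] [Fintype F] {p α : ℕ} [Fact p.Prime] (hp : p ≠ 2) (hα : 1 ≤ α)
    (hF : Fintype.card F = p ^ α) (H : Subgroup (Matrix.ProjectiveSpecialLinearGroup (Fin 3) F)) (hH : H ≠ ⊥)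
    (hN : NoAb H)
    (hcore : ∀ (K : Type u) [Field K] [Fintype K] [CharP K p] (X P : Subgroup (GL (Fin 3) K)), Data p α X P →
      (∀ K₁ : Subfield K, K₁ ≠ ⊤ → ¬ RealisableOver K₁ (matrixSet P)) → Out p α (PQ X)) : Out p α H := by
  haveI : CharP F p := charP_of_card_eq_prime_pow hF
  haveI : Finite (Matrix.SpecialLinearGroup (Fin 3) F) := Finite.of_injective _ Subtype.val_injective
  let π : Matrix.SpecialLinearGroup (Fin 3) F →* Matrix.ProjectiveSpecialLinearGroup (Fin 3) F := QuotientGroup.mk' _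
  let S := H.comap π
  let j : Matrix.SpecialLinearGroup (Fin 3) F →* GL (Fin 3) F := Matrix.SpecialLinearGroup.toGL
  have hj : Function.Injective j := fun a b e => Subtype.ext (congrArg Units.val e :)
  let X : Subgroup (GL (Fin 3) F) := S.map j
  have hSL : X ≤ Geo.specialLinear (Fin 3) F := by
    rintro _ ⟨s, -, rfl⟩
    exact MonoidHom.mem_ker.2 (Units.ext s.2)
  let χ : S →* PQ X := (QuotientGroup.mk' _).comp (S.equivMapOfInjective j hj).toMonoidHom
  let ξ : S →* H := π.subgroupComap H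
  have hξs : Function.Surjective ξ := fun ⟨y, hy⟩ => by
    obtain ⟨s, rfl⟩ := QuotientGroup.mk'_surjective _ y
    exact ⟨⟨s, hy⟩, rfl⟩
  have hk : ξ.ker = χ.ker := by
    ext ⟨s, hs⟩
    rw [MonoidHom.mem_ker, MonoidHom.mem_ker]
    show (⟨π s, hs⟩ : H) = 1 ↔ (QuotientGroup.mk (⟨j s, ⟨s, hs, rfl⟩⟩ : X) : PQ X) = 1
    rw [Subtype.ext_iff, QuotientGroup.eq_one_iff, Subgroup.mem_subgroupOf]
    show (QuotientGroup.mk s : Matrix.ProjectiveSpecialLinearGroup (Fin 3) F) = 1 ↔ j s ∈ scalars (Fin 3) F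
    rw [QuotientGroup.eq_one_iff, Matrix.SpecialLinearGroup.mem_center_iff]
    constructor
    · rintro ⟨r, -, hr⟩
      refine mem_scalars_of_smul (c := r) ?_
      show (s : Matrix (Fin 3) (Fin 3) F) = _
      rw [← hr, Matrix.smul_one_eq_diagonal]; rfl
    · intro h
      obtain ⟨c, hc⟩ := (mem_scalars_iff _).1 h
      have hd : (c : F) ^ 3 = 1 := by
        have h2 := s.2
        rw [show (s : Matrix (Fin 3) (Fin 3) F) = (c : F) • 1 from hc, Matrix.det_smul, Matrix.det_one, mul_one,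
          Fintype.card_fin] at h2
        exact h2
      refine ⟨c, by rw [Fintype.card_fin]; exact hd, ?_⟩
      rw [show (s : Matrix (Fin 3) (Fin 3) F) = (c : F) • 1 from hc, Matrix.smul_one_eq_diagonal]; rfl
  have hχs : Function.Surjective χ :=
    (QuotientGroup.mk'_surjective _).comp (S.equivMapOfInjective j hj).surjective
  let e : H ≃* PQ X := (QuotientGroup.quotientKerEquivOfSurjective ξ hξs).symm.trans
    ((QuotientGroup.quotientMulEquivOfEq hk).trans (QuotientGroup.quotientKerEquivOfSurjective χ hχs))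
  refine Out.of_equiv e.symm ?_
  have hNX : NoAb (PQ X) := NoAb.of_equiv e hN
  haveI : Nontrivial H := (Subgroup.nontrivial_iff_ne_bot H).2 hH
  haveI : Nontrivial (PQ X) := e.symm.toEquiv.nontrivial
  by_cases hirr : Irr X
  · obtain ⟨P, hle, hn, hP⟩ := exists_core_of_noab hSL hNX hirr
    obtain ⟨K, i1, i2, i3, X₀, P₀, hD, hmin, ⟨e'⟩⟩ := exists_descent hp hF hSL hNX hle hn hP
    exact Out.of_equiv e'.symm (hcore K X₀ P₀ hD hmin)
  · exact out_reducible hp hF hNX hirr

end Cfsg.Agent.ResidualThree.Psl
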