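import Cfsg.Agent.S4231
import Cfsg.Agent.PermGroups.Six

/-! The three kinds of outer automorphisms of the alternating group of degree six. -/

set_option autoImplicit false
set_option maxRecDepth 20000
set_option maxHeartbeats 1000000

open Equiv

namespace Cfsg.Agent.ResidualThree.Psl

namespace SixOuter

open Cfsg.Agent.PermGroups.Sym

local notation "S6" => Perm (Fin 6)
local notation "A6" => alternatingGroup (Fin 6)

/-- a permutation from two tables -/
def pm (f g : Fin 6 → Fin 6) (h1 : ∀ x, g (f x) = x) (h2 : ∀ x, f (g x) = x) : S6 := ⟨f, g, h1, h2⟩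

def cA : S6 := pm ![1, 2, 0, 3, 4, 5] ![2, 0, 1, 3, 4, 5] (by decide) (by decide)
def cB : S6 := pm ![0, 1, 2, 4, 5, 3] ![0, 1, 2, 5, 3, 4] (by decide) (by decide)
def cC : S6 := pm ![1, 2, 3, 4, 0, 5] ![4, 0, 1, 2, 3, 5] (by decide) (by decide)
def sw01 : S6 := pm ![1, 0, 2, 3, 4, 5] ![1, 0, 2, 3, 4, 5] (by decide) (by decide)
def vA : S6 := pm ![4, 3, 1, 2, 5, 0] ![5, 2, 3, 1, 0, 4] (by decide) (by decide)
def vB : S6 := pm ![4, 2, 3, 1, 5, 0] ![5, 3, 1, 2, 0, 4] (by decide) (by decide)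
def vC : S6 := pm ![0, 4, 5, 1, 2, 3] ![0, 3, 4, 5, 1, 2] (by decide) (by decide)
def rN : S6 := pm ![0, 3, 4, 5, 1, 2] ![0, 4, 5, 1, 2, 3] (by decide) (by decide)
def rM : S6 := pm ![0, 5, 4, 3, 2, 1] ![0, 5, 4, 3, 2, 1] (by decide) (by decide)

/-- representatives of the six cosets -/
def rep : Fin 6 → S6 := ![1, Equiv.swap 4 5, Equiv.swap 3 4, Equiv.swap 3 5, Equiv.swap 2 3, Equiv.swap 2 5]

theorem rep_inj : ∀ i j : Fin 6, Six.P ((rep i)⁻¹ * rep j) → i = j := by decide +kernel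

noncomputable def eQ : Fin 6 ≃ S6 ⧸ Six.total :=
  Equiv.ofBijective (fun i => (rep i : S6 ⧸ Six.total)) ((Nat.bijective_iff_injective_and_card _).2
    ⟨fun i j h => rep_inj i j (Six.mem_total.1 (QuotientGroup.eq.1 h)), by
      rw [Nat.card_eq_fintype_card, Fintype.card_fin]; exact Six.index_total.symm⟩)

noncomputable def rho : S6 →* S6 :=
  (eQ.symm.permCongrHom.toMonoidHom).comp (MulAction.toPermHom S6 (S6 ⧸ Six.total))

theorem rho_apply {g : S6} {i j : Fin 6} (h : Six.P ((rep j)⁻¹ * (g * rep i))) : rho g i = j := by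
  show eQ.symm (g • eQ i) = j
  rw [Equiv.symm_apply_eq]
  show g • (rep i : S6 ⧸ Six.total) = (rep j : S6 ⧸ Six.total)
  rw [MulAction.Quotient.smul_mk, smul_eq_mul]
  exact (QuotientGroup.eq.2 (Six.mem_total.2 h)).symm

theorem rho_injective : Function.Injective rho := by
  have hinj := normalCore_eq_bot (α := Fin 6) (by simp) Six.total (by rw [Six.index_total]; simp)
  rw [Subgroup.normalCore_eq_ker, MonoidHom.ker_eq_bot_iff] at hinj
  exact eQ.symm.permCongrHom.injective.comp hinj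

noncomputable def rhoE : S6 ≃* S6 :=
  MulEquiv.ofBijective rho (Finite.injective_iff_bijective.1 rho_injective)

theorem sign_rhoE (g : S6) : Perm.sign (rhoE g) = Perm.sign g := by
  have h : (Perm.sign (α := Fin 6)).comp rhoE.toMonoidHom = Perm.sign :=
    Perm.eq_sign_of_surjective_hom ((Perm.sign_surjective (Fin 6)).comp rhoE.surjective)
  exact DFunLike.congr_fun h g

/-- an automorphism preserving the sign, restricted -/
def restr (f : S6 ≃* S6) (h : ∀ g, Perm.sign (f g) = Perm.sign g) : MulAut A6 where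
  toFun x := ⟨f x, by rw [Perm.mem_alternatingGroup, h]; exact Perm.mem_alternatingGroup.1 x.2⟩
  invFun x := ⟨f.symm x, by
    rw [Perm.mem_alternatingGroup, ← h, f.apply_symm_apply]; exact Perm.mem_alternatingGroup.1 x.2⟩
  left_inv x := Subtype.ext (f.symm_apply_apply _)
  right_inv x := Subtype.ext (f.apply_symm_apply _)
  map_mul' x y := Subtype.ext (map_mul f _ _)

def tau : MulAut A6 := restr (MulAut.conj sw01) fun g => by
  rw [MulAut.conj_apply, map_mul, map_mul, map_inv, mul_comm, ← mul_assoc, inv_mul_cancel, one_mul]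
noncomputable def nu : MulAut A6 := restr rhoE sign_rhoE

abbrev a : A6 := ⟨cA, by rw [Perm.mem_alternatingGroup]; decide +kernel⟩
abbrev b : A6 := ⟨cB, by rw [Perm.mem_alternatingGroup]; decide +kernel⟩
abbrev c : A6 := ⟨cC, by rw [Perm.mem_alternatingGroup]; decide +kernel⟩

theorem rho_values : (∀ i, Six.P ((rep (vA i))⁻¹ * (cA * rep i))) ∧ (∀ i, Six.P ((rep (vB i))⁻¹ * (cB * rep i))) ∧
    (∀ i, Six.P ((rep (vC i))⁻¹ * (cC * rep i))) := by decide +kernel

theorem nu_a : ((nu a : A6) : S6) = vA := Equiv.ext fun i => rho_apply (rho_values.1 i)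
theorem nu_b : ((nu b : A6) : S6) = vB := Equiv.ext fun i => rho_apply (rho_values.2.1 i)
theorem nu_c : ((nu c : A6) : S6) = vC := Equiv.ext fun i => rho_apply (rho_values.2.2 i)

theorem tau_val (x : A6) : ((tau x : A6) : S6) = sw01 * (x : S6) * sw01⁻¹ := rfl

theorem center_triv : ∀ x : S6, x * cA = cA * x → x * cC = cC * x → x = 1 := by decide +kernel

theorem no_conj_c : ∀ g : S6, Perm.sign g = 1 → g * cC * g⁻¹ ≠ sw01 * cC * sw01⁻¹ := by decide +kernel

theorem no_conj_a : ∀ g : S6, g * cA * g⁻¹ ≠ vA ∧ g * (sw01 * cA * sw01⁻¹) * g⁻¹ ≠ vA ∧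
    g * cA * g⁻¹ ≠ sw01 * vA * sw01⁻¹ ∧ g * (sw01 * cA * sw01⁻¹) * g⁻¹ ≠ sw01 * vA * sw01⁻¹ := by decide +kernel

theorem det_tau : sw01 * cA * sw01⁻¹ = cA ^ 2 * cB ^ 0 ∧ sw01 * cB * sw01⁻¹ = cA ^ 0 * cB ^ 1 := by decide +kernel

theorem det_nu : rN * vA * rN⁻¹ = cA ^ 1 * cB ^ 2 ∧ rN * vB * rN⁻¹ = cA ^ 1 * cB ^ 1 := by decide +kernel

theorem fuse_mu : rM * (sw01 * vC * sw01⁻¹) * rM⁻¹ = cC ^ 2 := by decide +kernel

theorem cent_a : ∀ h : S6, Perm.sign h = 1 → h * cA = cA * h → ∃ m : Fin 3, ∃ n : Fin 3, h = cA ^ (m : ℕ) * cB ^ (n : ℕ) := by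
  decide +kernel

theorem basics : cA ^ 3 = 1 ∧ cB ^ 3 = 1 ∧ cA ≠ 1 ∧ cC ≠ 1 ∧ cC ^ 5 = 1 ∧ cA * cB = cB * cA ∧
    Perm.sign rN = 1 ∧ Perm.sign rM = 1 := by decide +kernel

def wA : S6 := pm ![3, 1, 2, 5, 4, 0] ![5, 1, 2, 0, 4, 3] (by decide) (by decide)
def wC : S6 := pm ![3, 1, 4, 2, 5, 0] ![5, 1, 3, 0, 2, 4] (by decide) (by decide)

theorem rho_values2 : (∀ i, Six.P ((rep (wA i))⁻¹ * ((sw01 * vA * sw01⁻¹) * rep i))) ∧
    (∀ i, Six.P ((rep (wC i))⁻¹ * ((sw01 * vC * sw01⁻¹) * rep i))) := by decide +kernel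

noncomputable def mu : MulAut A6 := tau * nu

theorem mu_a : ((mu a : A6) : S6) = sw01 * vA * sw01⁻¹ := by
  show ((tau (nu a) : A6) : S6) = _
  rw [tau_val, nu_a]

theorem mu_c : ((mu c : A6) : S6) = sw01 * vC * sw01⁻¹ := by
  show ((tau (nu c) : A6) : S6) = _
  rw [tau_val, nu_c]

theorem mu2_a : ((mu (mu a) : A6) : S6) = sw01 * wA * sw01⁻¹ := by
  show ((tau (nu (mu a)) : A6) : S6) = _
  rw [tau_val, show ((nu (mu a) : A6) : S6) = wA from Equiv.ext fun i => by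
    show rho ((mu a : A6) : S6) i = wA i
    rw [mu_a]; exact rho_apply (rho_values2.1 i)]

theorem mu2_c : ((mu (mu c) : A6) : S6) = sw01 * wC * sw01⁻¹ := by
  show ((tau (nu (mu c)) : A6) : S6) = _
  rw [tau_val, show ((nu (mu c) : A6) : S6) = wC from Equiv.ext fun i => by
    show rho ((mu c : A6) : S6) i = wC i
    rw [mu_c]; exact rho_apply (rho_values2.2 i)]

theorem no_conj_sq : (∀ g : S6, Perm.sign g = 1 → g * (sw01 * cC * sw01⁻¹) * g⁻¹ ≠ sw01 * wC * sw01⁻¹) ∧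
    ∀ g : S6, g * vA * g⁻¹ ≠ sw01 * wA * sw01⁻¹ ∧ g * (sw01 * vA * sw01⁻¹) * g⁻¹ ≠ sw01 * wA * sw01⁻¹ := by
  decide +kernel

local notation "Inn6" => (MonoidHom.range (MulAut.conj : A6 →* MulAut A6))

theorem sign_one (x : A6) : Perm.sign (x : S6) = 1 := Perm.mem_alternatingGroup.1 x.2

theorem inn_normal : (Inn6).Normal := ⟨fun x hx g => by
  obtain ⟨y, rfl⟩ := hx
  exact ⟨g y, by ext w; simp [MulAut.conj_apply]⟩⟩

theorem conj_val (g w : A6) : ((MulAut.conj g w : A6) : S6) = (g : S6) * (w : S6) * (g : S6)⁻¹ := rfl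

theorem six_cosets_aux (hcard : Nat.card (MulAut A6) ∣ 4 * Nat.card A6) :
    ∃ M : Subgroup (MulAut A6), Inn6 ≤ M ∧ Subgroup.relIndex Inn6 M ≤ 2 ∧
      (∀ γ ∈ M, γ ∉ Inn6 → ∃ c r : A6, c ≠ 1 ∧ c ^ 5 = 1 ∧ r * γ c * r⁻¹ = c ^ 2) ∧
      (∀ γ : MulAut A6, γ ∉ M → ∃ (a b r : A6) (i j k l : ℕ), a ^ 3 = 1 ∧ b ^ 3 = 1 ∧ a ≠ 1 ∧ a * b = b * a ∧
        (∀ h : A6, h * a = a * h → ∃ m n : ℕ, h = a ^ m * b ^ n) ∧
        r * γ a * r⁻¹ = a ^ i * b ^ j ∧ r * γ b * r⁻¹ = a ^ k * b ^ l ∧ (i * l + 2 * (j * k)) % 3 = 2) := by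
  classical
  haveI := inn_normal
  haveI : Finite (MulAut A6) := Finite.of_injective _ DFunLike.coe_injective
  set q := QuotientGroup.mk' Inn6 with hq
  have hker : q.ker = Inn6 := QuotientGroup.ker_mk' _
  obtain ⟨hA, hB, hA1, hC1, hC, hAB, hrN, hrM⟩ := basics
  have key : ∀ {γ δ : MulAut A6}, q γ = q δ → ∃ g : A6, γ = MulAut.conj g * δ := by
    intro γ δ h
    have h1 : γ * δ⁻¹ ∈ Inn6 := by
      rw [← hker, MonoidHom.mem_ker, map_mul, map_inv, h, mul_inv_cancel]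
    obtain ⟨g, hg⟩ := h1
    exact ⟨g, by rw [hg, inv_mul_cancel_right]⟩
  have val : ∀ {γ δ : MulAut A6} (g w : A6), γ = MulAut.conj g * δ →
      ((γ w : A6) : S6) = (g : S6) * ((δ w : A6) : S6) * (g : S6)⁻¹ := by
    rintro _ δ g w rfl
    rfl
  have hta : q tau ≠ 1 := fun h => by
    obtain ⟨g, hg⟩ := key (h.trans (map_one q).symm)
    exact no_conj_c g (sign_one g) (val g c hg).symm
  have hna : q nu ≠ 1 := fun h => by
    obtain ⟨g, hg⟩ := key (h.trans (map_one q).symm)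
    exact (no_conj_a g).1 ((val g a hg).symm.trans nu_a)
  have hnt : q nu ≠ q tau := fun h => by
    obtain ⟨g, hg⟩ := key h
    exact (no_conj_a g).2.1 ((val g a hg).symm.trans nu_a)
  have hma : q mu ≠ 1 := fun h => by
    obtain ⟨g, hg⟩ := key (h.trans (map_one q).symm)
    exact (no_conj_a g).2.2.1 ((val g a hg).symm.trans mu_a)
  have hmt : q mu ≠ q tau := fun h => by
    obtain ⟨g, hg⟩ := key h
    exact (no_conj_a g).2.2.2 ((val g a hg).symm.trans mu_a)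
  have hmn : q mu ≠ q nu := fun h => hta (by
    rw [show mu = tau * nu from rfl, map_mul] at h
    exact mul_eq_right.1 h)
  have hinj : Function.Injective (MulAut.conj : A6 →* MulAut A6) := by
    refine (injective_iff_map_eq_one _).2 fun x hx => Subtype.ext (center_triv x ?_ ?_)
    · have h := congrArg Subtype.val (DFunLike.congr_fun hx a)
      exact mul_inv_eq_iff_eq_mul.1 h
    · have h := congrArg Subtype.val (DFunLike.congr_fun hx c)
      exact mul_inv_eq_iff_eq_mul.1 h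
  have hQ : Nat.card (MulAut A6 ⧸ Inn6) ≤ 4 := by
    have h1 := Subgroup.card_eq_card_quotient_mul_card_subgroup Inn6
    rw [← Nat.card_congr (MonoidHom.ofInjective hinj).toEquiv] at h1
    have h2 : 0 < Nat.card A6 := Nat.card_pos
    rw [h1] at hcard
    exact Nat.le_of_dvd (by norm_num) (Nat.dvd_of_mul_dvd_mul_right h2 hcard)
  have hall : ∀ γ : MulAut A6, q γ = 1 ∨ q γ = q tau ∨ q γ = q nu ∨ q γ = q mu := by
    intro γ
    by_contra hcon
    push Not at hcon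
    obtain ⟨h1, h2, h3, h4⟩ := hcon
    haveI : Fintype (MulAut A6 ⧸ Inn6) := Fintype.ofFinite _
    have hnd : [q γ, 1, q tau, q nu, q mu].Nodup := by
      simp only [List.nodup_cons, List.mem_cons, List.not_mem_nil, or_false, not_or, not_false_eq_true, and_true,
        List.nodup_nil]
      exact ⟨⟨h1, h2, h3, h4⟩, ⟨hta.symm, hna.symm, hma.symm⟩, ⟨hnt.symm, hmt.symm⟩, hmn.symm⟩
    have := hnd.length_le_card
    rw [← Nat.card_eq_fintype_card] at this
    simp only [List.length_cons, List.length_nil] at this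
    omega
  have hsq : q mu ^ 2 = 1 := by
    rw [← map_pow, sq]
    rcases hall (mu * mu) with h | h | h | h
    · exact h
    · obtain ⟨g, hg⟩ := key h
      exact absurd ((val g c hg).symm.trans mu2_c) (no_conj_sq.1 g (sign_one g))
    · obtain ⟨g, hg⟩ := key h
      have := (val g a hg).symm.trans mu2_a
      rw [nu_a] at this
      exact absurd this (no_conj_sq.2 g).1
    · rw [map_mul] at h
      exact absurd (mul_eq_right.1 h) hma
  refine ⟨(Subgroup.zpowers (q mu)).comap q, fun x hx => ?_, ?_, fun γ hγ hγI => ?_, fun γ hγ => ?_⟩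
  · rw [Subgroup.mem_comap, show q x = 1 from (QuotientGroup.eq_one_iff x).2 hx]
    exact one_mem _
  · have e := Subgroup.relIndex_ker ((Subgroup.zpowers (q mu)).comap q) q
    rw [hker] at e
    rw [e]
    refine (Subgroup.card_le_of_le (Subgroup.map_comap_le q _)).trans ?_
    rw [Nat.card_zpowers]
    exact orderOf_le_of_pow_eq_one (by norm_num) hsq
  · obtain ⟨n, hn⟩ := Subgroup.mem_zpowers_iff.1 (Subgroup.mem_comap.1 hγ)
    have hγ1 : q γ ≠ 1 := fun h => hγI ((QuotientGroup.eq_one_iff γ).1 h)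
    have hγm : q γ = q mu := by
      rcases Int.even_or_odd n with ⟨k, rfl⟩ | ⟨k, rfl⟩
      · exfalso
        rw [← two_mul, zpow_mul, zpow_ofNat, hsq, one_zpow] at hn
        exact hγ1 hn.symm
      · rw [zpow_add, zpow_mul, zpow_ofNat, hsq, one_zpow, one_mul, zpow_one] at hn
        exact hn.symm
    obtain ⟨g, hg⟩ := key hγm
    refine ⟨c, ⟨rM, hrM⟩ * g⁻¹, fun h => hC1 (congrArg Subtype.val h), Subtype.ext hC, Subtype.ext ?_⟩
    show rM * (g : S6)⁻¹ * ((γ c : A6) : S6) * (rM * (g : S6)⁻¹)⁻¹ = cC ^ 2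
    rw [val g c hg, mu_c, ← fuse_mu]
    group
  · have hγ1 : q γ ≠ 1 := fun h => hγ (Subgroup.mem_comap.2 (h ▸ one_mem _))
    have hγm : q γ ≠ q mu := fun h => hγ (Subgroup.mem_comap.2 (h ▸ Subgroup.mem_zpowers _))
    have hcent : ∀ h : A6, h * a = a * h → ∃ m n : ℕ, h = a ^ m * b ^ n := fun h hh => by
      obtain ⟨m, n, e⟩ := cent_a h (sign_one h) (congrArg Subtype.val hh)
      exact ⟨m, n, Subtype.ext e⟩
    have h3a : a ^ 3 = 1 := Subtype.ext hA
    have h3b : b ^ 3 = 1 := Subtype.ext hB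
    rcases (hall γ).resolve_left hγ1 with h | h | h
    · obtain ⟨g, hg⟩ := key h
      refine ⟨a, b, g⁻¹, 2, 0, 0, 1, h3a, h3b, fun e => hA1 (congrArg Subtype.val e), Subtype.ext hAB, hcent,
        Subtype.ext ?_, Subtype.ext ?_, by norm_num⟩
      · show (g : S6)⁻¹ * ((γ a : A6) : S6) * ((g : S6)⁻¹)⁻¹ = cA ^ 2 * cB ^ 0
        rw [val g a hg, tau_val, ← det_tau.1]
        group
      · show (g : S6)⁻¹ * ((γ b : A6) : S6) * ((g : S6)⁻¹)⁻¹ = cA ^ 0 * cB ^ 1
        rw [val g b hg, tau_val, ← det_tau.2]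
        group
    · obtain ⟨g, hg⟩ := key h
      refine ⟨a, b, ⟨rN, hrN⟩ * g⁻¹, 1, 2, 1, 1, h3a, h3b, fun e => hA1 (congrArg Subtype.val e), Subtype.ext hAB,
        hcent, Subtype.ext ?_, Subtype.ext ?_, by norm_num⟩
      · show rN * (g : S6)⁻¹ * ((γ a : A6) : S6) * (rN * (g : S6)⁻¹)⁻¹ = cA ^ 1 * cB ^ 2
        rw [val g a hg, nu_a, ← det_nu.1]
        group
      · show rN * (g : S6)⁻¹ * ((γ b : A6) : S6) * (rN * (g : S6)⁻¹)⁻¹ = cA ^ 1 * cB ^ 1
        rw [val g b hg, nu_b, ← det_nu.2]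
        group
    · exact absurd h hγm

end SixOuter

local notation "A6" => alternatingGroup (Fin 6)

/-- the cosets of the inner automorphisms of the alternating group of degree six -/
theorem six_cosets : ∃ M : Subgroup (MulAut A6), (MulAut.conj : A6 →* _).range ≤ M ∧
    (MulAut.conj : A6 →* _).range.relIndex M ≤ 2 ∧
    (∀ γ ∈ M, γ ∉ (MulAut.conj : A6 →* _).range → ∃ c r : A6, c ≠ 1 ∧ c ^ 5 = 1 ∧ r * γ c * r⁻¹ = c ^ 2) ∧
    (∀ γ : MulAut A6, γ ∉ M → ∃ (a b r : A6) (i j k l : ℕ), a ^ 3 = 1 ∧ b ^ 3 = 1 ∧ a ≠ 1 ∧ a * b = b * a ∧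
       (∀ h : A6, h * a = a * h → ∃ m n : ℕ, h = a ^ m * b ^ n) ∧
       r * γ a * r⁻¹ = a ^ i * b ^ j ∧ r * γ b * r⁻¹ = a ^ k * b ^ l ∧ (i * l + 2 * (j * k)) % 3 = 2) :=
  SixOuter.six_cosets_aux (Cfsg.Agent.S4231.card_aut_dvd 6 (by norm_num))

end Cfsg.Agent.ResidualThree.Psl
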