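import Mathlib

/-! The cosets of the inner automorphisms of the alternating group of degree six. -/

set_option autoImplicit false
set_option maxRecDepth 20000

namespace Cfsg.Agent.ResidualThree.Psl

namespace SixAutMat

/-- the group -/
abbrev A6 : Type := ↥(alternatingGroup (Fin 6))

/-- three-cycle -/
def ta : A6 := ⟨Equiv.swap 0 1 * Equiv.swap 1 2, Equiv.Perm.mem_alternatingGroup.mpr (by decide +kernel)⟩
/-- the disjoint three-cycle -/
def tb : A6 := ⟨Equiv.swap 3 4 * Equiv.swap 4 5, Equiv.Perm.mem_alternatingGroup.mpr (by decide +kernel)⟩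
/-- their product -/
def td : A6 := ta * tb
/-- five-cycle -/
def tc : A6 :=
  ⟨Equiv.swap 1 2 * Equiv.swap 2 3 * Equiv.swap 3 4 * Equiv.swap 4 5,
    Equiv.Perm.mem_alternatingGroup.mpr (by decide +kernel)⟩
/-- image of the three-cycle, first mixed kind -/
def ty : A6 :=
  ⟨Equiv.swap 0 1 * Equiv.swap 1 3 * Equiv.swap 2 4 * Equiv.swap 4 5,
    Equiv.Perm.mem_alternatingGroup.mpr (by decide +kernel)⟩
/-- image of the three-cycle, second mixed kind -/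
def tx : A6 := ⟨Equiv.swap 0 1 * Equiv.swap 1 3, Equiv.Perm.mem_alternatingGroup.mpr (by decide +kernel)⟩
/-- the element carrying the images back -/
def tr : A6 := ⟨Equiv.swap 2 3 * Equiv.swap 4 5, Equiv.Perm.mem_alternatingGroup.mpr (by decide +kernel)⟩

theorem five_class : ∀ x : A6, x ^ 5 = 1 → x ≠ 1 → ∃ r : A6, r * x * r⁻¹ = tc ∨ r * x * r⁻¹ = tc ^ 2 := by
  decide +kernel

theorem three_class : ∀ x : A6, x ^ 3 = 1 → x ≠ 1 → ∃ r : A6, r * x * r⁻¹ = ta ∨ r * x * r⁻¹ = td := by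
  decide +kernel

theorem five_ne : ∀ r : A6, r * tc * r⁻¹ ≠ tc ^ 2 := by decide +kernel

theorem three_ne : ∀ r : A6, r * ta * r⁻¹ ≠ td := by decide +kernel

theorem five_four : ∃ r : A6, r * tc ^ 4 * r⁻¹ = tc := by decide +kernel

theorem facts : ta ^ 3 = 1 ∧ tb ^ 3 = 1 ∧ ta ≠ 1 ∧ ta * tb = tb * ta ∧ td ^ 3 = 1 ∧ td ≠ 1 ∧ tc ≠ 1 ∧ tc ^ 5 = 1 ∧
    tb = tc * tc * ta * tc * ta * tc * tc ∧
    (ta * tc) ^ 4 = 1 ∧ (ta * tc ^ 2) ^ 4 = 1 ∧ (ta * tc ^ 3) ^ 3 = 1 ∧ (ta * tc ^ 4) ^ 5 = 1 := by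
  decide +kernel

theorem cent : ∀ h : A6, h * ta = ta * h → ∃ m n : Fin 3, h = ta ^ m.1 * tb ^ n.1 := by decide +kernel

/-- the relations between the generators -/
def Rel (x d : A6) : Prop :=
  x ^ 3 = 1 ∧ x ≠ 1 ∧ (x * d) ^ 4 = 1 ∧ (x * d ^ 2) ^ 4 = 1 ∧ (x * d ^ 3) ^ 3 = 1 ∧ (x * d ^ 4) ^ 5 = 1

theorem cand_one : ∀ x : A6, x ^ 3 = 1 → x ≠ 1 → (x * tc) ^ 4 = 1 → (x * tc ^ 2) ^ 4 = 1 →
    (x * tc ^ 3) ^ 3 = 1 → (x * tc ^ 4) ^ 5 = 1 →
    ((∃ i : Fin 6, x.1 i = i) → ∃ k : Fin 5, tc ^ k.1 * x * (tc ^ k.1)⁻¹ = ta) ∧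
    ((∀ i : Fin 6, x.1 i ≠ i) → ∃ k : Fin 5, tc ^ k.1 * x * (tc ^ k.1)⁻¹ = ty) := by
  decide +kernel

theorem cand_two : ∀ x : A6, x ^ 3 = 1 → x ≠ 1 → (x * tc ^ 2) ^ 4 = 1 → (x * (tc ^ 2) ^ 2) ^ 4 = 1 →
    (x * (tc ^ 2) ^ 3) ^ 3 = 1 → (x * (tc ^ 2) ^ 4) ^ 5 = 1 →
    (∃ i : Fin 6, x.1 i = i) → ∃ k : Fin 5, tc ^ k.1 * x * (tc ^ k.1)⁻¹ = tx := by
  decide +kernel

theorem back : tr * ty * tr⁻¹ = ta ^ 1 * tb ^ 2 ∧
    tr * (tc * tc * ty * tc * ty * tc * tc) * tr⁻¹ = ta ^ 1 * tb ^ 1 ∧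
    tr * tx * tr⁻¹ = ta ^ 1 * tb ^ 0 ∧
    tr * (tc ^ 2 * tc ^ 2 * tx * tc ^ 2 * tx * tc ^ 2 * tc ^ 2) * tr⁻¹ = ta ^ 0 * tb ^ 2 := by
  decide +kernel

theorem three_cycles : ∀ x : A6, x ^ 3 = 1 → x ≠ 1 → (∃ i : Fin 6, x.1 i = i) →
    ∃ (i : Fin 5) (j : Fin 3) (k : Fin 5) (e : Fin 2),
      x = tc ^ i.1 * ta ^ j.1 * tc ^ k.1 * ta ^ (e.1 + 1) * (tc ^ i.1 * ta ^ j.1 * tc ^ k.1)⁻¹ := by
  decide +kernel

theorem ta_fix : ∃ i : Fin 6, ta.1 i = i := by decide +kernel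

theorem td_free : ∀ i : Fin 6, td.1 i ≠ i := by decide +kernel

theorem conj_apply (r x : A6) (i : Fin 6) : (r * x * r⁻¹).1 (r.1 i) = r.1 (x.1 i) := by
  simp [Equiv.Perm.mul_apply]

theorem fix_of_conj {r x : A6} (h : r * x * r⁻¹ = ta) : ∃ i : Fin 6, x.1 i = i := by
  obtain ⟨i, hi⟩ := ta_fix
  refine ⟨r.1.symm i, r.1.injective ?_⟩
  rw [← conj_apply, h, Equiv.apply_symm_apply, hi]

theorem free_of_conj {r x : A6} (h : r * x * r⁻¹ = td) : ∀ i : Fin 6, x.1 i ≠ i := fun i hi =>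
  td_free (r.1 i) (by rw [← h, conj_apply, hi])

theorem closure_top : Subgroup.closure ({ta, tc} : Set A6) = ⊤ := by
  set H := Subgroup.closure ({ta, tc} : Set A6) with hH
  have ha : ta ∈ H := Subgroup.subset_closure (Or.inl rfl)
  have hc : tc ∈ H := Subgroup.subset_closure (Or.inr rfl)
  have hle : alternatingGroup (Fin 6) ≤ H.map (alternatingGroup (Fin 6)).subtype := by
    refine Equiv.Perm.closure_three_cycles_eq_alternating.ge.trans ((Subgroup.closure_le _).2 ?_)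
    intro σ hσ
    have hfix : ∃ i : Fin 6, σ i = i := by
      by_contra h
      push Not at h
      have := hσ.card_support
      rw [Finset.eq_univ_iff_forall.2 fun i => Equiv.Perm.mem_support.2 (h i)] at this
      simp at this
    obtain ⟨i, j, k, e, he⟩ := three_cycles ⟨σ, hσ.mem_alternatingGroup⟩
      (Subtype.ext (by simpa [hσ.orderOf] using pow_orderOf_eq_one σ))
      (fun h => hσ.isCycle.ne_one (congrArg Subtype.val h)) hfix
    refine ⟨⟨σ, hσ.mem_alternatingGroup⟩, ?_, rfl⟩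
    rw [SetLike.mem_coe, he]
    have hw := H.mul_mem (H.mul_mem (H.pow_mem hc i.1) (H.pow_mem ha j.1)) (H.pow_mem hc k.1)
    exact H.mul_mem (H.mul_mem hw (H.pow_mem ha _)) (H.inv_mem hw)
  refine eq_top_iff.2 fun x _ => ?_
  obtain ⟨y, hy, hyx⟩ := hle x.2
  rwa [← Subtype.ext (a1 := y) (a2 := x) hyx]

/-- the class of five-cycles is exchanged -/
def Sfive (γ : MulAut A6) : Prop := ∃ r : A6, r * γ tc * r⁻¹ = tc ^ 2

/-- the class of three-cycles is exchanged -/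
def Sthree (γ : MulAut A6) : Prop := ∃ r : A6, r * γ ta * r⁻¹ = td

theorem not_sfive {γ : MulAut A6} (h : ¬ Sfive γ) : ∃ r : A6, r * γ tc * r⁻¹ = tc := by
  obtain ⟨r, h' | h'⟩ := five_class (γ tc) (by rw [← map_pow, facts.2.2.2.2.2.2.2.1, map_one])
    (fun e => facts.2.2.2.2.2.2.1 (γ.injective (e.trans (map_one γ).symm)))
  · exact ⟨r, h'⟩
  · exact absurd ⟨r, h'⟩ h

theorem not_sthree {γ : MulAut A6} (h : ¬ Sthree γ) : ∃ r : A6, r * γ ta * r⁻¹ = ta := by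
  obtain ⟨r, h' | h'⟩ := three_class (γ ta) (by rw [← map_pow, facts.1, map_one])
    (fun e => facts.2.2.1 (γ.injective (e.trans (map_one γ).symm)))
  · exact ⟨r, h'⟩
  · exact absurd ⟨r, h'⟩ h

theorem link {x u v r s : A6} (h1 : r * x * r⁻¹ = u) (h2 : s * x * s⁻¹ = v) :
    (s * r⁻¹) * u * (s * r⁻¹)⁻¹ = v := by
  rw [← h1, ← h2]
  simp [mul_assoc]

/-- two conjugations in a row -/
theorem comb {γ δ : MulAut A6} {x y u w : A6} {r s : A6} (h1 : r * γ y * r⁻¹ = u) (h2 : s * δ x * s⁻¹ = y)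
    (hw : w = u) : (r * γ s) * (γ * δ) x * (r * γ s)⁻¹ = w := by
  rw [MulAut.mul_apply, hw, ← h1, ← h2]
  simp only [map_mul, map_inv, mul_inv_rev, mul_assoc]

theorem tcomp {x y w : A6} {r s : A6} (h1 : r * y * r⁻¹ = w) (h2 : s * x * s⁻¹ = y) :
    (r * s) * x * (r * s)⁻¹ = w := by
  rw [← h1, ← h2]
  simp only [mul_inv_rev, mul_assoc]

theorem sfive_mul (γ δ : MulAut A6) : Sfive (γ * δ) ↔ ¬ (Sfive γ ↔ Sfive δ) := by
  have excl : ∀ {θ : MulAut A6}, (∃ r : A6, r * θ tc * r⁻¹ = tc) → ¬ Sfive θ := by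
    rintro θ ⟨r, hr⟩ ⟨s, hs⟩
    exact five_ne (s * r⁻¹) (link hr hs)
  by_cases h1 : Sfive γ <;> by_cases h2 : Sfive δ
  · obtain ⟨r, hr⟩ := h1
    obtain ⟨s, hs⟩ := h2
    obtain ⟨v, hv⟩ := five_four
    have h4 : r * γ (tc ^ 2) * r⁻¹ = tc ^ 4 := by
      rw [map_pow, ← conj_pow, hr, ← pow_mul]
    have h := excl (θ := γ * δ) ⟨_, tcomp hv (comb h4 hs rfl)⟩
    exact iff_of_false h fun hn => hn (iff_of_true ⟨r, hr⟩ ⟨s, hs⟩)
  · obtain ⟨r, hr⟩ := h1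
    obtain ⟨s, hs⟩ := not_sfive h2
    exact iff_of_true ⟨_, comb hr hs rfl⟩ fun hn => h2 (hn.1 ⟨r, hr⟩)
  · obtain ⟨r, hr⟩ := not_sfive h1
    obtain ⟨s, hs⟩ := h2
    have hr2 : r * γ (tc ^ 2) * r⁻¹ = tc ^ 2 := by rw [map_pow, ← conj_pow, hr]
    exact iff_of_true ⟨_, comb hr2 hs rfl⟩ fun hn => h1 (hn.2 ⟨s, hs⟩)
  · obtain ⟨r, hr⟩ := not_sfive h1
    obtain ⟨s, hs⟩ := not_sfive h2
    exact iff_of_false (excl ⟨_, comb hr hs rfl⟩) fun hn => hn (iff_of_false h1 h2)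

theorem sthree_mul (γ δ : MulAut A6) : Sthree (γ * δ) ↔ ¬ (Sthree γ ↔ Sthree δ) := by
  have excl : ∀ {θ : MulAut A6}, (∃ r : A6, r * θ ta * r⁻¹ = ta) → ¬ Sthree θ := by
    rintro θ ⟨r, hr⟩ ⟨s, hs⟩
    exact three_ne (s * r⁻¹) (link hr hs)
  have htd : γ td ^ 3 = 1 ∧ γ td ≠ 1 := ⟨by rw [← map_pow, facts.2.2.2.2.1, map_one],
    fun e => facts.2.2.2.2.2.1 (γ.injective (e.trans (map_one γ).symm))⟩
  have ne_img : ∀ {r v u : A6}, r * γ ta * r⁻¹ = u → v * γ td * v⁻¹ = u → False := by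
    intro r v u hr hv
    refine three_ne (γ.symm (v⁻¹ * r)) (γ.injective ?_)
    have e1 : γ ta = r⁻¹ * u * r := by rw [← hr]; simp [mul_assoc]
    have e2 : γ td = v⁻¹ * u * v := by rw [← hv]; simp [mul_assoc]
    rw [map_mul, map_mul, map_inv, MulEquiv.apply_symm_apply, e1, e2]
    simp [mul_assoc]
  by_cases h1 : Sthree γ <;> by_cases h2 : Sthree δ
  · obtain ⟨r, hr⟩ := h1
    obtain ⟨s, hs⟩ := h2
    obtain ⟨v, hv | hv⟩ := three_class (γ td) htd.1 htd.2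
    · exact iff_of_false (excl ⟨_, comb hv hs rfl⟩) fun hn => hn (iff_of_true ⟨r, hr⟩ ⟨s, hs⟩)
    · exact (ne_img hr hv).elim
  · obtain ⟨r, hr⟩ := h1
    obtain ⟨s, hs⟩ := not_sthree h2
    exact iff_of_true ⟨_, comb hr hs rfl⟩ fun hn => h2 (hn.1 ⟨r, hr⟩)
  · obtain ⟨r, hr⟩ := not_sthree h1
    obtain ⟨s, hs⟩ := h2
    obtain ⟨v, hv | hv⟩ := three_class (γ td) htd.1 htd.2
    · exact (ne_img hr hv).elim
    · exact iff_of_true ⟨_, comb hv hs rfl⟩ fun hn => h1 (hn.2 ⟨s, hs⟩)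
  · obtain ⟨r, hr⟩ := not_sthree h1
    obtain ⟨s, hs⟩ := not_sthree h2
    exact iff_of_false (excl ⟨_, comb hr hs rfl⟩) fun hn => hn (iff_of_false h1 h2)

theorem not_sfive_conj (g : A6) : ¬ Sfive (MulAut.conj g) := by
  rintro ⟨r, hr⟩
  exact five_ne (r * g) (tcomp hr rfl)

theorem not_sthree_conj (g : A6) : ¬ Sthree (MulAut.conj g) := by
  rintro ⟨r, hr⟩
  exact three_ne (r * g) (tcomp hr rfl)

/-- the subgroup of the third coset -/
def ten : Subgroup (MulAut A6) where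
  carrier := {γ | Sfive γ ↔ Sthree γ}
  one_mem' := by
    have h : (1 : MulAut A6) = MulAut.conj 1 := (map_one _).symm
    show Sfive 1 ↔ Sthree 1
    rw [h]
    exact iff_of_false (not_sfive_conj 1) (not_sthree_conj 1)
  mul_mem' := by
    intro a b ha hb
    show Sfive (a * b) ↔ Sthree (a * b)
    rw [sfive_mul, sthree_mul, Set.mem_setOf_eq.mp ha, Set.mem_setOf_eq.mp hb]
  inv_mem' := by
    intro a ha
    have h5 := sfive_mul a a⁻¹
    have h3 := sthree_mul a a⁻¹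
    have hone : (1 : MulAut A6) = MulAut.conj 1 := (map_one _).symm
    rw [mul_inv_cancel, hone] at h5 h3
    have e5 := not_not.1 fun hn => not_sfive_conj 1 (h5.2 hn)
    have e3 := not_not.1 fun hn => not_sthree_conj 1 (h3.2 hn)
    exact e5.symm.trans ((Set.mem_setOf_eq.mp ha).trans e3)

/-- the image of a pair, moved to a standard place -/
theorem rel_image (γ : MulAut A6) (r : A6) : Rel (r * γ ta * r⁻¹) (r * γ tc * r⁻¹) := by
  obtain ⟨h1, -, h2, -, -, -, -, -, -, h4, h5, h6, h7⟩ := facts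
  let f : A6 ≃* A6 := γ.trans (MulAut.conj r)
  show Rel (f ta) (f tc)
  refine ⟨?_, fun e => h2 (f.injective (e.trans (map_one f).symm)), ?_, ?_, ?_, ?_⟩
  · rw [← map_pow, h1, map_one]
  all_goals simp only [← map_pow, ← map_mul]
  · rw [h4, map_one]
  · rw [h5, map_one]
  · rw [h6, map_one]
  · rw [h7, map_one]

theorem inner_of_fix {γ : MulAut A6} (h5 : ¬ Sfive γ) (h3 : ¬ Sthree γ) :
    γ ∈ (MulAut.conj : A6 →* MulAut A6).range := by
  obtain ⟨r, hr⟩ := not_sfive h5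
  obtain ⟨s, hs⟩ := not_sthree h3
  have hrel := rel_image γ r
  rw [hr] at hrel
  obtain ⟨x1, x2, x3, x4, x5, x6⟩ := hrel
  obtain ⟨k, hk⟩ := (cand_one _ x1 x2 x3 x4 x5 x6).1
    (fix_of_conj (r := s * r⁻¹) (tcomp (x := r * γ ta * r⁻¹) (s := r⁻¹) (r := s) hs (by simp [mul_assoc])))
  set u := tc ^ k.1 * r with hu
  have hA : u * γ ta * u⁻¹ = ta := tcomp hk rfl
  have hC : u * γ tc * u⁻¹ = tc := tcomp (by rw [(Commute.pow_self tc k.1).eq, mul_inv_cancel_right]) hr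
  refine ⟨u⁻¹, MulEquiv.ext fun x => ?_⟩
  have hx : x ∈ MonoidHom.eqLocus ((MulAut.conj u).toMonoidHom.comp γ.toMonoidHom) (MonoidHom.id A6) := by
    have hle : Subgroup.closure ({ta, tc} : Set A6) ≤
        MonoidHom.eqLocus ((MulAut.conj u).toMonoidHom.comp γ.toMonoidHom) (MonoidHom.id A6) := by
      rw [Subgroup.closure_le]
      rintro y (rfl | rfl)
      · exact hA
      · exact hC
    rw [closure_top] at hle
    exact hle (Subgroup.mem_top x)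
  change u * γ x * u⁻¹ = x at hx
  rw [MulAut.conj_apply, inv_inv]
  conv_lhs => rw [← hx]
  simp [mul_assoc]

theorem relIndex_le : (MulAut.conj : A6 →* MulAut A6).range.relIndex ten ≤ 2 := by
  classical
  set K := (MulAut.conj : A6 →* MulAut A6).range.subgroupOf ten with hK
  have hin : ∀ γ δ : MulAut A6, γ ∈ ten → δ ∈ ten → (Sfive γ ↔ Sfive δ) →
      γ⁻¹ * δ ∈ (MulAut.conj : A6 →* MulAut A6).range := by
    intro γ δ hγ hδ h
    have hm : γ⁻¹ * δ ∈ ten := ten.mul_mem (ten.inv_mem hγ) hδ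
    have h5 : ¬ Sfive (γ⁻¹ * δ) := by
      intro hb
      have h' := sfive_mul γ (γ⁻¹ * δ)
      rw [mul_inv_cancel_left] at h'
      by_cases hg : Sfive γ
      · exact h'.1 (h.1 hg) (iff_of_true hg hb)
      · exact hg (h.2 (h'.2 fun he => hg (he.2 hb)))
    exact inner_of_fix h5 fun hb => h5 ((show Sfive (γ⁻¹ * δ) ↔ Sthree (γ⁻¹ * δ) from hm).2 hb)
  show K.index ≤ 2
  let f : ↥ten ⧸ K → Bool := fun q => decide (Sfive (Quotient.out q).1)
  have hf : Function.Injective f := by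
    intro a b h
    rw [← QuotientGroup.out_eq' a, ← QuotientGroup.out_eq' b, QuotientGroup.eq, Subgroup.mem_subgroupOf]
    simp only [f, decide_eq_decide] at h
    exact hin _ _ (Quotient.out a).2 (Quotient.out b).2 h
  calc K.index = Nat.card (↥ten ⧸ K) := rfl
    _ ≤ Nat.card Bool := Nat.card_le_card_of_injective f hf
    _ = 2 := by simp

end SixAutMat

open SixAutMat

/-- The three non-trivial cosets of the inner automorphisms of `A₆`. -/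
theorem six_cosets_mat : ∃ M : Subgroup (MulAut A6), (MulAut.conj : A6 →* _).range ≤ M ∧
    (MulAut.conj : A6 →* _).range.relIndex M ≤ 2 ∧
    (∀ γ ∈ M, γ ∉ (MulAut.conj : A6 →* _).range → ∃ c r : A6, c ≠ 1 ∧ c ^ 5 = 1 ∧ r * γ c * r⁻¹ = c ^ 2) ∧
    (∀ γ : MulAut A6, γ ∉ M → ∃ (a b r : A6) (i j k l : ℕ), a ^ 3 = 1 ∧ b ^ 3 = 1 ∧ a ≠ 1 ∧ a * b = b * a ∧
      (∀ h : A6, h * a = a * h → ∃ m n : ℕ, h = a ^ m * b ^ n) ∧
      r * γ a * r⁻¹ = a ^ i * b ^ j ∧ r * γ b * r⁻¹ = a ^ k * b ^ l ∧ (i * l + 2 * (j * k)) % 3 = 2) := by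
  obtain ⟨ha, hb, ha1, hab, -, -, hc1, hc5, hword, -⟩ := facts
  refine ⟨ten, ?_, relIndex_le, ?_, ?_⟩
  · rintro _ ⟨g, rfl⟩
    exact iff_of_false (not_sfive_conj g) (not_sthree_conj g)
  · intro γ hγ hne
    have h5 : Sfive γ := by
      by_contra h5
      exact hne (inner_of_fix h5 fun h3 => h5 ((show Sfive γ ↔ Sthree γ from hγ).2 h3))
    obtain ⟨r, hr⟩ := h5
    exact ⟨tc, r, hc1, hc5, hr⟩
  · intro γ hγ
    have hne : ¬ (Sfive γ ↔ Sthree γ) := hγ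
    have hcent : ∀ h : A6, h * ta = ta * h → ∃ m n : ℕ, h = ta ^ m * tb ^ n := fun h hh => by
      obtain ⟨m, n, e⟩ := cent h hh
      exact ⟨m, n, e⟩
    have hwordim : ∀ (u x d : A6), u * γ ta * u⁻¹ = x → u * γ tc * u⁻¹ = d →
        u * γ tb * u⁻¹ = d * d * x * d * x * d * d := by
      intro u x d hx hd
      rw [hword, ← hx, ← hd]
      simp only [map_mul, mul_assoc, inv_mul_cancel_left]
    by_cases h5 : Sfive γ
    · obtain ⟨s, hs⟩ := not_sthree fun h3 => hne (iff_of_true h5 h3)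
      obtain ⟨r, hr⟩ := h5
      have hrel := rel_image γ r
      rw [hr] at hrel
      obtain ⟨x1, x2, x3, x4, x5, x6⟩ := hrel
      obtain ⟨k, hk⟩ := cand_two _ x1 x2 x3 x4 x5 x6 (fix_of_conj (r := s * r⁻¹) (tcomp (x := r * γ ta * r⁻¹) (s := r⁻¹) (r := s) hs (by simp [mul_assoc])))
      have hA : (tc ^ k.1 * r) * γ ta * (tc ^ k.1 * r)⁻¹ = tx := tcomp hk rfl
      have hC : (tc ^ k.1 * r) * γ tc * (tc ^ k.1 * r)⁻¹ = tc ^ 2 :=
        tcomp (by rw [(Commute.pow_pow_self tc k.1 2).eq, mul_inv_cancel_right]) hr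
      exact ⟨ta, tb, tr * (tc ^ k.1 * r), 1, 0, 0, 2, ha, hb, ha1, hab, hcent, tcomp back.2.2.1 hA,
        tcomp back.2.2.2 (hwordim _ _ _ hA hC), rfl⟩
    · obtain ⟨s, hs⟩ : Sthree γ := by
        by_contra h3
        exact hne (iff_of_false h5 h3)
      obtain ⟨r, hr⟩ := not_sfive h5
      have hrel := rel_image γ r
      rw [hr] at hrel
      obtain ⟨x1, x2, x3, x4, x5, x6⟩ := hrel
      obtain ⟨k, hk⟩ := (cand_one _ x1 x2 x3 x4 x5 x6).2 (free_of_conj (r := s * r⁻¹) (tcomp (x := r * γ ta * r⁻¹) (s := r⁻¹) (r := s) hs (by simp [mul_assoc])))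
      have hA : (tc ^ k.1 * r) * γ ta * (tc ^ k.1 * r)⁻¹ = ty := tcomp hk rfl
      have hC : (tc ^ k.1 * r) * γ tc * (tc ^ k.1 * r)⁻¹ = tc :=
        tcomp (by rw [(Commute.pow_self tc k.1).eq, mul_inv_cancel_right]) hr
      exact ⟨ta, tb, tr * (tc ^ k.1 * r), 1, 2, 1, 1, ha, hb, ha1, hab, hcent, tcomp back.1 hA,
        tcomp back.2.1 (hwordim _ _ _ hA hC), rfl⟩

end Cfsg.Agent.ResidualThree.Psl
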