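import Mathlib.GroupTheory.SpecificGroups.Alternating
import Mathlib.SetTheory.Cardinal.Finite

/-!
Generators of the alternating group of degree six and the checks about them.
-/

set_option autoImplicit false

namespace Cfsg.Agent.ResidualThree.Psl.SixGen

open Equiv

local notation "A6" => alternatingGroup (Fin 6)

def s : A6 := ⟨swap 0 1 * swap 1 2 * swap 2 3 * swap 3 4, Equiv.Perm.mem_alternatingGroup.2 (by decide +kernel)⟩
def t : A6 := ⟨swap 3 4 * swap 4 5, Equiv.Perm.mem_alternatingGroup.2 (by decide +kernel)⟩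
def b : A6 := ⟨swap 0 1 * swap 1 2, Equiv.Perm.mem_alternatingGroup.2 (by decide +kernel)⟩
def tP : A6 := ⟨swap 0 1 * swap 1 3 * (swap 2 4 * swap 4 5), Equiv.Perm.mem_alternatingGroup.2 (by decide +kernel)⟩
def tS : A6 := ⟨swap 2 4 * swap 4 5, Equiv.Perm.mem_alternatingGroup.2 (by decide +kernel)⟩
def tM : A6 := ⟨swap 0 2 * swap 2 1 * (swap 3 5 * swap 5 4), Equiv.Perm.mem_alternatingGroup.2 (by decide +kernel)⟩
def r₀ : A6 := ⟨swap 2 3 * swap 4 5, Equiv.Perm.mem_alternatingGroup.2 (by decide +kernel)⟩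
def bWord (S T : A6) : A6 := S * S * T * S * T * S * S

theorem cands_one : ∀ T : A6, T ^ 3 = 1 → T ≠ 1 → (T * s ^ 3) ^ 3 = 1 → (T * s) ^ 4 = 1 →
    ∃ n : Fin 5, T = s ^ n.val * t * (s ^ n.val)⁻¹ ∨ T = s ^ n.val * tP * (s ^ n.val)⁻¹ := by decide +kernel

theorem cands_two : ∀ T : A6, T ^ 3 = 1 → T ≠ 1 → (T * (s * s) ^ 3) ^ 3 = 1 → (T * (s * s)) ^ 4 = 1 →
    ∃ n : Fin 5, T = s ^ n.val * tS * (s ^ n.val)⁻¹ ∨ T = s ^ n.val * tM * (s ^ n.val)⁻¹ := by decide +kernel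

theorem five_classes : ∀ x : A6, x ^ 5 = 1 → x ≠ 1 → ∃ a : A6, a * s * a⁻¹ = x ∨ a * (s * s) * a⁻¹ = x := by
  decide +kernel

theorem three_classes : ∀ x : A6, x ^ 3 = 1 → x ≠ 1 → ∃ a : A6, a * t * a⁻¹ = x ∨ a * tP * a⁻¹ = x := by
  decide +kernel

theorem not_conj : (∀ a : A6, a * s * a⁻¹ ≠ s * s) ∧ (∀ a : A6, a * t * a⁻¹ ≠ tP) ∧ (∀ a : A6, a * t * a⁻¹ ≠ tM) := by
  decide +kernel

theorem conj_tS : ∃ a : A6, a * t * a⁻¹ = tS := by decide +kernel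

theorem cent_t : ∀ h : A6, h * t = t * h → ∃ m n : Fin 3, h = t ^ m.val * b ^ n.val := by decide +kernel

theorem cent_card : Nat.card {h : A6 // h * t = t * h} = 9 := by
  rw [Nat.card_eq_fintype_card]; decide +kernel

theorem basics : s ^ 5 = 1 ∧ s ≠ 1 ∧ t ^ 3 = 1 ∧ t ≠ 1 ∧ tP ^ 3 = 1 ∧ b ^ 3 = 1 ∧ t * b = b * t ∧
    (t * s ^ 3) ^ 3 = 1 ∧ (t * s) ^ 4 = 1 ∧ (t * s) * (t * s) ≠ 1 ∧ bWord s t = b := by decide +kernel

theorem sym_data : r₀ * tS * r₀⁻¹ = t ^ 2 * b ^ 0 ∧ r₀ * bWord (s * s) tS * r₀⁻¹ = t ^ 0 * b ^ 1 := by decide +kernel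

theorem pgl_data : r₀ * tP * r₀⁻¹ = t ^ 2 * b ^ 1 ∧ r₀ * bWord s tP * r₀⁻¹ = t ^ 2 * b ^ 2 := by decide +kernel

end Cfsg.Agent.ResidualThree.Psl.SixGen
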